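import Mathlib

/-!
Basic facts about involutions and the subgroup generated by two involutions.
-/

set_option autoImplicit false

namespace CfsgLib.Involutions

variable {G : Type*} [Group G]

theorem orderOf_eq_two_iff_mul {x : G} : orderOf x = 2 ↔ x ≠ 1 ∧ x * x = 1 := by
  rw [orderOf_eq_prime_iff (p := 2), pow_two]
  exact and_comm

theorem mul_self_eq_one {x : G} (hx : orderOf x = 2) : x * x = 1 :=
  (orderOf_eq_two_iff_mul.mp hx).2

theorem ne_one_of_involution {x : G} (hx : orderOf x = 2) : x ≠ 1 :=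
  (orderOf_eq_two_iff_mul.mp hx).1

theorem inv_eq_self_of_involution {x : G} (hx : orderOf x = 2) : x⁻¹ = x :=
  inv_eq_of_mul_eq_one_right (mul_self_eq_one hx)

theorem orderOf_eq_two_iff_inv {x : G} : orderOf x = 2 ↔ x ≠ 1 ∧ x⁻¹ = x := by
  rw [orderOf_eq_two_iff_mul, inv_eq_iff_mul_eq_one]

theorem orderOf_conj_eq (g x : G) : orderOf (g * x * g⁻¹) = orderOf x :=
  MulEquiv.orderOf_eq (MulAut.conj g) x

theorem orderOf_eq_of_isConj {x y : G} (h : IsConj x y) : orderOf y = orderOf x := by
  obtain ⟨c, rfl⟩ := isConj_iff.mp h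
  exact orderOf_conj_eq c x

/-- If `x` inverts `a` then it inverts every power of `a`. -/
theorem inverts_zpow {x a : G} (h : x * a * x⁻¹ = a⁻¹) (k : ℤ) : x * a ^ k * x⁻¹ = (a ^ k)⁻¹ := by
  rw [← conj_zpow, h, inv_zpow]

theorem inverts_pow {x a : G} (h : x * a * x⁻¹ = a⁻¹) (k : ℕ) : x * a ^ k * x⁻¹ = (a ^ k)⁻¹ := by
  rw [← conj_pow, h, inv_pow]

/-- An involution inverts its product with another involution. -/
theorem left_inverts_prod {x y : G} (hx : orderOf x = 2) (hy : orderOf y = 2) :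
    x * (x * y) * x⁻¹ = (x * y)⁻¹ := by
  rw [mul_inv_rev, inv_eq_self_of_involution hx, inv_eq_self_of_involution hy, ← mul_assoc x x y,
    mul_self_eq_one hx, one_mul]

theorem right_inverts_prod {x y : G} (hx : orderOf x = 2) (hy : orderOf y = 2) :
    y * (x * y) * y⁻¹ = (x * y)⁻¹ := by
  rw [mul_inv_rev, inv_eq_self_of_involution hx, inv_eq_self_of_involution hy, mul_assoc y, mul_assoc x,
    mul_self_eq_one hy, mul_one]

theorem zpow_mul_involution {x y : G} (hx : orderOf x = 2) (hy : orderOf y = 2) (k : ℤ) :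
    (x * y) ^ k * x = x * (x * y) ^ (-k) := by
  have h := inverts_zpow (left_inverts_prod hx hy) k
  rw [zpow_neg, ← h]
  rw [inv_eq_self_of_involution hx, ← mul_assoc, ← mul_assoc, mul_self_eq_one hx, one_mul]

theorem involution_mul_zpow {x y : G} (hx : orderOf x = 2) (hy : orderOf y = 2) (k : ℤ) :
    x * (x * y) ^ k = (x * y) ^ (-k) * x := by
  rw [zpow_mul_involution hx hy, neg_neg]

theorem conj_by_zpow {x y : G} (hx : orderOf x = 2) (hy : orderOf y = 2) (k j : ℤ) :
    (x * y) ^ k * ((x * y) ^ j * x) * ((x * y) ^ k)⁻¹ = (x * y) ^ (2 * k + j) * x := by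
  rw [← zpow_neg, mul_assoc, mul_assoc, involution_mul_zpow hx hy, neg_neg, ← mul_assoc, ← mul_assoc,
    ← zpow_add, ← zpow_add]
  congr 2
  ring

theorem mem_closure_pair_iff {x y : G} (hx : orderOf x = 2) (hy : orderOf y = 2) {d : G} :
    d ∈ Subgroup.closure ({x, y} : Set G) ↔
      ∃ k : ℤ, d = (x * y) ^ k ∨ d = (x * y) ^ k * x := by
  constructor
  · intro hd
    induction hd using Subgroup.closure_induction with
    | mem a ha =>
      rcases ha with rfl | rfl
      · exact ⟨0, Or.inr (by simp)⟩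
      · refine ⟨-1, Or.inr ?_⟩
        rw [zpow_neg_one, mul_inv_rev, inv_eq_self_of_involution hy, inv_eq_self_of_involution hx,
          mul_assoc, mul_self_eq_one hx, mul_one]
    | one => exact ⟨0, Or.inl (by simp)⟩
    | mul a b _ _ iha ihb =>
      obtain ⟨k, rfl | rfl⟩ := iha <;> obtain ⟨j, rfl | rfl⟩ := ihb
      · exact ⟨k + j, Or.inl (zpow_add _ _ _).symm⟩
      · exact ⟨k + j, Or.inr (by rw [← mul_assoc, ← zpow_add])⟩
      · exact ⟨k + -j, Or.inr (by rw [mul_assoc, involution_mul_zpow hx hy, ← mul_assoc, ← zpow_add])⟩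
      · refine ⟨k + -j, Or.inl ?_⟩
        rw [mul_assoc, ← mul_assoc x, involution_mul_zpow hx hy, mul_assoc _ x x, mul_self_eq_one hx,
          mul_one, ← zpow_add]
    | inv a _ iha =>
      obtain ⟨k, rfl | rfl⟩ := iha
      · exact ⟨-k, Or.inl (zpow_neg _ _).symm⟩
      · refine ⟨k, Or.inr ?_⟩
        rw [mul_inv_rev, inv_eq_self_of_involution hx, ← zpow_neg, involution_mul_zpow hx hy, neg_neg]
  · rintro ⟨k, rfl | rfl⟩
    · exact Subgroup.zpow_mem _ (Subgroup.mul_mem _ (Subgroup.subset_closure (by simp))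
        (Subgroup.subset_closure (by simp))) k
    · exact Subgroup.mul_mem _ (Subgroup.zpow_mem _ (Subgroup.mul_mem _ (Subgroup.subset_closure (by simp))
        (Subgroup.subset_closure (by simp))) k) (Subgroup.subset_closure (by simp))

theorem left_not_mem_zpowers_prod {x y : G} (hx : orderOf x = 2) (hy : orderOf y = 2) :
    x ∉ Subgroup.zpowers (x * y) := by
  rintro ⟨k, hk⟩
  change (x * y) ^ k = x at hk
  have hc : x * (x * y) * x⁻¹ = x * y := by
    have hxc : Commute x (x * y) := by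
      have := (Commute.refl (x * y)).zpow_left k
      rwa [hk] at this
    rw [hxc.eq, mul_inv_cancel_right]
  have hsq : (x * y) * (x * y) = 1 := by
    have h2 := left_inverts_prod hx hy
    rw [hc] at h2
    exact mul_eq_one_iff_eq_inv.mpr h2
  obtain ⟨m, rfl | rfl⟩ := Int.even_or_odd' k
  · rw [zpow_mul, zpow_two, hsq, one_zpow] at hk
    exact ne_one_of_involution hx hk.symm
  · rw [zpow_add, zpow_mul, zpow_two, hsq, one_zpow, one_mul, zpow_one, mul_eq_left] at hk
    exact ne_one_of_involution hy hk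

theorem orderOf_zpow_mul_involution {x y : G} (hx : orderOf x = 2) (hy : orderOf y = 2) (k : ℤ) :
    orderOf ((x * y) ^ k * x) = 2 := by
  rw [orderOf_eq_two_iff_mul]
  constructor
  · intro h
    apply left_not_mem_zpowers_prod hx hy
    refine ⟨-k, ?_⟩
    change (x * y) ^ (-k) = x
    rw [zpow_neg]; exact inv_eq_of_mul_eq_one_right h
  · rw [mul_assoc, ← mul_assoc x, involution_mul_zpow hx hy, mul_assoc _ x x, mul_self_eq_one hx,
      mul_one, ← zpow_add, add_neg_cancel, zpow_zero]

theorem orderOf_eq_two_of_mem_closure_pair {x y : G} (hx : orderOf x = 2) (hy : orderOf y = 2) {d : G}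
    (hd : d ∈ Subgroup.closure ({x, y} : Set G)) (hd' : d ∉ Subgroup.zpowers (x * y)) :
    orderOf d = 2 := by
  obtain ⟨k, rfl | rfl⟩ := (mem_closure_pair_iff hx hy).mp hd
  · exact absurd ⟨k, rfl⟩ hd'
  · exact orderOf_zpow_mul_involution hx hy k

private theorem pow_val_add {a : G} {n : ℕ} [NeZero n] (hn : a ^ n = 1) (i j : ZMod n) :
    a ^ (i + j).val = a ^ i.val * a ^ j.val := by
  rw [ZMod.val_add, ← pow_eq_pow_mod _ hn, pow_add]

private theorem pow_val_sub {a : G} {n : ℕ} [NeZero n] (hn : a ^ n = 1) (i j : ZMod n) :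
    a ^ (i - j).val = a ^ i.val * (a ^ j.val)⁻¹ := by
  rw [eq_mul_inv_iff_mul_eq, ← pow_val_add hn, sub_add_cancel]

theorem closure_pair_mulEquiv_dihedral [Finite G] {x y : G} (hx : orderOf x = 2) (hy : orderOf y = 2) :
    Nonempty (↥(Subgroup.closure ({x, y} : Set G)) ≃* DihedralGroup (orderOf (x * y))) := by
  have : NeZero (orderOf (x * y)) := ⟨(orderOf_pos _).ne'⟩
  set a := x * y with ha
  have hn : a ^ orderOf a = 1 := pow_orderOf_eq_one a
  have hswap : ∀ i : ℕ, a ^ i * x = x * (a ^ i)⁻¹ := fun i => by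
    have := zpow_mul_involution hx hy (i : ℤ)
    rwa [zpow_natCast, zpow_neg, zpow_natCast] at this
  let f : DihedralGroup (orderOf a) → G
    | .r i => a ^ i.val
    | .sr i => x * a ^ i.val
  have hmul : ∀ u v, f (u * v) = f u * f v := by
    rintro (i | i) (j | j)
    · rw [DihedralGroup.r_mul_r]; exact pow_val_add hn i j
    · rw [DihedralGroup.r_mul_sr]
      change x * a ^ (j - i).val = a ^ i.val * (x * a ^ j.val)
      rw [← mul_assoc, hswap, pow_val_sub hn, mul_assoc]
      congr 1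
      exact (((Commute.refl a).pow_pow _ _).inv_right).eq
    · rw [DihedralGroup.sr_mul_r]
      change x * a ^ (i + j).val = x * a ^ i.val * a ^ j.val
      rw [pow_val_add hn, mul_assoc]
    · rw [DihedralGroup.sr_mul_sr]
      change a ^ (j - i).val = x * a ^ i.val * (x * a ^ j.val)
      rw [mul_assoc, ← mul_assoc (a ^ i.val), hswap, mul_assoc x (a ^ i.val)⁻¹, ← mul_assoc x x,
        mul_self_eq_one hx, one_mul, pow_val_sub hn]
      exact (((Commute.refl a).pow_pow _ _).inv_right).eq
  let F : DihedralGroup (orderOf a) →* G := MonoidHom.mk' f hmul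
  have hinj : Function.Injective F := by
    rw [injective_iff_map_eq_one]
    rintro (i | i) h
    · change a ^ i.val = 1 at h
      rw [DihedralGroup.one_def]
      congr 1
      rw [← ZMod.val_eq_zero]
      exact Nat.eq_zero_of_dvd_of_lt (orderOf_dvd_of_pow_eq_one h) (ZMod.val_lt i)
    · change x * a ^ i.val = 1 at h
      exfalso
      apply left_not_mem_zpowers_prod hx hy
      refine ⟨-(i.val : ℤ), ?_⟩
      change a ^ (-(i.val : ℤ)) = x
      rw [zpow_neg, zpow_natCast]
      exact (eq_inv_of_mul_eq_one_left h).symm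
  have hrange : F.range = Subgroup.closure ({x, y} : Set G) := by
    apply le_antisymm
    · rintro _ ⟨(i | i), rfl⟩
      · exact (mem_closure_pair_iff hx hy).mpr ⟨i.val, Or.inl (by rw [zpow_natCast]; rfl)⟩
      · refine (mem_closure_pair_iff hx hy).mpr ⟨-(i.val : ℤ), Or.inr ?_⟩
        rw [zpow_mul_involution hx hy, neg_neg, zpow_natCast]; rfl
    · rw [Subgroup.closure_le]
      rintro z (rfl | rfl)
      · exact ⟨.sr 0, by change z * a ^ (0 : ZMod (orderOf a)).val = z; simp⟩
      · refine ⟨.sr 1, ?_⟩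
        change x * a ^ (1 : ZMod (orderOf a)).val = z
        have : a ^ (1 : ZMod (orderOf a)).val = a := by
          rw [ZMod.val_one_eq_one_mod, ← pow_eq_pow_mod _ hn, pow_one]
        rw [this, ha, ← mul_assoc, mul_self_eq_one hx, one_mul]
  exact ⟨((MonoidHom.ofInjective hinj).trans (MulEquiv.subgroupCongr hrange)).symm⟩

theorem card_closure_pair [Finite G] {x y : G} (hx : orderOf x = 2) (hy : orderOf y = 2) :
    Nat.card (Subgroup.closure ({x, y} : Set G)) = 2 * orderOf (x * y) := by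
  obtain ⟨e⟩ := closure_pair_mulEquiv_dihedral hx hy
  rw [Nat.card_congr e.toEquiv, DihedralGroup.nat_card]

theorem conj_mem_closure_pair_eq {x y : G} (hx : orderOf x = 2) (hy : orderOf y = 2) {d : G}
    (hd : d ∈ Subgroup.closure ({x, y} : Set G)) :
    ∃ k : ℤ, d * x * d⁻¹ = (x * y) ^ (2 * k) * x := by
  obtain ⟨k, rfl | rfl⟩ := (mem_closure_pair_iff hx hy).mp hd
  · exact ⟨k, by simpa using conj_by_zpow hx hy k 0⟩
  · refine ⟨k, ?_⟩
    rw [mul_inv_rev, mul_assoc _ x x, mul_self_eq_one hx, mul_one, inv_eq_self_of_involution hx,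
      ← mul_assoc]
    have := conj_by_zpow hx hy k 0
    simpa [mul_assoc] using this

theorem conj_of_odd_order {x y : G} (hx : orderOf x = 2) (hy : orderOf y = 2)
    (hodd : Odd (orderOf (x * y))) :
    ∃ d ∈ Subgroup.closure ({x, y} : Set G), d * x * d⁻¹ = y := by
  obtain ⟨m, hm⟩ := hodd
  refine ⟨(x * y) ^ (m : ℤ), (mem_closure_pair_iff hx hy).mpr ⟨m, Or.inl rfl⟩, ?_⟩
  have h := conj_by_zpow hx hy (m : ℤ) 0
  rw [zpow_zero, one_mul] at h
  rw [h]
  have h2 : (x * y) ^ (2 * (m : ℤ) + 0) = (x * y)⁻¹ := by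
    apply eq_inv_of_mul_eq_one_left
    have := pow_orderOf_eq_one (x * y)
    rw [hm, pow_succ] at this
    rw [add_zero]
    exact_mod_cast this
  rw [h2, mul_inv_rev, inv_eq_self_of_involution hx, inv_eq_self_of_involution hy, mul_assoc,
    mul_self_eq_one hx, mul_one]

theorem isConj_of_odd_order {x y : G} (hx : orderOf x = 2) (hy : orderOf y = 2)
    (hodd : Odd (orderOf (x * y))) : IsConj x y := by
  obtain ⟨d, -, hd⟩ := conj_of_odd_order hx hy hodd
  exact isConj_iff.mpr ⟨d, hd⟩

theorem even_order_of_not_isConj {x y : G} (hx : orderOf x = 2) (hy : orderOf y = 2)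
    (h : ¬ IsConj x y) : Even (orderOf (x * y)) := by
  rcases Nat.even_or_odd (orderOf (x * y)) with he | ho
  · exact he
  · exact absurd (isConj_of_odd_order hx hy ho) h

theorem not_conj_of_even_order {x y : G} (hx : orderOf x = 2) (hy : orderOf y = 2)
    (heven : Even (orderOf (x * y))) {d : G} (hd : d ∈ Subgroup.closure ({x, y} : Set G)) :
    d * x * d⁻¹ ≠ y := by
  intro h
  obtain ⟨k, hk⟩ := conj_mem_closure_pair_eq hx hy hd
  have h2 : (x * y) ^ (2 * k + 1) = 1 := by
    rw [zpow_add_one, ← mul_assoc, ← hk, h, mul_self_eq_one hy]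
  rw [← orderOf_dvd_iff_zpow_eq_one] at h2
  have h3 : (2 : ℤ) ∣ 2 * k + 1 := (Int.natCast_dvd_natCast.mpr heven.two_dvd).trans h2
  omega

theorem orderOf_pow_half [Finite G] {a : G} (heven : Even (orderOf a)) :
    orderOf (a ^ (orderOf a / 2)) = 2 := by
  obtain ⟨m, hm⟩ := heven
  have hpos := orderOf_pos a
  rw [orderOf_pow' _ (by omega)]
  have h1 : orderOf a / 2 = m := by omega
  rw [h1, Nat.gcd_eq_right ⟨2, by omega⟩]
  exact Nat.div_eq_of_eq_mul_left (by omega) (by omega)

theorem central_involution [Finite G] {x y : G} (hx : orderOf x = 2) (hy : orderOf y = 2)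
    (heven : Even (orderOf (x * y))) :
    orderOf ((x * y) ^ (orderOf (x * y) / 2)) = 2 ∧
      Commute ((x * y) ^ (orderOf (x * y) / 2)) x ∧ Commute ((x * y) ^ (orderOf (x * y) / 2)) y := by
  have hz := orderOf_pow_half heven
  set n := orderOf (x * y) / 2
  have hinv : ((x * y) ^ n)⁻¹ = (x * y) ^ n := inv_eq_self_of_involution hz
  refine ⟨hz, ?_, ?_⟩
  · have h := inverts_pow (left_inverts_prod hx hy) n
    rw [hinv] at h
    exact (mul_inv_eq_iff_eq_mul.mp h).symm
  · have h := inverts_pow (right_inverts_prod hx hy) n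
    rw [hinv] at h
    exact (mul_inv_eq_iff_eq_mul.mp h).symm

/-- Two non-conjugate involutions commute with a common involution. -/
theorem exists_common_involution [Finite G] {x y : G} (hx : orderOf x = 2) (hy : orderOf y = 2)
    (h : ¬ IsConj x y) : ∃ z : G, orderOf z = 2 ∧ Commute z x ∧ Commute z y :=
  ⟨_, central_involution hx hy (even_order_of_not_isConj hx hy h)⟩

theorem isPGroup_two_closure_pair [Finite G] {x y : G} (hx : orderOf x = 2) (hy : orderOf y = 2)
    {k : ℕ} (h : orderOf (x * y) = 2 ^ k) : IsPGroup 2 (Subgroup.closure ({x, y} : Set G)) := by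
  apply IsPGroup.of_card (n := k + 1)
  rw [card_closure_pair hx hy, h, pow_succ, mul_comm]

/-- If the product of two involutions has order `2 ^ k * m` with `m` odd, then `x` and some
conjugate of `y` generate a 2-group; concretely that conjugate is `x * (x * y) ^ m`. -/
theorem exists_two_subgroup_pair [Finite G] {x y : G} (hx : orderOf x = 2) (hy : orderOf y = 2)
    (heven : Even (orderOf (x * y))) :
    ∃ y' : G, IsConj y y' ∧ orderOf y' = 2 ∧ x ≠ y' ∧
      IsPGroup 2 (Subgroup.closure ({x, y'} : Set G)) := by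
  obtain ⟨k, m, hm, hkm⟩ := Nat.exists_eq_two_pow_mul_odd (orderOf_pos (x * y)).ne'
  obtain ⟨j, rfl⟩ := hm
  set a := x * y with ha
  refine ⟨a ^ (-(2 * (j : ℤ) + 1)) * x, ?_, orderOf_zpow_mul_involution hx hy _, ?_, ?_⟩
  · refine isConj_iff.mpr ⟨a ^ (-(j : ℤ)), ?_⟩
    have h := conj_by_zpow hx hy (-(j : ℤ)) (-1)
    have hy' : a ^ (-1 : ℤ) * x = y := by
      rw [zpow_neg_one, ha, mul_inv_rev, inv_eq_self_of_involution hx, inv_eq_self_of_involution hy,
        mul_assoc, mul_self_eq_one hx, mul_one]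
    rw [← ha, hy'] at h
    rw [h]
    congr 2
    ring
  · intro h
    have h' : a ^ (-(2 * (j : ℤ) + 1)) = 1 := mul_eq_right.mp h.symm
    rw [zpow_neg, inv_eq_one, ← orderOf_dvd_iff_zpow_eq_one] at h'
    have h2 : (2 : ℤ) ∣ 2 * (j : ℤ) + 1 := (Int.natCast_dvd_natCast.mpr heven.two_dvd).trans h'
    omega
  · apply isPGroup_two_closure_pair hx (orderOf_zpow_mul_involution hx hy _) (k := k)
    have hxy' : x * (a ^ (-(2 * (j : ℤ) + 1)) * x) = a ^ (2 * j + 1) := by
      rw [← mul_assoc, involution_mul_zpow hx hy, neg_neg, mul_assoc, mul_self_eq_one hx, mul_one]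
      exact_mod_cast rfl
    rw [hxy', orderOf_pow' _ (by omega), hkm, Nat.gcd_eq_right (dvd_mul_left _ _),
      Nat.mul_div_cancel _ (by omega)]

end CfsgLib.Involutions
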