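import Mathlib
import Cfsg.Agent.Lib.Involutions.Basic

/-!
The Baer–Suzuki theorem, by the argument of Alperin and Lyons.
-/

set_option autoImplicit false

namespace CfsgLib.Involutions

variable {G : Type*} [Group G]

theorem map_conj_closure (y : G) (C : Set G) :
    (Subgroup.closure C).map (MulAut.conj y).toMonoidHom =
      Subgroup.closure ((fun c => y * c * y⁻¹) '' C) := by
  rw [MonoidHom.map_closure]
  rfl

theorem mem_normalizer_closure [Finite G] {C : Set G} {a : G}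
    (h : ∀ c ∈ C, a * c * a⁻¹ ∈ Subgroup.closure C) :
    a ∈ Subgroup.normalizer (Subgroup.closure C : Set G) := by
  refine Subgroup.mem_normalizer_fintype fun x hx => ?_
  have hle : (Subgroup.closure C).map (MulAut.conj a).toMonoidHom ≤ Subgroup.closure C := by
    rw [map_conj_closure, Subgroup.closure_le]
    rintro _ ⟨c, hc, rfl⟩
    exact h c hc
  exact hle ⟨x, hx, rfl⟩

private theorem exists_normalizing_elt [Finite G] {p : ℕ} [Fact p.Prime] {D A C : Set G}
    (hD : ∀ g : G, ∀ d ∈ D, g * d * g⁻¹ ∈ D) (hA : ∀ x, x ∈ D → x ∈ Subgroup.closure A → x ∈ A)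
    (hAD : A ⊆ D) (hS : IsPGroup p (Subgroup.closure A)) (hCA : C ⊆ A)
    (hne : ¬ A ⊆ Subgroup.closure C) :
    ∃ a ∈ A, a ∉ Subgroup.closure C ∧ a ∈ Subgroup.normalizer (Subgroup.closure C : Set G) := by
  by_contra hno
  push_neg at hno
  set T := Subgroup.closure C
  set S := Subgroup.closure A
  have hTS : T ≤ S := Subgroup.closure_mono hCA
  set T1 := Subgroup.normalizer (T : Set G) ⊓ S
  have hT1 : ∀ a ∈ A, a ∈ T1 → a ∈ T := fun a ha haT => by
    by_contra h
    exact hno a ha h haT.1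
  obtain ⟨a0, ha0, ha0T⟩ := Set.not_subset.mp hne
  have hlt : T1 < S := lt_of_le_of_ne inf_le_right fun h =>
    ha0T (hT1 a0 ha0 (h.ge (Subgroup.subset_closure ha0)))
  have hnil : Group.IsNilpotent S := hS.isNilpotent
  have hne1 : T1.subgroupOf S < ⊤ := by
    rw [lt_top_iff_ne_top, Ne, Subgroup.subgroupOf_eq_top]
    exact not_le_of_gt hlt
  obtain ⟨⟨y, hyS⟩, hy, hy1⟩ := SetLike.exists_of_lt (normalizerCondition_of_isNilpotent _ hne1)
  apply hy1
  rw [Subgroup.mem_subgroupOf]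
  refine ⟨mem_normalizer_closure fun c hc => ?_, hyS⟩
  refine hT1 _ (hA _ (hD y c (hAD (hCA hc))) ?_) ?_
  · exact S.mul_mem (S.mul_mem hyS (Subgroup.subset_closure (hCA hc))) (S.inv_mem hyS)
  · have hcT1 : c ∈ T1 :=
      ⟨Subgroup.le_normalizer (Subgroup.subset_closure hc), Subgroup.subset_closure (hCA hc)⟩
    exact (Subgroup.mem_normalizer_iff.mp hy ⟨c, Subgroup.subset_closure (hCA hc)⟩).mp hcT1

/-- Baer–Suzuki: a conjugation-invariant set, any two members of which generate a `p`-group,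
generates a `p`-group. -/
theorem isPGroup_closure_of_pairwise [Finite G] {p : ℕ} [Fact p.Prime] {D : Set G}
    (hD : ∀ g : G, ∀ d ∈ D, g * d * g⁻¹ ∈ D)
    (hpair : ∀ a ∈ D, ∀ b ∈ D, IsPGroup p (Subgroup.closure ({a, b} : Set G))) :
    IsPGroup p (Subgroup.closure D) := by
  classical
  by_contra hnot
  let F : Set (Set G) := {A | A ⊆ D ∧ IsPGroup p (Subgroup.closure A)}
  have hext : ∀ A ∈ F, ∃ M, A ⊆ M ∧ Maximal (· ∈ F) M := fun A hA =>
    Set.Finite.exists_le_maximal (Set.toFinite F) hA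
  have hcl : ∀ M, Maximal (· ∈ F) M → ∀ x, x ∈ D → x ∈ Subgroup.closure M → x ∈ M := by
    intro M hM x hxD hxM
    have hF : insert x M ∈ F := by
      refine ⟨Set.insert_subset hxD hM.1.1, hM.1.2.to_le ?_⟩
      rw [Subgroup.closure_le]
      exact Set.insert_subset hxM Subgroup.subset_closure
    exact hM.le_of_ge hF (Set.subset_insert x M) (Set.mem_insert x M)
  obtain ⟨A0, -, hA0⟩ := hext ∅ ⟨Set.empty_subset D, by rw [Subgroup.closure_empty]; exact IsPGroup.of_bot⟩
  let P : Set (Set G × Set G) :=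
    {q | Maximal (· ∈ F) q.1 ∧ Maximal (· ∈ F) q.2 ∧ q.1 ≠ q.2}
  have hPne : P.Nonempty := by
    have h : ¬ D ⊆ A0 := fun h => hnot (hA0.1.2.to_le (Subgroup.closure_mono h))
    obtain ⟨d, hd, hdA⟩ := Set.not_subset.mp h
    obtain ⟨M, hM, hMmax⟩ := hext {d} ⟨Set.singleton_subset_iff.mpr hd, by
      have := hpair d hd d hd
      rwa [Set.pair_eq_singleton] at this⟩
    exact ⟨(A0, M), hA0, hMmax, fun h => hdA ((show A0 = M from h).symm ▸ hM rfl)⟩
  obtain ⟨⟨A, B⟩, ⟨hA, hB, hAB⟩, hmax⟩ :=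
    Set.exists_max_image P (fun q => (q.1 ∩ q.2).ncard) (Set.toFinite P) hPne
  set C := A ∩ B with hC
  have hA' : ¬ A ⊆ Subgroup.closure C := fun h =>
    hAB (hA.eq_of_le hB.1 fun a ha =>
      hcl B hB a (hA.1.1 ha) (Subgroup.closure_mono Set.inter_subset_right (h ha)))
  have hB' : ¬ B ⊆ Subgroup.closure C := fun h =>
    hAB (hB.eq_of_le hA.1 fun a ha =>
      hcl A hA a (hB.1.1 ha) (Subgroup.closure_mono Set.inter_subset_left (h ha))).symm
  obtain ⟨a, ha, haC, haN⟩ :=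
    exists_normalizing_elt hD (hcl A hA) hA.1.1 hA.1.2 Set.inter_subset_left hA'
  obtain ⟨b, hb, hbC, hbN⟩ :=
    exists_normalizing_elt hD (hcl B hB) hB.1.1 hB.1.2 Set.inter_subset_right hB'
  set H := Subgroup.closure ({a, b} : Set G)
  have hH : IsPGroup p H := hpair a (hA.1.1 ha) b (hB.1.1 hb)
  have hHN : H ≤ Subgroup.normalizer (Subgroup.closure C : Set G) := by
    rw [Subgroup.closure_le]
    exact Set.insert_subset haN (Set.singleton_subset_iff.mpr hbN)
  have hCp : IsPGroup p (Subgroup.closure C) := hA.1.2.to_le (Subgroup.closure_mono Set.inter_subset_left)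
  have hsup : IsPGroup p (H ⊔ Subgroup.closure C : Subgroup G) := hH.to_sup_of_normal_right' hCp hHN
  have hF : C ∪ {a, b} ∈ F := by
    refine ⟨Set.union_subset (Set.inter_subset_left.trans hA.1.1)
      (Set.insert_subset (hA.1.1 ha) (Set.singleton_subset_iff.mpr (hB.1.1 hb))), ?_⟩
    rw [Subgroup.closure_union, sup_comm]
    exact hsup
  obtain ⟨M, hM, hMmax⟩ := hext _ hF
  have haB : a ∉ B := fun h => haC (Subgroup.subset_closure ⟨ha, h⟩)
  have hbA : b ∉ A := fun h => hbC (Subgroup.subset_closure ⟨h, hb⟩)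
  have hbM : b ∈ M := hM (Or.inr (Or.inr rfl))
  have haM : a ∈ M := hM (Or.inr (Or.inl rfl))
  have hle := hmax (A, M) ⟨hA, hMmax, fun h => hbA ((show A = M from h).symm ▸ hbM)⟩
  have hlt : C.ncard < (A ∩ M).ncard :=
    Set.ncard_lt_ncard ((Set.ssubset_iff_of_subset (t := A ∩ M) fun c hc => ⟨hc.1, hM (Or.inl hc)⟩).mpr
      ⟨a, ⟨ha, haM⟩, fun h => haB h.2⟩) (Set.toFinite _)
  exact absurd hle (not_le.mpr hlt)

/-- An element whose every conjugate generates a `p`-group together with it lies in a normal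
`p`-subgroup. -/
theorem exists_normal_isPGroup_of_mem [Finite G] {p : ℕ} [Fact p.Prime] {x : G}
    (h : ∀ g : G, IsPGroup p (Subgroup.closure ({x, g * x * g⁻¹} : Set G))) :
    ∃ N : Subgroup G, N.Normal ∧ IsPGroup p N ∧ x ∈ N := by
  refine ⟨Subgroup.normalClosure {x}, Subgroup.normalClosure_normal, ?_, Subgroup.subset_normalClosure rfl⟩
  apply isPGroup_closure_of_pairwise
  · intro g d hd
    obtain ⟨a, rfl, c, rfl⟩ : ∃ a, a = x ∧ ∃ c, c * a * c⁻¹ = d := by
      obtain ⟨a, ha, hc⟩ := Group.mem_conjugatesOfSet_iff.mp hd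
      exact ⟨a, ha, isConj_iff.mp hc⟩
    exact Group.mem_conjugatesOfSet_iff.mpr ⟨a, rfl, isConj_iff.mpr ⟨g * c, by group⟩⟩
  · intro a ha b hb
    obtain ⟨v, hv, hac⟩ := Group.mem_conjugatesOfSet_iff.mp ha
    obtain ⟨w, hw, hbc⟩ := Group.mem_conjugatesOfSet_iff.mp hb
    rw [Set.mem_singleton_iff] at hv hw
    rw [hv] at hac
    rw [hw] at hbc
    obtain ⟨c, rfl⟩ := isConj_iff.mp hac
    obtain ⟨e, rfl⟩ := isConj_iff.mp hbc
    have := (h (c⁻¹ * e)).map (MulAut.conj c).toMonoidHom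
    rw [map_conj_closure, Set.image_pair] at this
    have he : c * (c⁻¹ * e * x * (c⁻¹ * e)⁻¹) * c⁻¹ = e * x * e⁻¹ := by group
    rwa [he] at this

end CfsgLib.Involutions
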