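import Mathlib
import Cfsg.Prelude.Def_Involutions
import Cfsg.Agent.Lib.Involutions.Basic

/-!
Strongly embedded subgroups: elementary equivalences.
-/

set_option autoImplicit false

namespace CfsgLib.Involutions

open Cfsg (IsStronglyEmbedded)

variable {G : Type*} [Group G]

theorem exists_involution_of_even_card [Finite G] (K : Subgroup G) (h : Even (Nat.card K)) :
    ∃ t ∈ K, orderOf t = 2 := by
  obtain ⟨t, ht⟩ := exists_prime_orderOf_dvd_card' (G := K) 2 h.two_dvd
  exact ⟨t, t.2, by rwa [Subgroup.orderOf_coe]⟩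

theorem even_card_of_involution_mem {K : Subgroup G} {t : G} (htK : t ∈ K) (ht : orderOf t = 2) :
    Even (Nat.card K) := by
  rw [even_iff_two_dvd, ← ht]
  exact Subgroup.orderOf_dvd_natCard K htK

theorem mem_map_conj_iff {H : Subgroup G} {g x : G} :
    x ∈ H.map (MulAut.conj g).toMonoidHom ↔ g⁻¹ * x * g ∈ H := by
  rw [Subgroup.mem_map_equiv]
  simp [MulAut.conj_symm_apply]

/-- Strong embedding in terms of involutions. -/
theorem isStronglyEmbedded_iff [Finite G] {H : Subgroup G} :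
    IsStronglyEmbedded H ↔ H ≠ ⊤ ∧ Even (Nat.card H) ∧
      ∀ g : G, g ∉ H → ∀ t ∈ H, orderOf t = 2 → g⁻¹ * t * g ∉ H := by
  refine and_congr_right fun _ => and_congr_right fun _ => forall_congr' fun g => imp_congr_right fun _ => ?_
  constructor
  · intro hodd t htH ht hc
    exact (Nat.not_even_iff_odd.mpr hodd) (even_card_of_involution_mem (K := H ⊓ H.map (MulAut.conj g).toMonoidHom) ⟨htH, mem_map_conj_iff.mpr hc⟩ ht)
  · intro h
    rw [← Nat.not_even_iff_odd]
    intro he
    obtain ⟨t, ⟨htH, htg⟩, ht⟩ := exists_involution_of_even_card _ he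
    exact h t htH ht (mem_map_conj_iff.mp htg)

theorem se_mem_of_conj_mem [Finite G] {H : Subgroup G} (hH : IsStronglyEmbedded H) {g t : G}
    (htH : t ∈ H) (ht : orderOf t = 2) (h : g⁻¹ * t * g ∈ H) : g ∈ H := by
  by_contra hg
  exact (isStronglyEmbedded_iff.mp hH).2.2 g hg t htH ht h

theorem se_centralizer_le [Finite G] {H : Subgroup G} (hH : IsStronglyEmbedded H) {t : G}
    (htH : t ∈ H) (ht : orderOf t = 2) : Subgroup.centralizer ({t} : Set G) ≤ H := by
  intro g hg
  rw [Subgroup.mem_centralizer_singleton_iff] at hg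
  refine se_mem_of_conj_mem hH htH ht ?_
  rwa [mul_assoc, ← hg, ← mul_assoc, inv_mul_cancel, one_mul]

theorem se_normalizer_le [Finite G] {H : Subgroup G} (hH : IsStronglyEmbedded H) {X : Subgroup G}
    (hXH : X ≤ H) (hX : Even (Nat.card X)) : Subgroup.normalizer (X : Set G) ≤ H := by
  intro g hg
  obtain ⟨t, htX, ht⟩ := exists_involution_of_even_card X hX
  exact se_mem_of_conj_mem hH (hXH htX) ht (hXH ((Subgroup.mem_normalizer_iff''.mp hg t).mp htX))

/-- In a `p`-group `S`, a proper subgroup `D` is properly contained in its normalizer. -/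
theorem exists_mem_normalizer_notMem [Finite G] {p : ℕ} [Fact p.Prime] {D S : Subgroup G}
    (hS : IsPGroup p S) (hlt : D < S) : ∃ y ∈ S, y ∉ D ∧ y ∈ Subgroup.normalizer (D : Set G) := by
  have hnil : Group.IsNilpotent S := hS.isNilpotent
  have hne : D.subgroupOf S < ⊤ := by
    rw [lt_top_iff_ne_top, Ne, Subgroup.subgroupOf_eq_top]
    exact not_le_of_gt hlt
  obtain ⟨⟨y, hyS⟩, hy, hyD⟩ := SetLike.exists_of_lt (normalizerCondition_of_isNilpotent _ hne)
  refine ⟨y, hyS, fun h => hyD h, ?_⟩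
  rw [Subgroup.mem_normalizer_iff] at hy ⊢
  intro h
  constructor
  · intro hh
    exact (hy ⟨h, hlt.le hh⟩).mp hh
  · intro hh
    have hhS : h ∈ S := by
      have h2 := S.mul_mem (S.mul_mem (S.inv_mem hyS) (hlt.le hh)) hyS
      simpa [mul_assoc] using h2
    exact (hy ⟨h, hhS⟩).mpr hh

/-- A subgroup containing the normalizers of all its nontrivial 2-subgroups is strongly
embedded, if it is proper of even order. -/
theorem isStronglyEmbedded_of_normalizers [Finite G] {H : Subgroup G} (hne : H ≠ ⊤)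
    (heven : Even (Nat.card H))
    (hN : ∀ X : Subgroup G, X ≤ H → IsPGroup 2 X → X ≠ ⊥ → Subgroup.normalizer (X : Set G) ≤ H) :
    IsStronglyEmbedded H := by
  classical
  rw [isStronglyEmbedded_iff]
  refine ⟨hne, heven, fun g hgH t htH ht htg => hgH ?_⟩
  let φ : G →* G := (MulAut.conj g⁻¹).toMonoidHom
  have hφ : ∀ x, φ x = g⁻¹ * x * g := fun x => by simp [φ]
  have hφinj : Function.Injective φ := (MulAut.conj g⁻¹).injective
  let K : Subgroup G := H ⊓ H.comap φ
  have htK : t ∈ K := ⟨htH, show φ t ∈ H by rw [hφ]; exact htg⟩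
  obtain ⟨D₀⟩ : Nonempty (Sylow 2 K) := inferInstance
  let D : Subgroup G := (D₀ : Subgroup K).map K.subtype
  have hD0 : IsPGroup 2 D := D₀.isPGroup'.map _
  have hDK : D ≤ K := Subgroup.map_subtype_le _
  have hDH : D ≤ H := hDK.trans inf_le_left
  have hD'H : D.map φ ≤ H := Subgroup.map_le_iff_le_comap.mpr (hDK.trans inf_le_right)
  have hDcard : Nat.card D = Nat.card (D₀ : Subgroup K) := Subgroup.card_subtype K D₀
  have hDbot : D ≠ ⊥ := by
    intro h
    have h2 : 2 ∣ Nat.card (D₀ : Subgroup K) :=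
      D₀.dvd_card_of_dvd_card (even_card_of_involution_mem htK ht).two_dvd
    rw [← hDcard, h, Subgroup.card_bot] at h2
    omega
  obtain ⟨S₀, hS₀⟩ :=
    (hD0.comap_subtype (K := H)).exists_le_sylow
  let S : Subgroup G := (S₀ : Subgroup H).map H.subtype
  have hS : IsPGroup 2 S := S₀.isPGroup'.map _
  have hDS : D ≤ S := fun x hx => ⟨⟨x, hDH hx⟩, hS₀ hx, rfl⟩
  have hSH : S ≤ H := Subgroup.map_subtype_le _
  rcases hDS.eq_or_lt with hEq | hlt
  · have hD'0 : IsPGroup 2 (D.map φ) := hD0.map _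
    obtain ⟨S₁, hS₁⟩ :=
      (hD'0.comap_subtype (K := H)).exists_le_sylow
    obtain ⟨k, hk⟩ := MulAction.exists_smul_eq H S₀ S₁
    have hcard : Nat.card (S₁ : Subgroup H) = Nat.card (S₀ : Subgroup H) :=
      (Nat.card_congr (Sylow.equiv S₀ S₁).toEquiv).symm
    have hS₁' : (S₁ : Subgroup H).map H.subtype = D.map φ := by
      have hle : D.map φ ≤ (S₁ : Subgroup H).map H.subtype := fun x hx =>
        ⟨⟨x, hD'H hx⟩, hS₁ hx, rfl⟩
      refine (Subgroup.eq_of_le_of_card_ge hle ?_).symm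
      rw [Subgroup.card_map_of_injective H.subtype_injective, hcard,
        Subgroup.card_map_of_injective hφinj, hEq, Subgroup.card_map_of_injective H.subtype_injective]
    have hgk : g * (k : G) ∈ Subgroup.normalizer (D : Set G) := by
      refine Subgroup.mem_normalizer_fintype fun x hx => ?_
      rw [SetLike.mem_coe] at hx ⊢
      have hkx : (k : G) * x * (k : G)⁻¹ ∈ D.map φ := by
        rw [← hS₁', ← hk]
        obtain ⟨x', hx', rfl⟩ : x ∈ S := hDS hx
        refine ⟨k * x' * k⁻¹, ?_, by simp⟩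
        exact ⟨x', hx', by simp⟩
      obtain ⟨y, hy, hy'⟩ := hkx
      rw [hφ] at hy'
      have hyx : g * (k : G) * x * (g * (k : G))⁻¹ = y := by
        calc g * (k : G) * x * (g * (k : G))⁻¹ = g * ((k : G) * x * (k : G)⁻¹) * g⁻¹ := by group
          _ = y := by rw [← hy']; group
      rw [hyx]; exact hy
    have h2 := hN D hDH hD0 hDbot hgk
    simpa using H.mul_mem h2 (H.inv_mem k.2)
  · obtain ⟨y, hyS, hyD, hyN⟩ := exists_mem_normalizer_notMem hS hlt
    have hyK : y ∈ K := by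
      refine ⟨hN D hDH hD0 hDbot hyN, ?_⟩
      change φ y ∈ H
      refine hN (D.map φ) hD'H (hD0.map _) ?_ ?_
      · rwa [Ne, Subgroup.map_eq_bot_iff_of_injective _ hφinj]
      · exact Subgroup.le_normalizer_map φ ⟨y, hyN, rfl⟩
    exfalso
    -- the subgroup generated by `D` and `y` is a 2-subgroup of `K` larger than `D`
    have hle : D ⊔ Subgroup.zpowers y ≤ S ⊓ K :=
      sup_le (le_inf hDS hDK) ((Subgroup.zpowers_le).mpr ⟨hyS, hyK⟩)
    have hP : IsPGroup 2 ((D ⊔ Subgroup.zpowers y).subgroupOf K) :=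
      ((hS.to_le (hle.trans inf_le_left))).comap_subtype
    have heq := D₀.is_maximal' hP (fun x hx =>
      (le_sup_left : D ≤ D ⊔ Subgroup.zpowers y) ⟨x, hx, rfl⟩)
    apply hyD
    exact ⟨⟨y, hyK⟩, heq ▸ (le_sup_right : Subgroup.zpowers y ≤ D ⊔ Subgroup.zpowers y) (Subgroup.mem_zpowers y), rfl⟩

theorem isStronglyEmbedded_iff_fusion [Finite G] {H : Subgroup G} (hne : H ≠ ⊤)
    (heven : Even (Nat.card H)) :
    IsStronglyEmbedded H ↔
      (∀ t ∈ H, orderOf t = 2 → Subgroup.centralizer ({t} : Set G) ≤ H) ∧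
      (∀ t ∈ H, ∀ s ∈ H, orderOf t = 2 → orderOf s = 2 → IsConj t s → ∃ h ∈ H, h * t * h⁻¹ = s) := by
  constructor
  · intro hH
    refine ⟨fun t htH ht => se_centralizer_le hH htH ht, fun t htH s hsH ht hs hc => ?_⟩
    obtain ⟨c, hc⟩ := isConj_iff.mp hc
    refine ⟨c, se_mem_of_conj_mem hH hsH hs ?_, hc⟩
    rw [← hc]; simpa [mul_assoc] using htH
  · rintro ⟨hC, hF⟩
    rw [isStronglyEmbedded_iff]
    refine ⟨hne, heven, fun g hg t htH ht hs => hg ?_⟩
    have ho : orderOf (g⁻¹ * t * g) = 2 := by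
      simpa using (orderOf_conj_eq g⁻¹ t).trans ht
    obtain ⟨h, hhH, hh⟩ := hF t htH _ hs ht ho (isConj_iff.mpr ⟨g⁻¹, by simp⟩)
    have h2 : g * h ∈ Subgroup.centralizer ({t} : Set G) := by
      rw [Subgroup.mem_centralizer_singleton_iff]
      calc g * h * t = g * (h * t * h⁻¹) * h := by group
        _ = t * (g * h) := by rw [hh]; group
    simpa using H.mul_mem (hC t htH ht h2) (H.inv_mem hhH)

theorem smul_coset_eq_iff {H : Subgroup G} {t g : G} :
    t • (g : G ⧸ H) = (g : G ⧸ H) ↔ g⁻¹ * t * g ∈ H := by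
  change ((t * g : G) : G ⧸ H) = (g : G ⧸ H) ↔ _
  rw [eq_comm, QuotientGroup.eq, ← mul_assoc]

theorem card_fixed_coset_eq_one_iff {H : Subgroup G} {t : G} (htH : t ∈ H) :
    Nat.card {c : G ⧸ H // t • c = c} = 1 ↔ ∀ g : G, g⁻¹ * t * g ∈ H → g ∈ H := by
  have h1 : t • ((1 : G) : G ⧸ H) = ((1 : G) : G ⧸ H) := smul_coset_eq_iff.mpr (by simpa using htH)
  constructor
  · intro h g hg
    obtain ⟨hs, -⟩ := Nat.card_eq_one_iff_unique.mp h
    have := congrArg Subtype.val (hs.elim ⟨_, h1⟩ ⟨_, smul_coset_eq_iff.mpr hg⟩)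
    rw [QuotientGroup.eq] at this
    simpa using this
  · intro h
    rw [Nat.card_eq_one_iff_unique]
    refine ⟨⟨fun a b => ?_⟩, ⟨⟨_, h1⟩⟩⟩
    have key : ∀ c : {c : G ⧸ H // t • c = c}, c.1 = ((1 : G) : G ⧸ H) := by
      rintro ⟨c, hc⟩
      obtain ⟨g, rfl⟩ := QuotientGroup.mk_surjective c
      rw [QuotientGroup.eq]
      simpa using h g (smul_coset_eq_iff.mp hc)
    exact Subtype.ext ((key a).trans (key b).symm)

end CfsgLib.Involutions
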