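import Mathlib
import Cfsg.Prelude.Def_TwoFusion

/-!
Elementary theory of isolated involutions.
-/

set_option autoImplicit false

namespace CfsgLib.Involutions.Isolated

variable {G : Type*} [Group G]

theorem involution_inv {t : G} (ht : orderOf t = 2) : t⁻¹ = t := by
  have : t * t = 1 := by
    have := pow_orderOf_eq_one t
    rw [ht, pow_two] at this
    exact this
  exact inv_eq_of_mul_eq_one_right this

theorem involution_mul_self {t : G} (ht : orderOf t = 2) : t * t = 1 := by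
  calc t * t = t⁻¹ * t := by rw [involution_inv ht]
    _ = 1 := inv_mul_cancel t

/-- Two elements of odd order with the same square are equal. -/
theorem sq_inj_of_odd {a b : G} (ha : Odd (orderOf a)) (hb : Odd (orderOf b))
    (h : a ^ 2 = b ^ 2) : a = b := by
  obtain ⟨m, hm⟩ := ha.mul hb
  have h1 : a ^ (2 * m + 1) = 1 := by
    rw [← hm, pow_mul, pow_orderOf_eq_one, one_pow]
  have h2 : b ^ (2 * m + 1) = 1 := by
    rw [← hm, mul_comm (orderOf a), pow_mul, pow_orderOf_eq_one, one_pow]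
  have e1 : a = (a ^ 2) ^ (m + 1) := by
    rw [← pow_mul, show 2 * (m + 1) = (2 * m + 1) + 1 by ring, pow_succ, h1, one_mul]
  have e2 : b = (b ^ 2) ^ (m + 1) := by
    rw [← pow_mul, show 2 * (m + 1) = (2 * m + 1) + 1 by ring, pow_succ, h2, one_mul]
  rw [e1, e2, h]

/-- An element of odd order has a square root among its powers. -/
theorem exists_sqrt_of_odd {k : G} (hk : Odd (orderOf k)) :
    ∃ d ∈ Subgroup.zpowers k, d ^ 2 = k ∧ Odd (orderOf d) := by
  obtain ⟨m, hm⟩ := hk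
  refine ⟨k ^ (m + 1), Subgroup.npow_mem_zpowers k (m + 1), ?_, ?_⟩
  · rw [← pow_mul, show (m + 1) * 2 = (2 * m + 1) + 1 by ring, pow_succ, ← hm,
      pow_orderOf_eq_one, one_mul]
  · exact Odd.of_dvd_nat ⟨m, hm⟩ (orderOf_pow_dvd _)

theorem inv_of_mem_zpowers {t k d : G} (ht : t * k * t⁻¹ = k⁻¹)
    (hd : d ∈ Subgroup.zpowers k) : t * d * t⁻¹ = d⁻¹ := by
  obtain ⟨i, rfl⟩ := Subgroup.mem_zpowers_iff.mp hd
  rw [← conj_zpow, ht, inv_zpow]

theorem commute_of_mem_zpowers {x k d : G} (hx : Commute x k)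
    (hd : d ∈ Subgroup.zpowers k) : Commute x d := by
  obtain ⟨i, rfl⟩ := Subgroup.mem_zpowers_iff.mp hd
  exact hx.zpow_right i

theorem odd_orderOf_of_mem_zpowers {k d : G} (hk : Odd (orderOf k))
    (hd : d ∈ Subgroup.zpowers k) : Odd (orderOf d) := by
  obtain ⟨i, rfl⟩ := Subgroup.mem_zpowers_iff.mp hd
  exact Odd.of_dvd_nat hk (by
    apply orderOf_dvd_of_pow_eq_one
    rw [← zpow_natCast, ← zpow_mul, mul_comm, zpow_mul, zpow_natCast, pow_orderOf_eq_one,
      one_zpow])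

theorem invert_mul_left {u v : G} (hu : orderOf u = 2) (hv : orderOf v = 2) :
    u * (u * v) * u⁻¹ = (u * v)⁻¹ := by
  rw [← mul_assoc, involution_mul_self hu, one_mul, mul_inv_rev, involution_inv hv]

theorem invert_mul_right {u v : G} (hu : orderOf u = 2) (hv : orderOf v = 2) :
    v * (u * v) * v⁻¹ = (u * v)⁻¹ := by
  rw [show v * (u * v) * v⁻¹ = v * u by group, mul_inv_rev, involution_inv hu, involution_inv hv]

/-- Conjugating an element inverting `e`. -/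
theorem conj_eq_sq_mul {w e : G} (hw : w * e * w⁻¹ = e⁻¹) : e * w * e⁻¹ = e ^ 2 * w := by
  have : w * e = e⁻¹ * w := by rw [← hw]; group
  have h2 : w * e⁻¹ = e * w := by
    calc w * e⁻¹ = e * (e⁻¹ * w) * e⁻¹ := by group
      _ = e * (w * e) * e⁻¹ := by rw [this]
      _ = e * w := by group
  rw [mul_assoc, h2, pow_two, mul_assoc]

variable {z : G}

theorem isConj_def {w : G} : IsConj z w ↔ ∃ c : G, c * z * c⁻¹ = w := isConj_iff

theorem orderOf_isConj (hz : orderOf z = 2) {w : G} (hw : IsConj z w) : orderOf w = 2 := by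
  obtain ⟨c, rfl⟩ := isConj_iff.mp hw
  rw [show c * z * c⁻¹ = MulAut.conj c z from rfl, MulEquiv.orderOf_eq, hz]

/-- Conjugates of an isolated involution are isolated. -/
theorem isolated_of_isConj (hz : Cfsg.IsIsolatedInvolution z) {w : G} (hw : IsConj z w) :
    Cfsg.IsIsolatedInvolution w := by
  refine ⟨orderOf_isConj hz.1 hw, ?_⟩
  obtain ⟨c, rfl⟩ := isConj_iff.mp hw
  intro g hg
  have h1 : Commute z ((c⁻¹ * g * c) * z * (c⁻¹ * g * c)⁻¹) := by
    have := hg.map (MulAut.conj c⁻¹).toMonoidHom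
    simp only [MulEquiv.coe_toMonoidHom, MulAut.conj_apply] at this
    convert this using 1 <;> group
  have h2 := hz.2 _ h1
  calc g * (c * z * c⁻¹) * g⁻¹
      = c * ((c⁻¹ * g * c) * z * (c⁻¹ * g * c)⁻¹) * c⁻¹ := by group
    _ = c * z * c⁻¹ := by rw [h2]

theorem eq_of_commute (hz : Cfsg.IsIsolatedInvolution z) {u v : G} (hu : IsConj z u)
    (hv : IsConj z v) (h : Commute u v) : v = u := by
  obtain ⟨c, rfl⟩ := isConj_iff.mp (hu.symm.trans hv)
  exact (isolated_of_isConj hz hu).2 c h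

variable [Finite G]

/-- The product of two conjugates of an isolated involution has odd order. -/
theorem odd_orderOf_mul (hz : Cfsg.IsIsolatedInvolution z) {u v : G} (hu : IsConj z u)
    (hv : IsConj z v) : Odd (orderOf (u * v)) := by
  by_contra hc
  obtain ⟨m, hm⟩ := Nat.not_odd_iff_even.mp hc
  have hpos : 0 < orderOf (u * v) := orderOf_pos (u * v)
  have hu2 := orderOf_isConj hz.1 hu
  have hv2 := orderOf_isConj hz.1 hv
  have hinv := invert_mul_left hu2 hv2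
  set r := u * v with hr
  have hj1 : r ^ m ≠ 1 := pow_ne_one_of_lt_orderOf (by omega) (by omega)
  have hjinv : (r ^ m)⁻¹ = r ^ m := by
    apply inv_eq_of_mul_eq_one_right
    rw [← pow_add, ← hm, pow_orderOf_eq_one]
  have hconj : IsConj z (r ^ m * u) := by
    rcases Nat.even_or_odd m with ⟨i, hi⟩ | ⟨i, hi⟩
    · refine hu.trans (isConj_iff.mpr ⟨r ^ i, ?_⟩)
      rw [conj_eq_sq_mul (inv_of_mem_zpowers hinv (Subgroup.npow_mem_zpowers r i)), ← pow_mul,
        show i * 2 = m by omega]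
    · refine hv.trans ((isConj_iff.mpr ⟨u, rfl⟩ : IsConj v (u * v * u⁻¹)).trans
        (isConj_iff.mpr ⟨r ^ i, ?_⟩))
      have hwr : (u * v * u⁻¹) * r * (u * v * u⁻¹)⁻¹ = r⁻¹ := by
        have h1 : u⁻¹ * r * u = r⁻¹ := by
          rw [← hinv, involution_inv hu2]
        calc (u * v * u⁻¹) * r * (u * v * u⁻¹)⁻¹ = u * (v * (u⁻¹ * r * u) * v⁻¹) * u⁻¹ := by group
          _ = u * (v * r⁻¹ * v⁻¹) * u⁻¹ := by rw [h1]
          _ = r⁻¹ := by rw [← conj_inv, invert_mul_right hu2 hv2, inv_inv, hinv]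
      rw [conj_eq_sq_mul (inv_of_mem_zpowers hwr (Subgroup.npow_mem_zpowers r i)), ← pow_mul,
        ← hr, involution_inv hu2, ← mul_assoc, show m = i * 2 + 1 by omega, pow_succ]
  have hcomm : Commute u (r ^ m * u) := by
    have h : u * r ^ m * u⁻¹ = r ^ m := by
      rw [inv_of_mem_zpowers hinv (Subgroup.npow_mem_zpowers r m), hjinv]
    have h' : Commute u (r ^ m) := mul_inv_eq_iff_eq_mul.mp h
    exact h'.mul_right (Commute.refl u)
  have := eq_of_commute hz hu hconj hcomm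
  exact hj1 (mul_eq_right.mp this)

/-- Two conjugates of an isolated involution are conjugate by an element of the cyclic group
generated by their product, inverted by both. -/
theorem exists_conj_mem_zpowers (hz : Cfsg.IsIsolatedInvolution z) {u v : G} (hu : IsConj z u)
    (hv : IsConj z v) : ∃ d ∈ Subgroup.zpowers (u * v),
      d * v * d⁻¹ = u ∧ v * d * v⁻¹ = d⁻¹ ∧ Odd (orderOf d) ∧ d ^ 2 = u * v := by
  have hu2 := orderOf_isConj hz.1 hu
  have hv2 := orderOf_isConj hz.1 hv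
  obtain ⟨d, hd, hd2, hdo⟩ := exists_sqrt_of_odd (odd_orderOf_mul hz hu hv)
  have hvd := inv_of_mem_zpowers (invert_mul_right hu2 hv2) hd
  refine ⟨d, hd, ?_, hvd, hdo, hd2⟩
  rw [conj_eq_sq_mul hvd, hd2, mul_assoc, involution_mul_self hv2, mul_one]

/-- A conjugate of an isolated involution lying in an overgroup is conjugate within it. -/
theorem exists_conj_mem (hz : Cfsg.IsIsolatedInvolution z) (H : Subgroup G) {u v : G}
    (hu : IsConj z u) (hv : IsConj z v) (huH : u ∈ H) (hvH : v ∈ H) :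
    ∃ h ∈ H, h * u * h⁻¹ = v := by
  obtain ⟨d, hd, h, -⟩ := exists_conj_mem_zpowers hz hv hu
  exact ⟨d, (Subgroup.zpowers_le.mpr (H.mul_mem hvH huH)) hd, h⟩

/-- The product of two distinct conjugates commutes with no conjugate. -/
theorem eq_of_mul_commute (hz : Cfsg.IsIsolatedInvolution z) {w s t : G} (hw : IsConj z w)
    (hs : IsConj z s) (ht : IsConj z t) (h : Commute (s * t) w) : s = t := by
  have hw2 := orderOf_isConj hz.1 hw
  have hs2 := orderOf_isConj hz.1 hs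
  have ht2 := orderOf_isConj hz.1 ht
  have hk : Odd (orderOf (s * t)) := odd_orderOf_mul hz hs ht
  have hkey : (w * t) * (s * t) * (w * t)⁻¹ = (s * t)⁻¹ := by
    calc (w * t) * (s * t) * (w * t)⁻¹ = w * (t * (s * t) * t⁻¹) * w⁻¹ := by group
      _ = w * (s * t)⁻¹ * w⁻¹ := by rw [invert_mul_right hs2 ht2]
      _ = (s * t)⁻¹ := mul_inv_eq_iff_eq_mul.mpr h.symm.inv_right.eq
  obtain ⟨d, hd, hd2, -⟩ := exists_sqrt_of_odd (odd_orderOf_mul hz hw ht)
  have hsq : Commute ((w * t) ^ 2) (s * t) := by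
    have h2 : (w * t) ^ 2 * (s * t) * ((w * t) ^ 2)⁻¹ = s * t := by
      calc (w * t) ^ 2 * (s * t) * ((w * t) ^ 2)⁻¹
          = (w * t) * ((w * t) * (s * t) * (w * t)⁻¹) * (w * t)⁻¹ := by rw [pow_two]; group
        _ = (w * t) * (s * t)⁻¹ * (w * t)⁻¹ := by rw [hkey]
        _ = ((w * t) * (s * t) * (w * t)⁻¹)⁻¹ := by group
        _ = s * t := by rw [hkey, inv_inv]
    exact mul_inv_eq_iff_eq_mul.mp h2
  have hmem : w * t ∈ Subgroup.zpowers ((w * t) ^ 2) := by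
    obtain ⟨i, hi⟩ := Subgroup.mem_zpowers_iff.mp hd
    refine Subgroup.mem_zpowers_iff.mpr ⟨i, ?_⟩
    have : (d ^ 2 : G) = ((w * t) ^ 2) ^ i := by
      rw [← hi, ← zpow_natCast, ← zpow_natCast, ← zpow_mul, ← zpow_mul, mul_comm]
    rw [← this, hd2]
  have hc : Commute (w * t) (s * t) := (commute_of_mem_zpowers hsq.symm hmem).symm
  have h3 : (s * t)⁻¹ = s * t := by rw [← hkey]; exact mul_inv_eq_iff_eq_mul.mpr hc.eq
  have h4 : (s * t) ^ 2 = 1 ^ 2 := by rw [one_pow, pow_two]; nth_rw 1 [← h3]; exact inv_mul_cancel _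
  have h5 := sq_inj_of_odd hk (by simp) h4
  calc s = (s * t) * t⁻¹ := by group
    _ = t := by rw [h5, one_mul, involution_inv ht2]

/-- Every coset of the centralizer has a unique representative of odd order inverted by `z`. -/
theorem exists_rep (hz : Cfsg.IsIsolatedInvolution z) {w : G} (hw : IsConj z w) :
    ∃ k : G, (Odd (orderOf k) ∧ z * k * z⁻¹ = k⁻¹) ∧ k * z * k⁻¹ = w := by
  obtain ⟨d, -, h1, h2, h3, -⟩ := exists_conj_mem_zpowers hz hw (IsConj.refl z)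
  exact ⟨d, ⟨h3, h2⟩, h1⟩

omit [Finite G] in
theorem rep_sq (hz : orderOf z = 2) {k : G} (hk : z * k * z⁻¹ = k⁻¹) :
    k * z * k⁻¹ * z = k ^ 2 := by
  rw [conj_eq_sq_mul hk, mul_assoc, involution_mul_self hz, mul_one]

omit [Finite G] in
theorem rep_unique (hz : orderOf z = 2) {k k' : G} (hk : Odd (orderOf k)) (hk' : Odd (orderOf k'))
    (hi : z * k * z⁻¹ = k⁻¹) (hi' : z * k' * z⁻¹ = k'⁻¹) (h : k * z * k⁻¹ = k' * z * k'⁻¹) :
    k = k' :=
  sq_inj_of_odd hk hk' (by rw [← rep_sq hz hi, ← rep_sq hz hi', h])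

/-- Centralizers of the isolated involution control fusion in invariant subgroups. -/
theorem exists_conj_commute (hz : Cfsg.IsIsolatedInvolution z) (H : Subgroup G)
    (hzH : z ∈ Subgroup.normalizer (H : Set G)) {x y h : G} (hxz : Commute x z)
    (hyz : Commute y z) (hh : h ∈ H) (hconj : h * x * h⁻¹ = y) :
    ∃ c ∈ H, Commute c z ∧ c * x * c⁻¹ = y := by
  have hw : IsConj z (h⁻¹ * z * h) := isConj_iff.mpr ⟨h⁻¹, by group⟩
  obtain ⟨d, hd, hdz, -⟩ := exists_conj_mem_zpowers hz hw (IsConj.refl z)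
  have hkH : h⁻¹ * z * h * z ∈ H := by
    have := (Subgroup.mem_normalizer_iff.mp hzH h).mp hh
    have e : h⁻¹ * z * h * z = h⁻¹ * (z * h * z⁻¹) := by rw [involution_inv hz.1]; group
    rw [e]; exact H.mul_mem (H.inv_mem hh) this
  have hxw : Commute x (h⁻¹ * z * h) := by
    have := hyz.map (MulAut.conj h⁻¹).toMonoidHom
    simp only [MulEquiv.coe_toMonoidHom, MulAut.conj_apply, inv_inv, ← hconj] at this
    have e : h⁻¹ * (h * x * h⁻¹) * h = x := by group
    rwa [e] at this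
  have hxd : Commute x d := commute_of_mem_zpowers (hxw.mul_right hxz) hd
  refine ⟨h * d, H.mul_mem hh ((Subgroup.zpowers_le.mpr hkH) hd), ?_, ?_⟩
  · refine mul_inv_eq_iff_eq_mul.mp ?_
    calc h * d * z * (h * d)⁻¹ = h * (d * z * d⁻¹) * h⁻¹ := by group
      _ = z := by rw [hdz]; group
  · calc h * d * x * (h * d)⁻¹ = h * (d * x * d⁻¹) * h⁻¹ := by group
      _ = y := by rw [mul_inv_eq_iff_eq_mul.mpr hxd.symm.eq, hconj]

/-- The image of an isolated involution in a quotient. -/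
theorem quotient_centralizer (hz : Cfsg.IsIsolatedInvolution z) (N : Subgroup G) [N.Normal]
    {g : G} (hg : g * z * g⁻¹ * z ∈ N) :
    ∃ c, Commute c z ∧ g⁻¹ * c ∈ N := by
  have hv : IsConj z (g * z * g⁻¹) := isConj_iff.mpr ⟨g, rfl⟩
  obtain ⟨d, hd, hdz, -⟩ := exists_conj_mem_zpowers hz hv (IsConj.refl z)
  have hdN : d ∈ N := (Subgroup.zpowers_le.mpr hg) hd
  refine ⟨d⁻¹ * g, ?_, ?_⟩
  · refine mul_inv_eq_iff_eq_mul.mp ?_
    calc d⁻¹ * g * z * (d⁻¹ * g)⁻¹ = d⁻¹ * (g * z * g⁻¹) * d := by group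
      _ = z := by rw [← hdz]; group
  · have := (inferInstance : N.Normal).conj_mem _ (N.inv_mem hdN) g⁻¹
    simpa [mul_assoc] using this

/-- Order formula: `|G| = |C| |K|`. -/
theorem card_eq_centralizer_mul (hz : Cfsg.IsIsolatedInvolution z) :
    Nat.card G = Nat.card (Subgroup.centralizer ({z} : Set G)) *
      Nat.card {k : G // Odd (orderOf k) ∧ z * k * z⁻¹ = k⁻¹} := by
  rw [mul_comm, ← Nat.card_prod]
  symm
  refine Nat.card_congr (Equiv.ofBijective (fun p => p.1.1 * p.2.1) ⟨?_, ?_⟩)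
  · rintro ⟨⟨k, hk⟩, c, hc⟩ ⟨⟨k', hk'⟩, c', hc'⟩ h
    simp only at h
    have e : ∀ k c : G, c ∈ Subgroup.centralizer ({z} : Set G) →
        (k * c) * z * (k * c)⁻¹ = k * z * k⁻¹ := by
      intro k c hc
      calc (k * c) * z * (k * c)⁻¹ = k * ((c * z) * c⁻¹) * k⁻¹ := by group
        _ = k * z * k⁻¹ := by rw [Subgroup.mem_centralizer_singleton_iff.mp hc]; group
    have hkk : k = k' := rep_unique hz.1 hk.1 hk'.1 hk.2 hk'.2 (by rw [← e k c hc, ← e k' c' hc', h])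
    subst hkk
    have : c = c' := mul_left_cancel h
    subst this
    rfl
  · intro g
    obtain ⟨k, hk, hkz⟩ := exists_rep hz (isConj_iff.mpr ⟨g, rfl⟩ : IsConj z (g * z * g⁻¹))
    refine ⟨(⟨k, hk⟩, ⟨k⁻¹ * g, Subgroup.mem_centralizer_singleton_iff.mpr ?_⟩), ?_⟩
    · refine mul_inv_eq_iff_eq_mul.mp ?_
      calc k⁻¹ * g * z * (k⁻¹ * g)⁻¹ = k⁻¹ * (g * z * g⁻¹) * k := by group
        _ = z := by rw [← hkz]; group
    · simp

/-- `|K| = |C_K(sz)| |C_K(s)|` for an involution `s` centralizing `z`. -/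
theorem card_rep_eq_mul (hz : Cfsg.IsIsolatedInvolution z) {s : G} (hs : orderOf s = 2)
    (hsz : Commute s z) :
    Nat.card {k : G // Odd (orderOf k) ∧ z * k * z⁻¹ = k⁻¹} =
      Nat.card {k : G // Odd (orderOf k) ∧ z * k * z⁻¹ = k⁻¹ ∧ Commute k (s * z)} *
      Nat.card {k : G // Odd (orderOf k) ∧ z * k * z⁻¹ = k⁻¹ ∧ Commute k s} := by
  have hz2 := hz.1
  have hsi := involution_inv hs
  have hzi := involution_inv hz2
  -- `k` commutes with `x` iff its conjugate of `z` does, for `x` commuting with `z`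
  have hiff : ∀ x k : G, Commute x z → Odd (orderOf k) → z * k * z⁻¹ = k⁻¹ →
      Commute x (k * z * k⁻¹) → Commute k x := by
    intro x k hx hk hi hc
    obtain ⟨d, hd, hd2⟩ : ∃ d ∈ Subgroup.zpowers (k ^ 2), d = k := by
      obtain ⟨m, hm⟩ := hk
      refine ⟨(k ^ 2) ^ (m + 1), Subgroup.npow_mem_zpowers _ _, ?_⟩
      rw [← pow_mul, show 2 * (m + 1) = (2 * m + 1) + 1 by ring, pow_succ, ← hm,
        pow_orderOf_eq_one, one_mul]
    subst hd2
    have hc2 : Commute x (d ^ 2) := by rw [← rep_sq hz2 hi]; exact hc.mul_right hx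
    exact (commute_of_mem_zpowers hc2 hd).symm
  have hszc : Commute (s * z) z := hsz.mul_left (Commute.refl z)
  have hsw : ∀ a b : G, Commute a s → Commute b (s * z) →
      z * b * z⁻¹ = b⁻¹ → z * a * z⁻¹ = a⁻¹ →
      s * (a * (b * z * b⁻¹) * a⁻¹) * s⁻¹ =
        (a * z * a⁻¹) * (a * (b * z * b⁻¹) * a⁻¹) * (a * z * a⁻¹)⁻¹ := by
    intro a b ha hb _ _
    have hb' : s * b * s⁻¹ = z * b * z⁻¹ := by
      have h1 : s * z * b = b * (s * z) := hb.eq.symm
      calc s * b * s⁻¹ = s * (s * z * b * (s * z)⁻¹) * s⁻¹ := by rw [h1]; group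
        _ = (s * s) * (z * b * z⁻¹) * (s * s)⁻¹ := by group
        _ = z * b * z⁻¹ := by rw [involution_mul_self hs]; group
    calc s * (a * (b * z * b⁻¹) * a⁻¹) * s⁻¹
        = (s * a * s⁻¹) * ((s * b * s⁻¹) * (s * z * s⁻¹) * (s * b * s⁻¹)⁻¹) * (s * a * s⁻¹)⁻¹ := by
          group
      _ = a * ((z * b * z⁻¹) * z * (z * b * z⁻¹)⁻¹) * a⁻¹ := by
          rw [mul_inv_eq_iff_eq_mul.mpr ha.symm.eq, hb', mul_inv_eq_iff_eq_mul.mpr hsz.eq]
      _ = _ := by group
  rw [mul_comm (Nat.card {k : G // Odd (orderOf k) ∧ z * k * z⁻¹ = k⁻¹ ∧ Commute k (s * z)}),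
    ← Nat.card_prod]
  symm
  -- both sides are in bijection with the conjugates of `z`
  have eK : {k : G // Odd (orderOf k) ∧ z * k * z⁻¹ = k⁻¹} ≃ {w : G // IsConj z w} :=
    Equiv.ofBijective (fun k => ⟨k.1 * z * k.1⁻¹, isConj_iff.mpr ⟨k.1, rfl⟩⟩)
      ⟨fun k k' h => Subtype.ext
          (rep_unique hz2 k.2.1 k'.2.1 k.2.2 k'.2.2 (congrArg Subtype.val h)),
        fun w => by
          obtain ⟨k, hk, hkw⟩ := exists_rep hz w.2
          exact ⟨⟨k, hk⟩, Subtype.ext hkw⟩⟩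
  rw [Nat.card_congr eK]
  refine Nat.card_congr (Equiv.ofBijective
    (fun p => ⟨p.1.1 * (p.2.1 * z * p.2.1⁻¹) * p.1.1⁻¹,
      isConj_iff.mpr ⟨p.1.1 * p.2.1, by group⟩⟩) ⟨?_, ?_⟩)
  · rintro ⟨⟨a, ha⟩, b, hb⟩ ⟨⟨a', ha'⟩, b', hb'⟩ h
    have hw : a * (b * z * b⁻¹) * a⁻¹ = a' * (b' * z * b'⁻¹) * a'⁻¹ := congrArg Subtype.val h
    have h1 := hsw a b ha.2.2 hb.2.2 hb.2.1 ha.2.1
    have h2 := hsw a' b' ha'.2.2 hb'.2.2 hb'.2.1 ha'.2.1
    rw [← hw] at h2
    set w := a * (b * z * b⁻¹) * a⁻¹ with hwdef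
    have huu : Commute ((a' * z * a'⁻¹) * (a * z * a⁻¹)) w := by
      have hu1 := orderOf_isConj hz2 (isConj_iff.mpr ⟨a', rfl⟩ : IsConj z (a' * z * a'⁻¹))
      refine mul_inv_eq_iff_eq_mul.mp ?_
      calc _ = (a' * z * a'⁻¹) * ((a * z * a⁻¹) * w * (a * z * a⁻¹)⁻¹) * (a' * z * a'⁻¹)⁻¹ := by
            group
        _ = (a' * z * a'⁻¹) * ((a' * z * a'⁻¹) * w * (a' * z * a'⁻¹)⁻¹) * (a' * z * a'⁻¹)⁻¹ := by
            rw [← h1, h2]
        _ = ((a' * z * a'⁻¹) * (a' * z * a'⁻¹)) * w *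
              ((a' * z * a'⁻¹) * (a' * z * a'⁻¹))⁻¹ := by group
        _ = w := by rw [involution_mul_self hu1]; group
    have hu := eq_of_mul_commute hz (isConj_iff.mpr ⟨a * b, by rw [hwdef]; group⟩)
      (isConj_iff.mpr ⟨a', rfl⟩) (isConj_iff.mpr ⟨a, rfl⟩) huu
    have haa : a = a' := rep_unique hz2 ha.1 ha'.1 ha.2.1 ha'.2.1 hu.symm
    subst haa
    have hbb : b = b' := rep_unique hz2 hb.1 hb'.1 hb.2.1 hb'.2.1
      (mul_left_cancel (mul_right_cancel hw))
    subst hbb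
    rfl
  · rintro ⟨w, hw⟩
    have hw2 := orderOf_isConj hz2 hw
    have hw' : IsConj z (s * w * s⁻¹) := hw.trans (isConj_iff.mpr ⟨s, rfl⟩)
    obtain ⟨d, hd, hd1, hd3, hd4, hd2⟩ := exists_conj_mem_zpowers hz hw hw'
    obtain ⟨e, he, he2, -⟩ := exists_sqrt_of_odd hd4
    have hu : IsConj z (d * (s * w * s⁻¹)) := by
      refine hw'.trans (isConj_iff.mpr ⟨e, ?_⟩)
      rw [conj_eq_sq_mul (inv_of_mem_zpowers hd3 he), he2]
    set u := d * (s * w * s⁻¹) with hudef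
    have hu2 := orderOf_isConj hz2 hu
    have huw : u * w * u⁻¹ = s * w * s⁻¹ := by
      rw [involution_inv hu2]
      have hx : (s * w * s⁻¹) * w = d⁻¹ * d⁻¹ := by
        rw [← mul_inv_rev, ← pow_two, hd2, mul_inv_rev, involution_inv hw2,
          involution_inv (orderOf_isConj hz2 hw')]
      calc u * w * u = d * ((s * w * s⁻¹) * w) * (d * (s * w * s⁻¹)) := by rw [hudef]; group
        _ = d * (d⁻¹ * d⁻¹) * (d * (s * w * s⁻¹)) := by rw [hx]
        _ = s * w * s⁻¹ := by group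
    have hus : Commute u s := by
      have huw' : (s * u * s⁻¹) * w * (s * u * s⁻¹)⁻¹ = s * w * s⁻¹ := by
        calc (s * u * s⁻¹) * w * (s * u * s⁻¹)⁻¹ = s * (u * (s⁻¹ * w * s) * u⁻¹) * s⁻¹ := by group
          _ = s * (u * (u * w * u⁻¹) * u⁻¹) * s⁻¹ := by rw [huw, hsi]
          _ = s * ((u * u) * w * (u * u)⁻¹) * s⁻¹ := by group
          _ = s * w * s⁻¹ := by rw [involution_mul_self hu2]; group
      have hsu : IsConj z (s * u * s⁻¹) := hu.trans (isConj_iff.mpr ⟨s, rfl⟩)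
      have hcw : Commute ((s * u * s⁻¹) * u) w := by
        refine mul_inv_eq_iff_eq_mul.mp ?_
        calc _ = (s * u * s⁻¹) * (u * w * u⁻¹) * (s * u * s⁻¹)⁻¹ := by group
          _ = (s * u * s⁻¹) * ((s * u * s⁻¹) * w * (s * u * s⁻¹)⁻¹) * (s * u * s⁻¹)⁻¹ := by
              rw [huw', huw]
          _ = ((s * u * s⁻¹) * (s * u * s⁻¹)) * w * ((s * u * s⁻¹) * (s * u * s⁻¹))⁻¹ := by group
          _ = w := by rw [involution_mul_self (orderOf_isConj hz2 hsu)]; group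
      exact (mul_inv_eq_iff_eq_mul.mp (eq_of_mul_commute hz hw hsu hu hcw)).symm
    obtain ⟨a, ha, hau⟩ := exists_rep hz hu
    have has : Commute a s := hiff s a hsz ha.1 ha.2 (by rw [hau]; exact hus.symm)
    obtain ⟨b, hb, hbw⟩ := exists_rep hz (hw.trans (isConj_iff.mpr ⟨a⁻¹, rfl⟩) :
      IsConj z (a⁻¹ * w * a⁻¹⁻¹))
    have hbs : Commute b (s * z) := by
      refine hiff (s * z) b hszc hb.1 hb.2 ?_
      rw [hbw]
      refine mul_inv_eq_iff_eq_mul.mp ?_
      calc s * z * (a⁻¹ * w * a⁻¹⁻¹) * (s * z)⁻¹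
          = (s * a⁻¹ * s⁻¹) * (s * ((a * z * a⁻¹) * w * (a * z * a⁻¹)⁻¹) * s⁻¹) *
              (s * a⁻¹ * s⁻¹)⁻¹ := by group
        _ = a⁻¹ * (s * (s * w * s⁻¹) * s⁻¹) * a⁻¹⁻¹ := by
            rw [hau, huw, mul_inv_eq_iff_eq_mul.mpr has.symm.inv_right.eq]
        _ = a⁻¹ * ((s * s) * w * (s * s)⁻¹) * a⁻¹⁻¹ := by group
        _ = a⁻¹ * w * a⁻¹⁻¹ := by rw [involution_mul_self hs]; group
    refine ⟨(⟨a, ha.1, ha.2, has⟩, ⟨b, hb.1, hb.2, hbs⟩), Subtype.ext ?_⟩
    show a * (b * z * b⁻¹) * a⁻¹ = w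
    rw [hbw]; group

end CfsgLib.Involutions.Isolated
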