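import Mathlib
import Cfsg.Prelude.Def_Characters
import Cfsg.Agent.Lib.PCore.Basic
import Cfsg.Agent.Lib.Characters.Generalized
import Cfsg.Agent.Lib.Characters.Scalar

/-!
Elementary groups: nilpotency, the subgroup of elements of odd order, and some generalized
characters on them.
-/

set_option autoImplicit false

namespace CfsgLib.Involutions

open Cfsg
open scoped ComplexConjugate

variable {E : Type*} [Group E] [Finite E]

theorem isNilpotent_of_isElementary {p : ℕ} (hp : p.Prime) (h : IsElementary p E) :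
    Group.IsNilpotent E := by
  obtain ⟨x, hx, -, k, hk⟩ := h
  have := Fact.mk hp
  have hle : Subgroup.zpowers x ≤ Subgroup.center E := Subgroup.zpowers_le.mpr hx
  have : (Subgroup.zpowers x).Normal :=
    ⟨fun a ha g => by rwa [Subgroup.mem_center_iff.mp (hle ha) g, mul_inv_cancel_right]⟩
  have hq : IsPGroup p (E ⧸ Subgroup.zpowers x) := IsPGroup.of_card (n := k) hk
  have := hq.isNilpotent
  exact Subgroup.isNilpotent_of_ker_le_center (QuotientGroup.mk' (Subgroup.zpowers x))
    (by rw [QuotientGroup.ker_mk']; exact hle)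

theorem index_odd_core_of_nilpotent (hE : Group.IsNilpotent E) :
    ∃ k : ℕ, (pPrimeCore 2 E).index = 2 ^ k := by
  refine ⟨(pPrimeCore 2 E).index.primeFactorsList.length, ?_⟩
  refine Nat.eq_prime_pow_of_unique_prime_dvd Subgroup.index_ne_zero_of_finite fun {q} hq hdvd => ?_
  by_contra hne
  have := Fact.mk hq
  obtain ⟨Q⟩ : Nonempty (Sylow q E) := inferInstance
  have hQn : (Q : Subgroup E).Normal :=
    Sylow.normal_of_normalizerCondition normalizerCondition_of_isNilpotent Q
  have hQle : (Q : Subgroup E) ≤ pPrimeCore 2 E := by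
    refine CfsgLib.PCore.le_pPrimeCore_of_not_dvd hQn fun h2 => ?_
    obtain ⟨j, hj⟩ := IsPGroup.iff_card.mp Q.isPGroup'
    rw [hj] at h2
    exact hne ((Nat.prime_dvd_prime_iff_eq Nat.prime_two hq).mp (Nat.prime_two.dvd_of_dvd_pow h2)).symm
  exact Q.not_dvd_index (hdvd.trans (Subgroup.index_dvd_of_le hQle))

theorem odd_mem_core_iff (hE : Group.IsNilpotent E) {g : E} :
    g ∈ pPrimeCore 2 E ↔ Odd (orderOf g) := by
  constructor
  · intro hg
    rw [← Nat.not_even_iff_odd, even_iff_two_dvd]
    exact fun h => CfsgLib.PCore.not_dvd_card_pPrimeCore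
      (h.trans (Subgroup.orderOf_dvd_natCard _ hg))
  · intro hg
    obtain ⟨k, hk⟩ := index_odd_core_of_nilpotent hE
    have : (pPrimeCore 2 E).Normal := inferInstance
    rw [← QuotientGroup.eq_one_iff, ← orderOf_eq_one_iff]
    have h1 : orderOf (g : E ⧸ pPrimeCore 2 E) ∣ 2 ^ k := by
      rw [← hk]
      exact orderOf_dvd_natCard _
    have h2 : orderOf (g : E ⧸ pPrimeCore 2 E) ∣ orderOf g :=
      orderOf_map_dvd (QuotientGroup.mk' (pPrimeCore 2 E)) g
    exact Nat.eq_one_of_dvd_coprimes
      (Nat.Coprime.pow_right k (Nat.coprime_two_right.mpr hg)) h2 h1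

/-- Translating an irreducible character by a central involution multiplies it by a sign. -/
theorem irr_central_involution_sign (χ : IrrCharacter E) {z : E} (hz : z ∈ Subgroup.center E)
    (hz2 : z * z = 1) : ∃ e : ℤ, (e = 1 ∨ e = -1) ∧
      ∀ g : E, (χ : E → ℂ) (z * g) = (e : ℂ) * (χ : E → ℂ) g := by
  obtain ⟨χf, n, ρ, hρ, rfl⟩ := χ
  haveI := hρ
  obtain ⟨c, hc⟩ := CfsgLib.CharScalar.center_scalar ρ hz
  have key : ∀ g, ρ.character (z * g) = c * ρ.character g := fun g => by
    simp [Representation.character, hc]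
  have hn : ρ.character 1 ≠ 0 :=
    CfsgLib.Characters.irr_one_ne_zero ⟨ρ.character, n, ρ, hρ, rfl⟩
  have hc2 : c * c = 1 := by
    have h := key z
    have h' := key 1
    rw [mul_one] at h'
    rw [hz2, h', ← mul_assoc] at h
    exact mul_right_cancel₀ hn (h.symm.trans (one_mul _).symm)
  rcases mul_self_eq_one_iff.mp hc2 with rfl | rfl
  · exact ⟨1, Or.inl rfl, fun g => by simpa using key g⟩
  · exact ⟨-1, Or.inr rfl, fun g => by simpa using key g⟩

/-- Half the difference of a generalized character and its translate by a central involution. -/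
theorem isGeneralizedCharacter_half_diff [Fintype E] {θ : E → ℂ} (hθ : IsGeneralizedCharacter E θ) {z : E}
    (hz : z ∈ Subgroup.center E) (hz2 : z * z = 1) :
    IsGeneralizedCharacter E (fun g => (θ g - θ (z * g)) / 2) := by
  have hc := CfsgLib.Characters.isClassFunction_of_isGeneralizedCharacter hθ
  rw [CfsgLib.Characters.isGeneralizedCharacter_iff]
  refine ⟨fun g h => ?_, fun χ => ?_⟩
  · have : z * (h * g * h⁻¹) = h * (z * g) * h⁻¹ := by
      rw [← mul_assoc, ← mul_assoc, ← Subgroup.mem_center_iff.mp hz h]; group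
    simp only [this, hc g h, hc (z * g) h]
  · obtain ⟨e, he, hχ⟩ := irr_central_involution_sign χ hz hz2
    obtain ⟨m, hm⟩ := CfsgLib.Characters.classInner_generalized_int hθ
      (CfsgLib.Characters.isGeneralizedCharacter_irr χ)
    have hconj : ∀ g, conj ((χ : E → ℂ) g) = (e : ℂ) * conj ((χ : E → ℂ) (z * g)) := by
      intro g
      rw [hχ, map_mul, map_intCast, ← mul_assoc, ← Int.cast_mul]
      rcases he with rfl | rfl <;> simp
    have hsum : ∑ g : E, θ (z * g) * conj ((χ : E → ℂ) g) =
        (e : ℂ) * ∑ g : E, θ g * conj ((χ : E → ℂ) g) := by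
      conv_rhs => rw [← Equiv.sum_comp (Equiv.mulLeft z)]
      rw [Finset.mul_sum]
      refine Finset.sum_congr rfl fun g _ => ?_
      rw [Equiv.coe_mulLeft, hconj g]
      ring
    have hval : classInner (fun g => (θ g - θ (z * g)) / 2) (χ : E → ℂ) = (1 - (e : ℂ)) / 2 * m := by
      rw [← hm, classInner, classInner]
      have : ∑ g : E, (θ g - θ (z * g)) / 2 * conj ((χ : E → ℂ) g) =
          ((∑ g : E, θ g * conj ((χ : E → ℂ) g)) - ∑ g : E, θ (z * g) * conj ((χ : E → ℂ) g)) / 2 := by
        rw [← Finset.sum_sub_distrib, Finset.sum_div]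
        exact Finset.sum_congr rfl fun g _ => by ring
      rw [this, hsum]
      ring
    rcases he with rfl | rfl
    · exact ⟨0, by rw [hval]; norm_num⟩
    · exact ⟨m, by rw [hval]; norm_num⟩

end CfsgLib.Involutions
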