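import Mathlib
import Cfsg.Prelude.Def_TwoFusion
import Cfsg.Agent.Lib.Involutions.Basic
import Cfsg.Agent.Lib.Involutions.Isolated

/-!
Isolated involutions seen from a Sylow 2-subgroup.
-/

set_option autoImplicit false

namespace CfsgLib.Involutions

variable {G : Type*} [Group G] [Finite G]

theorem isPGroup_two_zpowers {x : G} (hx : orderOf x = 2) : IsPGroup 2 (Subgroup.zpowers x) :=
  IsPGroup.of_card (n := 1) (by rw [Nat.card_zpowers, hx, pow_one])

/-- An element is conjugate into any given Sylow subgroup containing it in a `p`-subgroup: any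
`p`-subgroup has a conjugate inside the given Sylow subgroup. -/
theorem exists_conj_le_sylow {p : ℕ} [Fact p.Prime] {T : Subgroup G} (hT : IsPGroup p T)
    (P : Sylow p G) : ∃ g : G, ∀ a ∈ T, g * a * g⁻¹ ∈ P := by
  obtain ⟨Q, hQ⟩ := hT.exists_le_sylow
  obtain ⟨g, rfl⟩ := MulAction.exists_smul_eq G Q P
  refine ⟨g, fun a ha => ?_⟩
  rw [← SetLike.mem_coe, Sylow.coe_smul]
  exact ⟨a, hQ ha, by simp⟩

/-- If an involution is the only one of its conjugates in a Sylow 2-subgroup containing it, then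
it is isolated. -/
theorem isIsolated_of_sylow (P : Sylow 2 G) {u : G} (hu : orderOf u = 2)
    (hiso : ∀ g : G, g * u * g⁻¹ ∈ P → g * u * g⁻¹ = u) : Cfsg.IsIsolatedInvolution u := by
  refine ⟨hu, fun g hg => ?_⟩
  have hv : orderOf (g * u * g⁻¹) = 2 := (orderOf_conj_eq g u).trans hu
  by_cases hne : g * u * g⁻¹ = u
  · exact hne
  have hord : orderOf (u * (g * u * g⁻¹)) = 2 ^ 1 := by
    rw [pow_one, orderOf_eq_two_iff_mul]
    refine ⟨fun h => hne ?_, ?_⟩
    · exact (inv_eq_of_mul_eq_one_right h).symm.trans (inv_eq_self_of_involution hu)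
    · rw [hg.symm.mul_mul_mul_comm, mul_self_eq_one hu, mul_self_eq_one hv, one_mul]
  obtain ⟨c, hc⟩ := exists_conj_le_sylow (isPGroup_two_closure_pair hu hv hord) P
  have h1 := hiso c (hc u (Subgroup.subset_closure (by simp)))
  have h2 : c * (g * u * g⁻¹) * c⁻¹ = u := by
    have h3 := hc (g * u * g⁻¹) (Subgroup.subset_closure (by simp))
    have e : c * (g * u * g⁻¹) * c⁻¹ = (c * g) * u * (c * g)⁻¹ := by group
    rw [e] at h3 ⊢
    exact hiso _ h3
  exact mul_left_cancel (mul_right_cancel (h2.trans h1.symm))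

/-- Conjugates of an isolated involution inside a common 2-subgroup coincide. -/
theorem eq_of_mem_two_subgroup {u : G} (hz : Cfsg.IsIsolatedInvolution u) {R : Subgroup G}
    (hR : IsPGroup 2 R) {a b : G} (ha : IsConj u a) (hb : IsConj u b) (haR : a ∈ R) (hbR : b ∈ R) :
    a = b := by
  have hodd := Isolated.odd_orderOf_mul hz ha hb
  obtain ⟨k, hk⟩ := IsPGroup.iff_orderOf.mp hR ⟨a * b, R.mul_mem haR hbR⟩
  rw [Subgroup.orderOf_mk] at hk
  rw [hk] at hodd
  have hk0 : k = 0 := by
    by_contra h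
    exact (Nat.not_even_iff_odd.mpr hodd) ((Nat.even_pow' h).mpr even_two)
  rw [hk0, pow_zero, orderOf_eq_one_iff] at hk
  rw [← inv_eq_self_of_involution ((orderOf_eq_of_isConj ha).trans hz.1)]
  exact inv_eq_of_mul_eq_one_right hk

theorem isolated_product_two_mod_four {t : G} (hz : Cfsg.IsIsolatedInvolution t) {s : G}
    (hs : orderOf s = 2) (hns : ¬ IsConj s t) : orderOf (s * t) % 4 = 2 := by
  have ht := hz.1
  have heven : Even (orderOf (t * s)) := even_order_of_not_isConj ht hs fun h => hns h.symm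
  have hord : orderOf (s * t) = orderOf (t * s) := by
    rw [← orderOf_conj_eq t (s * t)]
    rw [inv_eq_self_of_involution ht, mul_assoc, mul_assoc s, mul_self_eq_one ht, mul_one]
  obtain ⟨hzord, hzt, -⟩ := central_involution ht hs heven
  rw [hord]
  obtain ⟨m, hm⟩ := heven
  rcases Nat.even_or_odd m with ⟨j, hj⟩ | ⟨j, hj⟩
  · exfalso
    have hzc : (t * s) ^ (orderOf (t * s) / 2) * t = (t * s) ^ (j : ℤ) * t * ((t * s) ^ (j : ℤ))⁻¹ := by
      have h := conj_by_zpow ht hs (j : ℤ) 0
      rw [zpow_zero, one_mul] at h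
      rw [h, ← zpow_natCast]
      congr 2
      omega
    have hcomm : Commute t ((t * s) ^ (orderOf (t * s) / 2) * t) :=
      (hzt.symm).mul_right (Commute.refl t)
    rw [hzc] at hcomm
    have h := hz.2 _ hcomm
    rw [← hzc] at h
    exact ne_one_of_involution hzord (mul_eq_right.mp h)
  · omega

end CfsgLib.Involutions
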