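import Mathlib
import Cfsg.Agent.Lib.Involutions.Basic
import Cfsg.Agent.Lib.Involutions.Fusion

/-!
Groups with Klein four Sylow 2-subgroups: fusion of involutions.
-/

set_option autoImplicit false

namespace CfsgLib.Involutions

variable {G : Type*} [Group G] [Finite G]

section
variable (P : Sylow 2 G) (hP : IsKleinFour (P : Subgroup G))
include hP

theorem klein_mul_self {a : G} (ha : a ∈ P) : a * a = 1 := by
  have h := Monoid.pow_exponent_eq_one (⟨a, ha⟩ : (P : Subgroup G))
  rw [hP.exponent_two, pow_two] at h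
  exact congrArg Subtype.val h

theorem klein_orderOf {a : G} (ha : a ∈ P) (h1 : a ≠ 1) : orderOf a = 2 :=
  orderOf_eq_two_iff_mul.mpr ⟨h1, klein_mul_self P hP ha⟩

theorem klein_comm : IsMulCommutative (P : Subgroup G) := hP.isMulCommutative

theorem klein_card_involutions : Nat.card {a : G // a ∈ P ∧ a ≠ 1} = 3 := by
  classical
  cases nonempty_fintype G
  have h4 : Nat.card (P : Subgroup G) = 4 := hP.card_four
  have e : {a : G // a ∈ P ∧ a ≠ 1} ≃ {a : (P : Subgroup G) // a ≠ 1} :=
    { toFun := fun a => ⟨⟨a.1, a.2.1⟩, fun h => a.2.2 (congrArg Subtype.val h)⟩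
      invFun := fun a => ⟨a.1.1, a.1.2, fun h => a.2 (Subtype.ext h)⟩
      left_inv := fun a => rfl
      right_inv := fun a => rfl }
  rw [Nat.card_congr e, Nat.card_eq_fintype_card, Fintype.card_subtype_compl,
    Fintype.card_subtype_eq, ← Nat.card_eq_fintype_card, h4]

/-- `N(P)` does not swap two involutions of `P`: if it moves one, it moves all. -/
theorem klein_all_conj {a b : G} (ha : a ∈ P) (hb : b ∈ P) (ha1 : a ≠ 1) (hne : a ≠ b)
    (hab : IsConj a b) {x y : G} (hx : x ∈ P) (hy : y ∈ P) (hx1 : x ≠ 1) (hy1 : y ≠ 1) :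
    IsConj x y := by
  have := klein_comm P hP
  obtain ⟨g, hg⟩ := isConj_iff.mp hab
  obtain ⟨n, hn, hnn⟩ := P.conj_eq_normalizer_conj_of_mem a g⁻¹ ha (by rw [inv_inv, hg]; exact hb)
  rw [inv_inv, hg] at hnn
  have hb1 : b ≠ 1 := fun h => ha1 (by
    rw [h] at hab; exact isConj_one_left.mp hab)
  -- conjugation by `n⁻¹` on the nontrivial elements of `P`
  have hstab : ∀ z ∈ P, n⁻¹ * z * n ∈ P := fun z hz => (Subgroup.mem_normalizer_iff''.mp hn z).mp hz
  have hne1 : ∀ z : G, z ≠ 1 → n⁻¹ * z * n ≠ 1 := fun z hz h => hz (by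
    have h2 : z = n * (n⁻¹ * z * n) * n⁻¹ := by group
    rw [h, mul_one, mul_inv_cancel] at h2
    exact h2)
  have hc1 : a * b ≠ 1 := fun h => hne ((inv_eq_self_of_involution (klein_orderOf P hP ha ha1)).symm.trans
    (inv_eq_of_mul_eq_one_right h))
  have hthree : ∀ z ∈ P, z ≠ 1 → z = a ∨ z = b ∨ z = a * b := by
    intro z hz hz1
    by_contra hcon
    push_neg at hcon
    classical
    have hsub : ({a, b, a * b, z} : Finset G).card ≤ 3 := by
      rw [← klein_card_involutions P hP]
      cases nonempty_fintype G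
      rw [Nat.card_eq_fintype_card, Fintype.card_subtype]
      refine Finset.card_le_card fun w hw => ?_
      simp only [Finset.mem_insert, Finset.mem_singleton] at hw
      simp only [Finset.mem_filter, Finset.mem_univ, true_and]
      rcases hw with rfl | rfl | rfl | rfl
      · exact ⟨ha, ha1⟩
      · exact ⟨hb, hb1⟩
      · exact ⟨(P : Subgroup G).mul_mem ha hb, hc1⟩
      · exact ⟨hz, hz1⟩
    rw [Finset.card_insert_of_notMem, Finset.card_insert_of_notMem, Finset.card_pair hcon.2.2.symm] at hsub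
    · omega
    · simp only [Finset.mem_insert, Finset.mem_singleton, not_or]
      exact ⟨fun h => ha1 (mul_eq_right.mp h.symm), hcon.2.1.symm⟩
    · simp only [Finset.mem_insert, Finset.mem_singleton, not_or]
      exact ⟨hne, fun h => hb1 (mul_eq_left.mp h.symm), hcon.1.symm⟩
  have hbc : IsConj a (a * b) := by
    rcases hthree _ (hstab b hb) (hne1 b hb1) with h | h | h
    · -- `n` would induce a transposition on `P`; this is excluded by the Sylow property
      exfalso
      obtain ⟨k, m, hm, hkm⟩ := Nat.exists_eq_two_pow_mul_odd (orderOf_pos n).ne'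
      have hiter : ∀ i : ℕ, (n ^ (2 * i))⁻¹ * a * n ^ (2 * i) = a := by
        intro i
        induction i with
        | zero => simp
        | succ i ih =>
          rw [mul_add, mul_one, pow_add, pow_two, mul_inv_rev, mul_inv_rev]
          calc n⁻¹ * n⁻¹ * (n ^ (2 * i))⁻¹ * a * (n ^ (2 * i) * (n * n))
              = n⁻¹ * (n⁻¹ * ((n ^ (2 * i))⁻¹ * a * n ^ (2 * i)) * n) * n := by group
            _ = a := by rw [ih, ← hnn, h]
      -- the odd power `n ^ m` still moves `a`, so its 2-power order element would lie in `P`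
      have hnm : (n ^ m)⁻¹ * a * n ^ m = b := by
        obtain ⟨j, rfl⟩ := hm
        rw [pow_succ, mul_inv_rev]
        calc n⁻¹ * (n ^ (2 * j))⁻¹ * a * (n ^ (2 * j) * n)
            = n⁻¹ * ((n ^ (2 * j))⁻¹ * a * n ^ (2 * j)) * n := by group
          _ = b := by rw [hiter, ← hnn]
      have hpord : IsPGroup 2 (Subgroup.zpowers (n ^ m)) := by
        refine IsPGroup.of_card (n := k) ?_
        rw [Nat.card_zpowers, orderOf_pow' _ (by rintro rfl; simp at hm), hkm,
          Nat.gcd_eq_right (dvd_mul_left _ _), Nat.mul_div_cancel _ hm.pos]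
      have hle : Subgroup.zpowers (n ^ m) ≤ Subgroup.normalizer ((P : Subgroup G) : Set G) :=
        Subgroup.zpowers_le.mpr (Subgroup.pow_mem _ hn m)
      have hmax := P.is_maximal' (P.isPGroup'.to_sup_of_normal_left' hpord hle) le_sup_left
      have hmem : n ^ m ∈ (P : Subgroup G) := hmax ▸ Subgroup.mem_sup_right (Subgroup.mem_zpowers _)
      have hcomm := congrArg Subtype.val
        (this.is_comm.comm (⟨a, ha⟩ : (P : Subgroup G)) ⟨n ^ m, hmem⟩)
      change a * n ^ m = n ^ m * a at hcomm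
      rw [mul_assoc, hcomm, ← mul_assoc, inv_mul_cancel, one_mul] at hnm
      exact hne hnm
    · exfalso
      have h3 : n⁻¹ * a * n = n⁻¹ * b * n := hnn.symm.trans h.symm
      exact hne (mul_left_cancel (mul_right_cancel h3))
    · exact hab.trans (isConj_iff.mpr ⟨n⁻¹, by rw [inv_inv]; exact h⟩)
  have all : ∀ z ∈ P, z ≠ 1 → IsConj a z := by
    intro z hz hz1
    rcases hthree z hz hz1 with rfl | rfl | rfl
    · exact IsConj.refl _
    · exact hab
    · exact hbc
  exact (all x hx hx1).symm.trans (all y hy hy1)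

/-- The map from involutions of `P` to classes of involutions of `G`. -/
theorem klein_classes_surjective (C : {C : ConjClasses G // ∃ t : G, orderOf t = 2 ∧ ConjClasses.mk t = C}) :
    ∃ a : G, a ∈ P ∧ a ≠ 1 ∧ ConjClasses.mk a = C.1 := by
  obtain ⟨C, t, ht, rfl⟩ := C
  obtain ⟨g, hg⟩ := exists_conj_le_sylow (isPGroup_two_zpowers ht) P
  exact ⟨g * t * g⁻¹, hg t (Subgroup.mem_zpowers t), fun h => ne_one_of_involution ht (conj_eq_one_iff.mp h),
    ConjClasses.mk_eq_mk_iff_isConj.mpr (isConj_iff.mpr ⟨g, rfl⟩).symm⟩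

theorem klein_dichotomy :
    Nat.card {C : ConjClasses G // ∃ t : G, orderOf t = 2 ∧ ConjClasses.mk t = C} = 1 ∨
    (Nat.card {C : ConjClasses G // ∃ t : G, orderOf t = 2 ∧ ConjClasses.mk t = C} = 3 ∧
      ∀ a ∈ P, ∀ b ∈ P, IsConj a b → a = b) := by
  classical
  let f : {a : G // a ∈ P ∧ a ≠ 1} → {C : ConjClasses G // ∃ t : G, orderOf t = 2 ∧ ConjClasses.mk t = C} :=
    fun a => ⟨ConjClasses.mk a.1, a.1, klein_orderOf P hP a.2.1 a.2.2, rfl⟩
  have hf : Function.Surjective f := fun C => by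
    obtain ⟨a, ha, ha1, hC⟩ := klein_classes_surjective P hP C
    exact ⟨⟨a, ha, ha1⟩, Subtype.ext hC⟩
  by_cases hfus : ∀ a ∈ P, ∀ b ∈ P, IsConj a b → a = b
  · refine Or.inr ⟨?_, hfus⟩
    rw [← Nat.card_eq_of_bijective f ⟨fun a b h => Subtype.ext (hfus _ a.2.1 _ b.2.1
      (ConjClasses.mk_eq_mk_iff_isConj.mp (congrArg Subtype.val h))), hf⟩]
    exact klein_card_involutions P hP
  · refine Or.inl ?_
    push_neg at hfus
    obtain ⟨a, ha, b, hb, hab, hne⟩ := hfus
    have ha1 : a ≠ 1 := fun h => hne (by subst h; exact (isConj_one_right.mp hab).symm)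
    rw [Nat.card_eq_one_iff_unique]
    refine ⟨⟨fun C D => ?_⟩, ⟨f ⟨a, ha, ha1⟩⟩⟩
    obtain ⟨x, rfl⟩ := hf C
    obtain ⟨y, rfl⟩ := hf D
    exact Subtype.ext (ConjClasses.mk_eq_mk_iff_isConj.mpr
      (klein_all_conj P hP ha hb ha1 hne hab x.2.1 y.2.1 x.2.2 y.2.2))

theorem klein_three_iff :
    Nat.card {C : ConjClasses G // ∃ t : G, orderOf t = 2 ∧ ConjClasses.mk t = C} = 3 ↔
      ∃ N : Subgroup G, N.Normal ∧ Subgroup.IsComplement' N (P : Subgroup G) := by
  have := klein_comm P hP
  constructor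
  · intro h
    obtain h1 | ⟨-, hfus⟩ := klein_dichotomy P hP
    · omega
    · have hle : Subgroup.normalizer ((P : Subgroup G) : Set G) ≤ Subgroup.centralizer ((P : Subgroup G) : Set G) := by
        intro g hg a ha
        have ha' : a ∈ P := ha
        have hga : g * a * g⁻¹ ∈ P := (Subgroup.mem_normalizer_iff.mp hg a).mp ha'
        have := hfus a ha' _ hga (isConj_iff.mpr ⟨g, rfl⟩)
        exact (mul_inv_eq_iff_eq_mul.mp this.symm).symm
      exact ⟨_, MonoidHom.normal_ker _, MonoidHom.ker_transferSylow_isComplement' P hle⟩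
  · rintro ⟨N, hN, hc⟩
    obtain h1 | ⟨h3, -⟩ := klein_dichotomy P hP
    · exfalso
      obtain ⟨hsub, -⟩ := Nat.card_eq_one_iff_unique.mp h1
      have hP3 := klein_card_involutions P hP
      have hnt : Nontrivial {a : G // a ∈ P ∧ a ≠ 1} :=
        Finite.one_lt_card_iff_nontrivial.mp (by rw [hP3]; norm_num)
      obtain ⟨⟨a, ha, ha1⟩, ⟨b, hb, hb1⟩, hne⟩ := exists_pair_ne {a : G // a ∈ P ∧ a ≠ 1}
      have hconj : IsConj a b := ConjClasses.mk_eq_mk_iff_isConj.mp (congrArg Subtype.val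
        (hsub.elim ⟨ConjClasses.mk a, a, klein_orderOf P hP ha ha1, rfl⟩
          ⟨ConjClasses.mk b, b, klein_orderOf P hP hb hb1, rfl⟩))
      apply hne
      obtain ⟨g, hg⟩ := isConj_iff.mp hconj
      obtain ⟨⟨⟨m, hm⟩, ⟨q, hq⟩⟩, hgpq⟩ := hc.2 g
      change m * q = g at hgpq
      have hqa : q * a * q⁻¹ = a := by
        have hcm : q * a = a * q :=
          congrArg Subtype.val (this.is_comm.comm (⟨q, hq⟩ : (P : Subgroup G)) ⟨a, ha⟩)
        rw [hcm, mul_inv_cancel_right]
      have hb' : m * a * m⁻¹ = b := by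
        rw [← hg, ← hgpq]
        calc m * a * m⁻¹ = m * (q * a * q⁻¹) * m⁻¹ := by rw [hqa]
          _ = m * q * a * (m * q)⁻¹ := by group
      have hmem : a⁻¹ * b ∈ N := by
        rw [← hb']
        have h2 := N.mul_mem (hN.conj_mem m hm a⁻¹) (N.inv_mem hm)
        rw [inv_inv] at h2
        simpa [mul_assoc] using h2
      have h2 : a⁻¹ * b = 1 :=
        (Subgroup.disjoint_def.mp hc.disjoint) hmem ((P : Subgroup G).mul_mem ((P : Subgroup G).inv_mem ha) hb)
      exact Subtype.ext (inv_mul_eq_one.mp h2)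
    · exact h3

end

end CfsgLib.Involutions
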