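import Mathlib
import Cfsg.Agent.Lib.Involutions.Basic
import Cfsg.Agent.Lib.Involutions.StronglyEmbedded

/-!
Groups with cyclic Sylow 2-subgroups have subgroups of index 2.
-/

set_option autoImplicit false

namespace CfsgLib.Involutions

variable {G : Type*} [Group G]

theorem exists_index_two_of_cyclic_sylow [Finite G] (heven : Even (Nat.card G)) (T : Sylow 2 G)
    (hT : IsCyclic (T : Subgroup G)) : ∃ H : Subgroup G, H.index = 2 := by
  have hmin : (Nat.card G).minFac = 2 := (Nat.minFac_eq_two_iff _).mpr heven.two_dvd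
  let f := MonoidHom.transferSylow T (hT.normalizer_le_centralizer hmin)
  have hc : Subgroup.IsComplement' f.ker (T : Subgroup G) := hT.isComplement' hmin
  have hsurj : Function.Surjective f := by
    rw [← MonoidHom.range_eq_top]
    apply Subgroup.eq_top_of_card_eq
    rw [← Subgroup.index_ker, hc.symm.index_eq_card]
  obtain ⟨k, hk⟩ := IsPGroup.iff_card.mp T.isPGroup'
  have h2 : 2 ∣ Nat.card (T : Subgroup G) := T.dvd_card_of_dvd_card heven.two_dvd
  have hk0 : k ≠ 0 := fun h => by rw [hk, h, pow_zero] at h2; omega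
  obtain ⟨Q, hQ⟩ := Sylow.exists_subgroup_card_pow_prime (G := (T : Subgroup G)) 2 (n := k - 1)
    (hk ▸ pow_dvd_pow 2 (by omega))
  refine ⟨Q.comap f, ?_⟩
  rw [Subgroup.index_comap_of_surjective Q hsurj]
  have := Q.index_mul_card
  rw [hQ, hk] at this
  have h2' : 2 ^ k = 2 * 2 ^ (k - 1) := by rw [← pow_succ']; congr 1; omega
  rw [h2'] at this
  exact Nat.eq_of_mul_eq_mul_right (by positivity) this

theorem exists_index_two_of_card_eq_two_mul_odd [Finite G] {m : ℕ} (hm : Odd m)
    (h : Nat.card G = 2 * m) : ∃ H : Subgroup G, H.index = 2 := by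
  obtain ⟨T⟩ : Nonempty (Sylow 2 G) := inferInstance
  refine exists_index_two_of_cyclic_sylow (by rw [h]; exact even_two_mul m) T ?_
  apply isCyclic_of_prime_card (p := 2)
  have hcm : ¬ 2 ∣ m := fun hd => (Nat.not_even_iff_odd.mpr hm) (even_iff_two_dvd.mpr hd)
  rw [T.card_eq_multiplicity, h, Nat.factorization_mul two_ne_zero (by rintro rfl; simp at hcm)]
  simp [Nat.Prime.factorization Nat.prime_two, Nat.factorization_eq_zero_of_not_dvd hcm]

theorem involution_unique_of_cyclic {C : Type*} [Group C] [Finite C] [IsCyclic C] {a b : C}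
    (ha : orderOf a = 2) (hb : orderOf b = 2) : a = b := by
  classical
  cases nonempty_fintype C
  have h := IsCyclic.card_orderOf_eq_totient (α := C) (d := 2)
    (ha ▸ orderOf_dvd_natCard a |> fun h => by rwa [← Nat.card_eq_fintype_card])
  rw [Nat.totient_two, Finset.card_eq_one] at h
  obtain ⟨c, hc⟩ := h
  have ha' : a ∈ ({c} : Finset C) := hc ▸ by simp [ha]
  have hb' : b ∈ ({c} : Finset C) := hc ▸ by simp [hb]
  rw [Finset.mem_singleton] at ha' hb'
  rw [ha', hb']

/-- If the centralizer of an involution has a cyclic Sylow 2-subgroup, the group has a subgroup of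
index 2. -/
theorem exists_index_two_of_cyclic_centralizer_sylow [Finite G] {x : G} (hx : orderOf x = 2)
    (S : Sylow 2 ↥(Subgroup.centralizer ({x} : Set G)))
    (hS : IsCyclic (S : Subgroup ↥(Subgroup.centralizer ({x} : Set G)))) :
    ∃ H : Subgroup G, H.index = 2 := by
  let C := Subgroup.centralizer ({x} : Set G)
  let S₀ : Subgroup G := (S : Subgroup C).map C.subtype
  have hS₀ : IsPGroup 2 S₀ := S.isPGroup'.map _
  have hS₀c : IsCyclic S₀ :=
    ((S : Subgroup C).equivMapOfInjective C.subtype C.subtype_injective).isCyclic.mp hS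
  have hxC : x ∈ C := Subgroup.mem_centralizer_singleton_iff.mpr rfl
  -- the involution `x` lies in `S₀`
  have hxS : x ∈ S₀ := by
    refine ⟨⟨x, hxC⟩, ?_, rfl⟩
    have hnorm : (⟨x, hxC⟩ : C) ∈ Subgroup.normalizer ((S : Subgroup C) : Set C) := by
      rw [Subgroup.mem_normalizer_iff]
      intro h
      have : (⟨x, hxC⟩ : C) * h * (⟨x, hxC⟩ : C)⁻¹ = h := by
        rw [mul_inv_eq_iff_eq_mul]
        exact Subtype.ext (Subgroup.mem_centralizer_singleton_iff.mp h.2).symm
      rw [this]
    have hxp : IsPGroup 2 (Subgroup.zpowers (⟨x, hxC⟩ : C)) :=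
      IsPGroup.of_card (n := 1) (by rw [Nat.card_zpowers, Subgroup.orderOf_mk, hx, pow_one])
    have := S.is_maximal' (S.isPGroup'.to_sup_of_normal_left' hxp (Subgroup.zpowers_le.mpr hnorm))
      le_sup_left
    rw [← this]
    exact Subgroup.mem_sup_right (Subgroup.mem_zpowers _)
  obtain ⟨P, hP⟩ := hS₀.exists_le_sylow
  rcases hP.eq_or_lt with hEq | hlt
  · exact exists_index_two_of_cyclic_sylow (even_iff_two_dvd.mpr (hx ▸ orderOf_dvd_natCard x)) P
      (by rwa [← hEq])
  · obtain ⟨y, hyP, hyS, hyN⟩ := exists_mem_normalizer_notMem P.isPGroup' hlt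
    exfalso
    have hyx : y * x * y⁻¹ ∈ S₀ := (Subgroup.mem_normalizer_iff.mp hyN x).mp hxS
    have heq : y * x * y⁻¹ = x :=
      congrArg Subtype.val (involution_unique_of_cyclic (a := (⟨_, hyx⟩ : S₀)) (b := ⟨x, hxS⟩)
        (by rw [Subgroup.orderOf_mk, orderOf_conj_eq, hx]) (by rw [Subgroup.orderOf_mk, hx]))
    have hyC : y ∈ C := Subgroup.mem_centralizer_singleton_iff.mpr (mul_inv_eq_iff_eq_mul.mp heq)
    have hle : (S₀ ⊔ Subgroup.zpowers y : Subgroup G) ≤ (P : Subgroup G) :=
      sup_le hlt.le (Subgroup.zpowers_le.mpr hyP)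
    have hP' : IsPGroup 2 ((S₀ ⊔ Subgroup.zpowers y).subgroupOf C) :=
      (P.isPGroup'.to_le hle).comap_subtype
    have := S.is_maximal' hP' (fun z hz => (le_sup_left : S₀ ≤ _) ⟨z, hz, rfl⟩)
    apply hyS
    exact ⟨⟨y, hyC⟩, this ▸ (le_sup_right : Subgroup.zpowers y ≤ S₀ ⊔ _) (Subgroup.mem_zpowers y), rfl⟩

end CfsgLib.Involutions
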