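import Mathlib
import Cfsg.Prelude.Def_TwoFusion
import Cfsg.Prelude.Def_Local
import Cfsg.Prelude.Def_IsolatedElements
import Cfsg.Agent.Lib.Involutions.Fusion
import Cfsg.Agent.Lib.Involutions.Transfer
import Cfsg.Agent.Lib.PCore.Basic
import Cfsg.Agent.Lib.Blocks.WeakOrth
import Cfsg.Agent.Lib.Characters.Values
import Cfsg.Agent.Lib.KGV.Ito

/-!
Glauberman's Z*-theorem, relative to two inputs: constancy of principal block characters on the
core of a centralizer, and the case of a unique involution in the centralizer (Brauer–Suzuki).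
-/

set_option autoImplicit false

namespace CfsgLib.Involutions

open Cfsg
open scoped ComplexConjugate

universe u

/-- Brauer's consequence of the second and third main theorems (statement S0942), as an input. -/
def PrincipalConstant : Prop :=
  ∀ (G : Type u) [Group G] [Finite G] (M : Ideal AlgInt), IsPModular 2 M →
    ∀ x : G, orderOf x = 2 → ∀ y ∈ centralizerPPrimeCore 2 x,
      ∀ χ : IrrCharacter G, χ ∈ principalBlock M G → (χ : G → ℂ) (x * y) = (χ : G → ℂ) x

variable {G : Type u} [Group G] [Finite G]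

theorem conj_ne_implies {z g : G} (hz : orderOf z = 2) :
    z * g * z⁻¹ * g⁻¹ = (g * z * g⁻¹ * z)⁻¹ ∧ g * z * g⁻¹ * z⁻¹ = g * z * g⁻¹ * z := by
  rw [inv_eq_self_of_involution hz]
  refine ⟨?_, rfl⟩
  rw [mul_inv_rev, mul_inv_rev, mul_inv_rev, inv_inv, inv_eq_self_of_involution hz]
  group

theorem isolated_subgroup {u : G} (hu : IsIsolatedInvolution u) {H : Subgroup G} (huH : u ∈ H) :
    IsIsolatedInvolution (⟨u, huH⟩ : H) := by
  refine ⟨by rw [Subgroup.orderOf_mk]; exact hu.1, fun g hg => Subtype.ext ?_⟩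
  exact hu.2 g (congrArg Subtype.val hg.eq)

/-- Centrality modulo the core in a subgroup, read in the group. -/
theorem commutator_mem_centralizer_core {x u c : G}
    (huC : u ∈ Subgroup.centralizer ({x} : Set G)) (hcC : c ∈ Subgroup.centralizer ({x} : Set G))
    (h : InZStar 2 (⟨u, huC⟩ : Subgroup.centralizer ({x} : Set G))) :
    c * u * c⁻¹ * u⁻¹ ∈ centralizerPPrimeCore 2 x :=
  ⟨_, h ⟨c, hcC⟩, rfl⟩

theorem eq_of_mem_abelian {u : G} (hu : IsIsolatedInvolution u) {A : Subgroup G} [A.Normal]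
    (hA : ∀ a ∈ A, ∀ b ∈ A, Commute a b) (huA : u ∈ A) : u ∈ Subgroup.center G := by
  rw [Subgroup.mem_center_iff]
  intro g
  have h := hu.2 g (hA u huA _ ((inferInstance : A.Normal).conj_mem u huA g))
  exact mul_inv_eq_iff_eq_mul.mp h

theorem mem_center_of_commutators {u : G} (hu : orderOf u = 2)
    (h : ∀ g : G, g * u * g⁻¹ * u⁻¹ = 1) : u ∈ Subgroup.center G := by
  rw [Subgroup.mem_center_iff]
  intro g
  exact mul_inv_eq_iff_eq_mul.mp (mul_inv_eq_one.mp (h g))

theorem isolated_quotient {u : G} (hu : IsIsolatedInvolution u) (N : Subgroup G) [N.Normal]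
    (huN : u ∉ N) (hcomm : ∀ g : G, (g * u * g⁻¹) * u * (g * u * g⁻¹)⁻¹ * u⁻¹ ∈ N →
      g * u * g⁻¹ * u⁻¹ ∈ N) :
    IsIsolatedInvolution (QuotientGroup.mk' N u) := by
  refine ⟨?_, ?_⟩
  · rw [orderOf_eq_two_iff_mul]
    refine ⟨fun h => huN ((QuotientGroup.eq_one_iff u).mp h), ?_⟩
    rw [← map_mul, mul_self_eq_one hu.1, map_one]
  · intro q
    obtain ⟨g, rfl⟩ := QuotientGroup.mk'_surjective N q
    intro hq
    rw [← map_inv, ← map_mul, ← map_mul] at hq ⊢
    refine (div_eq_one (a := QuotientGroup.mk' N (g * u * g⁻¹))).mp ?_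
    rw [div_eq_mul_inv, ← map_inv, ← map_mul, QuotientGroup.mk'_apply, QuotientGroup.eq_one_iff]
    refine hcomm g ((QuotientGroup.eq_one_iff _).mp ?_)
    rw [← QuotientGroup.mk'_apply, map_mul, map_mul, map_mul, ← hq.eq, map_inv, map_inv,
      mul_inv_cancel_right, mul_inv_cancel]

section Reduction

variable (IH : ∀ (H : Type u) [Group H] [Finite H], Nat.card H < Nat.card G →
  ∀ z : H, IsIsolatedInvolution z → InZStar 2 z)

omit [Finite G] in
theorem card_quotient_lt [Finite G] (N : Subgroup G) [N.Normal] (hN : N ≠ ⊥) :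
    Nat.card (G ⧸ N) < Nat.card G := by
  rw [Subgroup.card_eq_card_quotient_mul_card_subgroup N]
  refine lt_mul_of_one_lt_right Nat.card_pos ?_
  exact (Subgroup.one_lt_card_iff_ne_bot N).mpr hN

theorem card_subgroup_lt (H : Subgroup G) (hH : H ≠ ⊤) : Nat.card H < Nat.card G := by
  rcases (Nat.le_of_dvd Nat.card_pos H.card_subgroup_dvd_card).lt_or_eq with h | h
  · exact h
  · exact absurd (H.eq_top_of_card_eq h) hH

include IH

theorem zstar_of_core_ne_bot {u : G} (hu : IsIsolatedInvolution u) (hO : pPrimeCore 2 G ≠ ⊥) :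
    InZStar 2 u := by
  set N := pPrimeCore 2 G
  have hodd : ¬ 2 ∣ Nat.card N := CfsgLib.PCore.not_dvd_card_pPrimeCore
  have huN : u ∉ N := fun h => hodd (hu.1 ▸ Subgroup.orderOf_dvd_natCard N h)
  have hiso : IsIsolatedInvolution (QuotientGroup.mk' N u) := by
    refine isolated_quotient hu N huN fun g hg => ?_
    set v := g * u * g⁻¹ with hv
    have hv2 : orderOf v = 2 := (orderOf_conj_eq g u).trans hu.1
    rw [inv_eq_self_of_involution hu.1, inv_eq_self_of_involution hv2] at hg
    rw [inv_eq_self_of_involution hu.1]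
    obtain ⟨m, hm⟩ := Isolated.odd_orderOf_mul hu (isConj_iff.mpr ⟨g, rfl⟩ : IsConj u v) (IsConj.refl u)
    have h1 : (v * u) = ((v * u) * (v * u)) ^ (m + 1) := by
      rw [← pow_two, ← pow_mul, show 2 * (m + 1) = orderOf (v * u) + 1 by omega, pow_succ,
        pow_orderOf_eq_one, one_mul]
    rw [h1]
    refine N.pow_mem ?_ _
    simpa [mul_assoc] using hg
  have h := IH (G ⧸ N) (card_quotient_lt N hO) _ hiso
  intro g
  have h1 := h (QuotientGroup.mk' N g)
  rw [CfsgLib.PCore.pPrimeCore_quotient_pPrimeCore, Subgroup.mem_bot, ← map_inv, ← map_inv,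
    ← map_mul, ← map_mul, ← map_mul, QuotientGroup.mk'_apply, QuotientGroup.eq_one_iff] at h1
  exact h1

theorem central_of_central_involution {u z : G} (hu : IsIsolatedInvolution u)
    (hO : pPrimeCore 2 G = ⊥) (hz : orderOf z = 2) (hzc : z ∈ Subgroup.center G) :
    u ∈ Subgroup.center G := by
  by_cases huz : u = z
  · exact huz ▸ hzc
  set N := Subgroup.zpowers z with hN
  have hNc : N ≤ Subgroup.center G := Subgroup.zpowers_le.mpr hzc
  have : N.Normal :=
    ⟨fun a ha g => by rwa [Subgroup.mem_center_iff.mp (hNc ha) g, mul_inv_cancel_right]⟩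
  have hNmem : ∀ a ∈ N, a = 1 ∨ a = z := by
    rintro a ⟨k, rfl⟩
    rcases Int.even_or_odd' k with ⟨i, rfl | rfl⟩
    · left
      change z ^ (2 * i) = 1
      rw [zpow_mul, zpow_two, mul_self_eq_one hz, one_zpow]
    · right
      change z ^ (2 * i + 1) = z
      rw [zpow_add, zpow_mul, zpow_two, mul_self_eq_one hz, one_zpow, one_mul, zpow_one]
  have hN2 : Nat.card N = 2 := by rw [hN, Nat.card_zpowers, hz]
  have huN : u ∉ N := fun h => (hNmem u h).elim (ne_one_of_involution hu.1) huz
  have hzcomm : ∀ a : G, Commute a z := fun a => Subgroup.mem_center_iff.mp hzc a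
  have hcommutes : ∀ g : G, ∀ a ∈ N, Commute g a := fun g a ha =>
    Subgroup.mem_center_iff.mp (hNc ha) g
  have hiso : IsIsolatedInvolution (QuotientGroup.mk' N u) := by
    refine isolated_quotient hu N huN fun g hg => ?_
    set v := g * u * g⁻¹ with hv
    rcases hNmem _ hg with h | h
    · have hvu : v = u := hu.2 g (mul_inv_eq_iff_eq_mul.mp (mul_inv_eq_one.mp h)).symm
      rw [hvu, mul_inv_cancel]; exact N.one_mem
    · have h1 : v * u * v⁻¹ = z * u := by
        rw [← h]; group
      have h2 : v * u * v⁻¹ = u := hu.2 v (by rw [h1]; exact (hzcomm u).mul_right (Commute.refl u))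
      rw [h1] at h2
      exact absurd (mul_eq_right.mp h2) (ne_one_of_involution hz)
  have h := IH (G ⧸ N) (card_quotient_lt N (by
    intro h'; rw [h', Subgroup.card_bot] at hN2; omega)) _ hiso
  have hcore : pPrimeCore 2 (G ⧸ N) = ⊥ := by
    set K := pPrimeCore 2 (G ⧸ N)
    set L := K.comap (QuotientGroup.mk' N)
    have hKodd : Odd (Nat.card K) := Nat.not_even_iff_odd.mp fun he =>
      CfsgLib.PCore.not_dvd_card_pPrimeCore (p := 2) (G := G ⧸ N) he.two_dvd
    have hLcard : Nat.card L = 2 * Nat.card K := by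
      rw [← hN2, mul_comm]
      exact (CfsgLib.PCore.card_comap_mk' N K).trans (by ring)
    obtain ⟨J, hJ⟩ := exists_index_two_of_card_eq_two_mul_odd hKodd hLcard
    have := Subgroup.normal_of_index_eq_two hJ
    have hJcard : Nat.card J = Nat.card K := by
      have h1 := J.card_mul_index
      rw [hJ, hLcard] at h1
      omega
    have hJbot : J = ⊥ := by
      rw [eq_bot_iff, ← CfsgLib.PCore.pPrimeCore_eq_bot_of_normal L hO]
      refine CfsgLib.PCore.le_pPrimeCore_of_not_dvd inferInstance ?_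
      rw [hJcard]
      exact CfsgLib.PCore.not_dvd_card_pPrimeCore
    rw [hJbot, Subgroup.card_bot] at hJcard
    exact (Subgroup.card_eq_one.mp hJcard.symm)
  refine mem_center_of_commutators hu.1 fun g => ?_
  have h1 := h (QuotientGroup.mk' N g)
  rw [hcore, Subgroup.mem_bot, ← map_inv, ← map_inv, ← map_mul, ← map_mul, ← map_mul,
    QuotientGroup.mk'_apply, QuotientGroup.eq_one_iff] at h1
  rcases hNmem _ h1 with h2 | h2
  · exact h2
  · exfalso
    have hodd := Isolated.odd_orderOf_mul hu (isConj_iff.mpr ⟨g, rfl⟩ : IsConj u (g * u * g⁻¹)) (IsConj.refl u)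
    rw [inv_eq_self_of_involution hu.1] at h2
    rw [h2, hz] at hodd
    exact absurd hodd (by decide)

/-- In the reduced situation every proper nontrivial normal subgroup has index 2 and misses `u`. -/
theorem normal_index_two {u : G} (hu : IsIsolatedInvolution u) (hO : pPrimeCore 2 G = ⊥)
    (hnc : u ∉ Subgroup.center G) {N : Subgroup G} [N.Normal] (hNb : N ≠ ⊥) (hNt : N ≠ ⊤) :
    N.index = 2 ∧ u ∉ N := by
  have hcoreN : pPrimeCore 2 N = ⊥ := CfsgLib.PCore.pPrimeCore_eq_bot_of_normal N hO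
  have huN : u ∉ N := by
    intro huN
    apply hnc
    have h := IH N (card_subgroup_lt N hNt) _ (isolated_subgroup hu huN)
    have hcent : (⟨u, huN⟩ : N) ∈ Subgroup.center N := by
      refine mem_center_of_commutators (by rw [Subgroup.orderOf_mk]; exact hu.1) fun g => ?_
      have := h g
      rwa [hcoreN, Subgroup.mem_bot] at this
    refine eq_of_mem_abelian hu (A := (Subgroup.center N).map N.subtype) ?_ ⟨_, hcent, rfl⟩
    rintro _ ⟨a, ha, rfl⟩ _ ⟨b, hb, rfl⟩
    exact congrArg Subtype.val (Subgroup.mem_center_iff.mp hb a)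
  refine ⟨?_, huN⟩
  set H := N ⊔ Subgroup.zpowers u with hH
  have huH : u ∈ H := Subgroup.mem_sup_right (Subgroup.mem_zpowers u)
  have hHt : H = ⊤ := by
    by_contra hHt
    have h := IH H (card_subgroup_lt H hHt) _ (isolated_subgroup hu huH)
    have hcent : u ∈ Subgroup.centralizer (N : Set G) := by
      intro n hn
      have h1 : n * u * n⁻¹ * u⁻¹ ∈ (pPrimeCore 2 H).map H.subtype :=
        ⟨_, h ⟨n, Subgroup.mem_sup_left hn⟩, rfl⟩
      have h2 : n * u * n⁻¹ * u⁻¹ ∈ N := by
        have e : n * u * n⁻¹ * u⁻¹ = n * (u * n⁻¹ * u⁻¹) := by group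
        rw [e]
        exact N.mul_mem hn ((inferInstance : N.Normal).conj_mem _ (N.inv_mem hn) u)
      have hbot : (pPrimeCore 2 H).map H.subtype ⊓ N = ⊥ := by
        have hle : N ≤ H := le_sup_left
        set J := ((pPrimeCore 2 H).map H.subtype).subgroupOf N
        have hJn : J.Normal := by
          refine ⟨fun a ha b => ?_⟩
          obtain ⟨c, hc, hca⟩ := ha
          have hb : (b : G) ∈ H := hle b.2
          exact ⟨⟨b, hb⟩ * c * ⟨b, hb⟩⁻¹, (inferInstance : (pPrimeCore 2 H).Normal).conj_mem c hc _,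
            by simp [show (c : G) = (a : G) from hca]⟩
        have hJ : J = ⊥ := by
          rw [eq_bot_iff, ← hcoreN]
          refine CfsgLib.PCore.le_pPrimeCore_of_not_dvd hJn fun hd => ?_
          have h3 : Nat.card J ∣ Nat.card (pPrimeCore 2 H) := by
            rw [← Subgroup.card_subtype N J, ← Subgroup.card_subtype H (pPrimeCore 2 H)]
            refine Subgroup.card_dvd_of_le ?_
            rintro _ ⟨a, ha, rfl⟩
            exact ha
          exact CfsgLib.PCore.not_dvd_card_pPrimeCore (hd.trans h3)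
        rw [eq_bot_iff]
        rintro x ⟨hx1, hx2⟩
        have hxJ : (⟨x, hx2⟩ : N) ∈ J := hx1
        rw [hJ, Subgroup.mem_bot] at hxJ
        exact Subgroup.mem_bot.mpr (congrArg Subtype.val hxJ)
      have h4 : n * u * n⁻¹ * u⁻¹ = 1 := Subgroup.mem_bot.mp (hbot ▸ ⟨h1, h2⟩)
      exact mul_inv_eq_iff_eq_mul.mp (mul_inv_eq_one.mp h4)
    by_cases hCt : Subgroup.centralizer (N : Set G) = ⊤
    · have hNc : N ≤ Subgroup.center G := Subgroup.centralizer_eq_top_iff_subset.mp hCt
      have hev : 2 ∣ Nat.card N := by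
        by_contra hd
        exact hNb (le_bot_iff.mp (hO ▸ CfsgLib.PCore.le_pPrimeCore_of_not_dvd inferInstance hd))
      obtain ⟨z, hz⟩ := exists_prime_orderOf_dvd_card' (G := N) 2 hev
      exact hnc (central_of_central_involution IH hu hO (z := (z : G)) (by rwa [Subgroup.orderOf_coe])
        (hNc z.2))
    · have hC := IH (Subgroup.centralizer (N : Set G)) (card_subgroup_lt _ hCt) _ (isolated_subgroup hu hcent)
      have : (Subgroup.centralizer (N : Set G)).Normal := inferInstance
      have hcoreC : pPrimeCore 2 (Subgroup.centralizer (N : Set G)) = ⊥ :=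
        CfsgLib.PCore.pPrimeCore_eq_bot_of_normal _ hO
      apply hnc
      have hcc : (⟨u, hcent⟩ : Subgroup.centralizer (N : Set G)) ∈
          Subgroup.center (Subgroup.centralizer (N : Set G)) := by
        refine mem_center_of_commutators (by rw [Subgroup.orderOf_mk]; exact hu.1) fun g => ?_
        have := hC g
        rwa [hcoreC, Subgroup.mem_bot] at this
      refine eq_of_mem_abelian hu
        (A := (Subgroup.center (Subgroup.centralizer (N : Set G))).map (Subgroup.subtype _)) ?_ ⟨_, hcc, rfl⟩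
      rintro _ ⟨a, ha, rfl⟩ _ ⟨b, hb, rfl⟩
      exact congrArg Subtype.val (Subgroup.mem_center_iff.mp hb a)
  rw [Subgroup.index_eq_two_iff]
  refine ⟨u, fun b => ?_⟩
  obtain ⟨n, hn, w, ⟨k, rfl⟩, rfl⟩ := Subgroup.mem_sup_of_normal_left.mp
    (show b ∈ N ⊔ Subgroup.zpowers u by rw [← hH, hHt]; exact Subgroup.mem_top b)
  rcases Int.even_or_odd' k with ⟨i, rfl | rfl⟩
  · have hb : n * u ^ (2 * i) = n := by rw [zpow_mul, zpow_two, mul_self_eq_one hu.1, one_zpow, mul_one]
    change Xor (n * u ^ (2 * i) * u ∈ N) (n * u ^ (2 * i) ∈ N)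
    rw [hb]
    exact Or.inr ⟨hn, fun h => huN ((N.mul_mem_cancel_left hn).mp h)⟩
  · have hb : n * u ^ (2 * i + 1) = n * u := by
      rw [zpow_add, zpow_mul, zpow_two, mul_self_eq_one hu.1, one_zpow, one_mul, zpow_one]
    change Xor (n * u ^ (2 * i + 1) * u ∈ N) (n * u ^ (2 * i + 1) ∈ N)
    rw [hb, mul_assoc, mul_self_eq_one hu.1, mul_one]
    exact Or.inl ⟨hn, fun h => huN ((N.mul_mem_cancel_left hn).mp h)⟩

/-- The values of principal block characters on products of a conjugate of `u` and a conjugate of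
a commuting involution `v`. -/
theorem char_product_const (hK : PrincipalConstant.{u}) {M : Ideal AlgInt} (hM : IsPModular 2 M)
    {u v : G} (hu : IsIsolatedInvolution u) (hncz : ∀ z : G, orderOf z = 2 → z ∉ Subgroup.center G)
    (hv : orderOf v = 2) (huv : Commute u v) (hne : v ≠ u) {χ : IrrCharacter G}
    (hχ : χ ∈ principalBlock M G) {h : G} (hh : IsConj u h) :
    (χ : G → ℂ) (h * v) = (χ : G → ℂ) (u * v) := by
  have hh2 : orderOf h = 2 := (orderOf_eq_of_isConj hh).trans hu.1
  have hhiso := Isolated.isolated_of_isConj hu hh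
  have hnconj : ¬ IsConj h v := fun hc =>
    hne (Isolated.eq_of_commute hu (IsConj.refl u) (hh.trans hc) huv)
  have h4 := isolated_product_two_mod_four hhiso hv fun hc => hnconj hc.symm
  have hord : orderOf (v * h) = orderOf (h * v) := by
    rw [← orderOf_conj_eq h (v * h)]
    rw [inv_eq_self_of_involution hh2, mul_assoc, mul_assoc v, mul_self_eq_one hh2, mul_one]
  rw [hord] at h4
  obtain ⟨j, hj⟩ : ∃ j, orderOf (h * v) = 2 * (2 * j + 1) := ⟨orderOf (h * v) / 4, by omega⟩
  obtain ⟨hz, hzh, hzv⟩ := central_involution hh2 hv ⟨2 * j + 1, by omega⟩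
  rw [show orderOf (h * v) / 2 = 2 * j + 1 by omega] at hz hzh hzv
  set r := h * v with hr
  set z := r ^ (2 * j + 1) with hzdef
  set C := Subgroup.centralizer ({z} : Set G) with hC
  have hCt : C ≠ ⊤ := fun hc => hncz z hz
    (Set.singleton_subset_iff.mp (Subgroup.centralizer_eq_top_iff_subset.mp hc))
  have hhC : h ∈ C := Subgroup.mem_centralizer_singleton_iff.mpr hzh.symm.eq
  have hvC : v ∈ C := Subgroup.mem_centralizer_singleton_iff.mpr hzv.symm.eq
  have hcomm := commutator_mem_centralizer_core hhC hvC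
    (IH C (card_subgroup_lt C hCt) _ (isolated_subgroup hhiso hhC))
  have hr2 : v * h * v⁻¹ * h⁻¹ = (r ^ 2)⁻¹ := by
    rw [hr, pow_two, inv_eq_self_of_involution hv, inv_eq_self_of_involution hh2]
    simp only [mul_inv_rev, inv_eq_self_of_involution hv, inv_eq_self_of_involution hh2, mul_assoc]
  rw [hr2, inv_mem_iff] at hcomm
  have hy : r ^ (2 * j + 2) ∈ centralizerPPrimeCore 2 z := by
    rw [show 2 * j + 2 = 2 * (j + 1) by ring, pow_mul]
    exact Subgroup.pow_mem _ hcomm _
  have hrz : r = z * r ^ (2 * j + 2) := by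
    rw [hzdef, ← pow_add, show 2 * j + 1 + (2 * j + 2) = orderOf r + 1 by omega, pow_succ,
      pow_orderOf_eq_one, one_mul]
  rw [hrz, hK G M hM z hz _ hy χ hχ]
  -- `z` is conjugate to `u * v`
  apply CfsgLib.Characters.classFunction_eq_of_isConj (CfsgLib.Characters.irr_isClassFunction χ)
  have hzh_conj : IsConj v (z * h) := by
    refine isConj_iff.mpr ⟨r ^ ((j : ℤ) + 1), ?_⟩
    have hv' : r ^ (-1 : ℤ) * h = v := by
      rw [zpow_neg_one, hr, mul_inv_rev, inv_eq_self_of_involution hh2,
        inv_eq_self_of_involution hv, mul_assoc, mul_self_eq_one hh2, mul_one]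
    have h1 := conj_by_zpow hh2 hv ((j : ℤ) + 1) (-1)
    rw [← hr, hv'] at h1
    rw [h1, hzdef, ← zpow_natCast]
    congr 2
    push_cast
    ring
  obtain ⟨c, hc⟩ := isConj_iff.mp hh
  obtain ⟨a, ha⟩ := isConj_iff.mp hzh_conj
  set v' := c⁻¹ * (z * h) * c with hv'
  have huv' : Commute v' u := by
    have h1 : Commute (z * h) h := hzh.mul_left (Commute.refl h)
    have h2 := h1.map (MulAut.conj c⁻¹).toMonoidHom
    simp only [MulEquiv.coe_toMonoidHom, MulAut.conj_apply, inv_inv] at h2
    rwa [show c⁻¹ * h * c = u by rw [← hc]; group] at h2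
  have hvv' : (c⁻¹ * a) * v * (c⁻¹ * a)⁻¹ = v' := by rw [hv', ← ha]; group
  obtain ⟨b, -, hbu, hbv⟩ := Isolated.exists_conj_commute hu (⊤ : Subgroup G)
    (Subgroup.mem_normalizer_iff.mpr fun x => by simp) huv.symm huv' (Subgroup.mem_top _) hvv'
  refine (isConj_iff.mpr ⟨c * b, ?_⟩ : IsConj (u * v) z).symm
  calc c * b * (u * v) * (c * b)⁻¹ = c * ((b * u * b⁻¹) * (b * v * b⁻¹)) * c⁻¹ := by group
    _ = c * (u * v') * c⁻¹ := by rw [mul_inv_eq_iff_eq_mul.mpr hbu.eq, hbv]
    _ = (c * u * c⁻¹) * (c * v' * c⁻¹) := by group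
    _ = h * (z * h) := by rw [hc, hv']; group
    _ = z := by rw [← mul_assoc, ← hzh.eq, mul_assoc, mul_self_eq_one hh2, mul_one]

theorem zstar_step (hK : PrincipalConstant.{u}) {u w : G} (hu : IsIsolatedInvolution u)
    (hw : orderOf w = 2) (huw : Commute u w) (hwu : w ≠ u) : InZStar 2 u := by
  classical
  by_cases hO : pPrimeCore 2 G = ⊥
  swap
  · exact zstar_of_core_ne_bot IH hu hO
  suffices hcen : u ∈ Subgroup.center G by
    intro g
    rw [Subgroup.mem_center_iff.mp hcen g, mul_inv_cancel_right, mul_inv_cancel]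
    exact Subgroup.one_mem _
  by_contra hnc
  have hncz : ∀ z : G, orderOf z = 2 → z ∉ Subgroup.center G := fun z hz hzc =>
    hnc (central_of_central_involution IH hu hO hz hzc)
  have huw2 : orderOf (u * w) = 2 := by
    rw [orderOf_eq_two_iff_mul]
    refine ⟨fun h => hwu ((inv_eq_of_mul_eq_one_right h).symm.trans (inv_eq_self_of_involution hu.1)), ?_⟩
    rw [huw.symm.mul_mul_mul_comm, mul_self_eq_one hu.1, mul_self_eq_one hw, one_mul]
  -- an involution commuting with `u` inside every proper nontrivial normal subgroup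
  obtain ⟨v, hv, huv, hvu, hvN⟩ : ∃ v : G, orderOf v = 2 ∧ Commute u v ∧ v ≠ u ∧
      ∀ N : Subgroup G, N.Normal → N ≠ ⊥ → v ∈ N := by
    by_cases hex : ∃ N : Subgroup G, N.Normal ∧ N ≠ ⊥ ∧ N ≠ ⊤
    · obtain ⟨N1, hN1, hN1b, hN1t⟩ := hex
      obtain ⟨hN1i, huN1⟩ := normal_index_two IH hu hO hnc hN1b hN1t
      have huniq : ∀ N : Subgroup G, N.Normal → N ≠ ⊥ → N ≠ ⊤ → N = N1 := by
        intro N hN hNb hNt
        obtain ⟨hNi, huN⟩ := normal_index_two IH hu hO hnc hNb hNt
        have hmeet : N ⊓ N1 ≠ ⊥ := by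
          intro hbot
          apply hnc
          refine mem_center_of_commutators hu.1 fun g => ?_
          rw [← Subgroup.mem_bot, ← hbot]
          have key : ∀ L : Subgroup G, L.Normal → L.index = 2 → g * u * g⁻¹ * u⁻¹ ∈ L := by
            intro L hL hLi
            simp only [Subgroup.mul_mem_iff_of_index_two hLi, inv_mem_iff]
            tauto
          exact ⟨key N hN hNi, key N1 hN1 hN1i⟩
        have hmt : N ⊓ N1 ≠ ⊤ := fun h => hNt (top_le_iff.mp (h ▸ inf_le_left))
        obtain ⟨hmi, -⟩ := normal_index_two IH hu hO hnc hmeet hmt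
        have e1 : N ⊓ N1 = N := Subgroup.eq_of_le_of_card_ge inf_le_left (by
          have a := (N ⊓ N1).card_mul_index
          have b := N.card_mul_index
          rw [hmi] at a; rw [hNi] at b; omega)
        have e2 : N ⊓ N1 = N1 := Subgroup.eq_of_le_of_card_ge inf_le_right (by
          have a := (N ⊓ N1).card_mul_index
          have b := N1.card_mul_index
          rw [hmi] at a; rw [hN1i] at b; omega)
        exact e1.symm.trans e2
      have hall : ∀ x : G, x ∈ N1 → ∀ N : Subgroup G, N.Normal → N ≠ ⊥ → x ∈ N := by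
        intro x hx N hN hNb
        by_cases hNt : N = ⊤
        · rw [hNt]; exact Subgroup.mem_top x
        · rw [huniq N hN hNb hNt]; exact hx
      by_cases hwN : w ∈ N1
      · exact ⟨w, hw, huw, hwu, hall w hwN⟩
      · refine ⟨u * w, huw2, (Commute.refl u).mul_right huw,
          fun h => ne_one_of_involution hw (mul_eq_left.mp h), hall _ ?_⟩
        rw [Subgroup.mul_mem_iff_of_index_two hN1i]
        tauto
    · push_neg at hex
      exact ⟨w, hw, huw, hwu, fun N hN hNb => (hex N hN hNb).symm ▸ Subgroup.mem_top w⟩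
  obtain ⟨M, hM⟩ := CfsgLib.KGV.exists_isPModular 2 Nat.prime_two
  cases nonempty_fintype G
  have hB := CfsgLib.Blocks.isPBlock_principalBlock (G := G) M
  have horth := CfsgLib.Blocks.weak_orth hM hB (x := (1 : G)) (y := v)
    (by rw [orderOf_one]; decide) (by rw [hv])
  -- class sums
  have hprod : ∀ χ : IrrCharacter G, χ ∈ principalBlock M G → ∀ x : G, orderOf x = 2 → Commute u x →
      x ≠ u → (χ : G → ℂ) u * (χ : G → ℂ) x = (χ : G → ℂ) 1 * (χ : G → ℂ) (u * x) := by
    intro χ hχ x hx hux hxu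
    have hsum := CfsgLib.Blocks.sum_isConj_mul χ u x
    rw [← Finset.sum_filter, Finset.sum_congr rfl
      (fun h hh => char_product_const IH hK hM hu hncz hx hux hxu hχ (Finset.mem_filter.mp hh).2),
      Finset.sum_const, nsmul_eq_mul, centralChar] at hsum
    have hcard : ((Finset.univ.filter fun h : G => IsConj u h).card : ℂ) =
        ((Subgroup.centralizer ({u} : Set G)).index : ℂ) := by
      rw [← CfsgLib.Blocks.natCard_isConj u, Nat.card_eq_fintype_card, Fintype.card_subtype]
    rw [hcard] at hsum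
    have h1 := CfsgLib.Characters.irr_one_ne_zero χ
    have hi : ((Subgroup.centralizer ({u} : Set G)).index : ℂ) ≠ 0 :=
      Nat.cast_ne_zero.mpr Subgroup.index_ne_zero_of_finite
    field_simp at hsum
    linear_combination -hsum
  -- each term is a nonnegative multiple
  have hterm : ∀ χ : IrrCharacter G, χ ∈ principalBlock M G →
      ∃ r : ℕ, (χ : G → ℂ) 1 * conj ((χ : G → ℂ) v) = r := by
    intro χ hχ
    by_cases hzero : (χ : G → ℂ) v = 0
    · exact ⟨0, by simp [hzero]⟩
    have e1 := hprod χ hχ v hv huv hvu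
    have hxv : orderOf (u * v) = 2 := by
      rw [orderOf_eq_two_iff_mul]
      refine ⟨fun h => hvu ((inv_eq_of_mul_eq_one_right h).symm.trans (inv_eq_self_of_involution hu.1)), ?_⟩
      rw [huv.symm.mul_mul_mul_comm, mul_self_eq_one hu.1, mul_self_eq_one hv, one_mul]
    have e2 := hprod χ hχ (u * v) hxv ((Commute.refl u).mul_right huv)
      (fun h => ne_one_of_involution hv (mul_eq_left.mp h))
    rw [← mul_assoc u u v, mul_self_eq_one hu.1, one_mul] at e2
    have hsq : ((χ : G → ℂ) u) ^ 2 = ((χ : G → ℂ) 1) ^ 2 := by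
      apply mul_right_cancel₀ hzero
      linear_combination (χ : G → ℂ) u * e1 + (χ : G → ℂ) 1 * e2
    obtain ⟨χf, hirr⟩ := χ
    obtain ⟨n, ρ, hρ, rfl⟩ := hirr
    simp only [Representation.char_one] at hsq ⊢
    have hrank : Module.finrank ℂ (Fin n → ℂ) = n := by simp
    have hnorm : ‖ρ.character u‖ = (Module.finrank ℂ (Fin n → ℂ) : ℝ) := by
      have h2 := congrArg (fun z : ℂ => ‖z‖) hsq
      simp only [norm_pow, Complex.norm_natCast] at h2
      exact (pow_left_inj₀ (norm_nonneg _) (Nat.cast_nonneg _) two_ne_zero).mp h2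
    obtain ⟨ω, hω⟩ := (CfsgLib.Characters.norm_char_eq_iff_scalar ρ u).mp hnorm
    have hω2 : ρ u * ρ u = 1 := by rw [← map_mul, mul_self_eq_one hu.1, map_one]
    have hker : ∀ g : G, g * u * g⁻¹ * u⁻¹ ∈ MonoidHom.ker ρ := by
      intro g
      rw [inv_eq_self_of_involution hu.1, MonoidHom.mem_ker]
      have hc : ρ g * ρ u = ρ u * ρ g := by
        rw [hω]; ext x; simp
      calc ρ (g * u * g⁻¹ * u) = ρ g * ρ u * ρ g⁻¹ * ρ u := by rw [map_mul, map_mul, map_mul]
        _ = ρ u * (ρ g * ρ g⁻¹) * ρ u := by rw [hc, mul_assoc (ρ u)]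
        _ = 1 := by rw [← map_mul, mul_inv_cancel, map_one, mul_one, hω2]
    have hvker : ρ v = 1 := by
      refine MonoidHom.mem_ker.mp (hvN _ inferInstance fun hb => hnc ?_)
      refine mem_center_of_commutators hu.1 fun g => Subgroup.mem_bot.mp (hb ▸ hker g)
    refine ⟨n * n, ?_⟩
    have : ρ.character v = (Module.finrank ℂ (Fin n → ℂ) : ℂ) :=
      (CfsgLib.Characters.char_eq_degree_iff ρ v).mpr hvker
    rw [this, hrank, Complex.conj_natCast, Nat.cast_mul]
  choose r hr using hterm
  rw [← Finset.sum_attach, Finset.sum_congr rfl (fun χ _ => hr χ.1 (Finset.mem_filter.mp χ.2).2),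
    ← Nat.cast_sum, Nat.cast_eq_zero, Finset.sum_eq_zero_iff] at horth
  have htriv : CfsgLib.Characters.principalIrr G ∈ principalBlock M G :=
    CfsgLib.Blocks.sameBlock_refl hM _
  have h0 := horth ⟨CfsgLib.Characters.principalIrr G,
    Finset.mem_filter.mpr ⟨Finset.mem_univ _, htriv⟩⟩ (Finset.mem_attach _ _)
  have h1 := hr (CfsgLib.Characters.principalIrr G) htriv
  rw [h0] at h1
  simp at h1

end Reduction

end CfsgLib.Involutions
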