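import Mathlib
import Cfsg.Agent.Lib.Involutions.KleinSylow
import Cfsg.Agent.Lib.Involutions.ZStar
import Cfsg.Agent.Lib.Involutions.ElementaryOdd
import Cfsg.Agent.Lib.Characters.BrauerInduction
import Cfsg.Agent.Lib.Blocks.WeakOrth

/-!
The principal 2-block of a group with a Klein four Sylow 2-subgroup and one class of involutions:
four characters, constant on the elements of even order.
-/

set_option autoImplicit false

namespace CfsgLib.Involutions

open Cfsg
open scoped ComplexConjugate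

universe u

variable {K : Type u} [Group K] [Fintype K]

/-- The signed principal block family of a Klein four Sylow 2-subgroup with fused involutions. -/
structure KleinFamily (M : Ideal AlgInt) (K : Type u) [Group K] [Fintype K] where
  q : Fin 4 → K → ℂ
  q_zero : ∀ g, q 0 g = 1
  q_even : ∀ i g, 2 ∣ orderOf g → q i g = 1
  q_sum : ∀ g : K, Odd (orderOf g) → ∑ i, q i g = 0
  q_gen : ∀ i, IsGeneralizedCharacter K (q i)
  q_inner : ∀ i j, classInner (q i) (q j) = if i = j then 1 else 0
  q_out : ∀ i (χ : IrrCharacter K), χ ∉ principalBlock M K → classInner (q i) (χ : K → ℂ) = 0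
  block : ∀ χ : IrrCharacter K, χ ∈ principalBlock M K →
    ∃ (i : Fin 4) (e : ℂ), (e = 1 ∨ e = -1) ∧ (χ : K → ℂ) = e • q i
  card_even : 4 * (Finset.univ.filter fun g : K => 2 ∣ orderOf g).card = Nat.card K

section
variable (P : Sylow 2 K) (hP : IsKleinFour (P : Subgroup K))
include hP

theorem klein_order_two_part {g : K} (hg : 2 ∣ orderOf g) : orderOf g % 4 = 2 := by
  by_contra h
  have h4 : 4 ∣ orderOf g := by omega
  obtain ⟨c, hc⟩ := h4
  have hgc : orderOf (g ^ c) = 4 := by
    have hpos := orderOf_pos g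
    rw [orderOf_pow' _ (by rintro rfl; omega), hc, Nat.gcd_eq_right (dvd_mul_left _ _),
      Nat.mul_div_cancel _ (by rcases c with _ | c <;> omega)]
  obtain ⟨a, ha⟩ := exists_conj_le_sylow (T := Subgroup.zpowers (g ^ c))
    (IsPGroup.of_card (n := 2) (by rw [Nat.card_zpowers, hgc]; norm_num)) P
  have h1 := klein_mul_self P hP (ha _ (Subgroup.mem_zpowers _))
  have h2 : orderOf (a * g ^ c * a⁻¹) ∣ 2 := orderOf_dvd_of_pow_eq_one (by rw [pow_two]; exact h1)
  rw [orderOf_conj_eq, hgc] at h2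
  omega

theorem klein_involution_index_odd {t : K} (ht : orderOf t = 2) :
    Odd (Subgroup.centralizer ({t} : Set K)).index := by
  obtain ⟨a, ha⟩ := exists_conj_le_sylow (isPGroup_two_zpowers ht) P
  have hta := ha t (Subgroup.mem_zpowers t)
  have := klein_comm P hP
  have hle : ((a⁻¹ • P : Sylow 2 K) : Subgroup K) ≤ Subgroup.centralizer ({t} : Set K) := by
    intro b hb
    rw [Sylow.coe_subgroup_smul] at hb
    obtain ⟨c, hc, rfl⟩ := hb
    have h : c * (a * t * a⁻¹) = a * t * a⁻¹ * c :=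
      congrArg Subtype.val (this.is_comm.comm (⟨c, hc⟩ : (P : Subgroup K)) ⟨_, hta⟩)
    rw [Subgroup.mem_centralizer_singleton_iff]
    simp only [MulAut.conj_inv_apply, MulAut.smul_def, map_inv]
    calc a⁻¹ * c * a * t = a⁻¹ * (c * (a * t * a⁻¹)) * a := by group
      _ = t * (a⁻¹ * c * a) := by rw [h]; group
  rw [← Nat.not_even_iff_odd, even_iff_two_dvd]
  exact fun h => (a⁻¹ • P : Sylow 2 K).not_dvd_index (h.trans (Subgroup.index_dvd_of_le hle))

/-- The centralizer of an involution has a normal 2-complement, made of its elements of odd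
order. -/
theorem klein_centralizer_complement {t : K} (ht : orderOf t = 2) :
    ∃ N : Subgroup (Subgroup.centralizer ({t} : Set K)), N.Normal ∧
      4 * Nat.card N = Nat.card (Subgroup.centralizer ({t} : Set K)) ∧
      ∀ y : Subgroup.centralizer ({t} : Set K), y ∈ N ↔ Odd (orderOf y) := by
  set C := Subgroup.centralizer ({t} : Set K)
  obtain ⟨a, ha⟩ := exists_conj_le_sylow (isPGroup_two_zpowers ht) P
  have hta := ha t (Subgroup.mem_zpowers t)
  have := klein_comm P hP
  have hle : ((a⁻¹ • P : Sylow 2 K) : Subgroup K) ≤ C := by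
    intro b hb
    rw [Sylow.coe_subgroup_smul] at hb
    obtain ⟨c, hc, rfl⟩ := hb
    have h : c * (a * t * a⁻¹) = a * t * a⁻¹ * c :=
      congrArg Subtype.val (this.is_comm.comm (⟨c, hc⟩ : (P : Subgroup K)) ⟨_, hta⟩)
    rw [Subgroup.mem_centralizer_singleton_iff]
    simp only [MulAut.conj_inv_apply, MulAut.smul_def, map_inv]
    calc a⁻¹ * c * a * t = a⁻¹ * (c * (a * t * a⁻¹)) * a := by group
      _ = t * (a⁻¹ * c * a) := by rw [h]; group
  let Q : Sylow 2 C := (a⁻¹ • P).subtype hle
  have e1 : (Q : Subgroup C) ≃* ((a⁻¹ • P : Sylow 2 K) : Subgroup K) :=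
    Subgroup.subgroupOfEquivOfLe hle
  have e2 : ((a⁻¹ • P : Sylow 2 K) : Subgroup K) ≃* (P : Subgroup K) :=
    ((P.equiv (a⁻¹ • P)).symm)
  have hQ : IsKleinFour (Q : Subgroup C) :=
    ⟨by rw [Nat.card_congr (e1.trans e2).toEquiv]; exact hP.card_four,
     by rw [Monoid.exponent_eq_of_mulEquiv (e1.trans e2)]; exact hP.exponent_two⟩
  rcases klein_dichotomy Q hQ with h1 | ⟨h3, -⟩
  · exfalso
    obtain ⟨hsub, -⟩ := Nat.card_eq_one_iff_unique.mp h1
    have htC : t ∈ C := Subgroup.mem_centralizer_singleton_iff.mpr rfl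
    have htQ : (⟨t, htC⟩ : C) ∈ Q := by
      change t ∈ ((a⁻¹ • P : Sylow 2 K) : Subgroup K)
      rw [Sylow.coe_subgroup_smul]
      exact ⟨_, hta, by simp [mul_assoc]⟩
    have hq3 := klein_card_involutions Q hQ
    have hnt : Nontrivial {b : C // b ∈ Q ∧ b ≠ 1} :=
      Finite.one_lt_card_iff_nontrivial.mp (by rw [hq3]; norm_num)
    obtain ⟨⟨b, hb, hb1⟩, hbt⟩ := exists_ne
      (⟨⟨t, htC⟩, htQ, fun h => ne_one_of_involution ht (congrArg Subtype.val h)⟩ :
        {b : C // b ∈ Q ∧ b ≠ 1})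
    have hconj : IsConj (⟨t, htC⟩ : C) b := ConjClasses.mk_eq_mk_iff_isConj.mp (congrArg Subtype.val
      (hsub.elim ⟨ConjClasses.mk _, _, by rw [Subgroup.orderOf_mk]; exact ht, rfl⟩
        ⟨ConjClasses.mk b, b, klein_orderOf Q hQ hb hb1, rfl⟩))
    obtain ⟨c, hc⟩ := isConj_iff.mp hconj
    apply hbt
    refine Subtype.ext (hc.symm.trans (Subtype.ext ?_))
    exact mul_inv_eq_iff_eq_mul.mpr (Subgroup.mem_centralizer_singleton_iff.mp c.2)
  · obtain ⟨N, hN, hc⟩ := (klein_three_iff Q hQ).mp h3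
    have hidx : N.index = 4 := by rw [hc.symm.index_eq_card, hQ.card_four]
    have h2N : ¬ 2 ∣ Nat.card N := by
      rw [← hc.index_eq_card]; exact Q.not_dvd_index
    refine ⟨N, hN, ?_, fun y => ⟨fun hy => ?_, fun hy => ?_⟩⟩
    · rw [← hidx, mul_comm]; exact N.card_mul_index
    · rw [← Nat.not_even_iff_odd, even_iff_two_dvd]
      exact fun h => h2N (h.trans (Subgroup.orderOf_dvd_natCard N hy))
    · rw [← QuotientGroup.eq_one_iff, ← orderOf_eq_one_iff]
      have h1 : orderOf (y : C ⧸ N) ∣ 2 ^ 2 := by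
        rw [show (2 : ℕ) ^ 2 = 4 by norm_num, ← hidx]; exact orderOf_dvd_natCard _
      exact Nat.eq_one_of_dvd_coprimes (Nat.Coprime.pow_right 2 (Nat.coprime_two_right.mpr hy))
        (orderOf_map_dvd (QuotientGroup.mk' N) y) h1

theorem klein_odd_mem_core {t y : K} (ht : orderOf t = 2) (hy : Odd (orderOf y))
    (hc : y * t = t * y) : y ∈ centralizerPPrimeCore 2 t := by
  obtain ⟨N, hN, -, hmem⟩ := klein_centralizer_complement P hP ht
  refine ⟨⟨y, Subgroup.mem_centralizer_singleton_iff.mpr hc⟩, ?_, rfl⟩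
  refine CfsgLib.PCore.le_pPrimeCore_of_not_dvd hN (fun h => ?_) ((hmem _).mpr (by rw [Subgroup.orderOf_mk]; exact hy))
  obtain ⟨x, hx⟩ := exists_prime_orderOf_dvd_card' (G := N) 2 h
  have := (hmem x.1).mp x.2
  rw [Subgroup.orderOf_coe, hx] at this
  exact absurd this (by decide)

/-- The decomposition of an element of even order. -/
theorem klein_even_decomp {g : K} (hg : 2 ∣ orderOf g) :
    ∃ t y : K, g = t * y ∧ orderOf t = 2 ∧ Odd (orderOf y) ∧ y * t = t * y := by
  have h4 := klein_order_two_part P hP hg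
  obtain ⟨j, hj⟩ : ∃ j, orderOf g = 2 * (2 * j + 1) := ⟨orderOf g / 4, by omega⟩
  refine ⟨g ^ (2 * j + 1), g ^ (2 * j + 2), ?_, ?_, ?_, ((Commute.refl g).pow_pow _ _).eq⟩
  · rw [← pow_add, show 2 * j + 1 + (2 * j + 2) = orderOf g + 1 by omega, pow_succ,
      pow_orderOf_eq_one, one_mul]
  · rw [orderOf_pow' _ (by omega), hj, Nat.gcd_eq_right (dvd_mul_left _ _),
      Nat.mul_div_cancel _ (by omega)]
  · have hdvd : orderOf (g ^ (2 * j + 2)) ∣ 2 * j + 1 := by
      apply orderOf_dvd_of_pow_eq_one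
      rw [← pow_mul, show (2 * j + 2) * (2 * j + 1) = orderOf g * (j + 1) by rw [hj]; ring, pow_mul,
        pow_orderOf_eq_one, one_pow]
    exact (show Odd (2 * j + 1) from ⟨j, rfl⟩).of_dvd_nat hdvd

variable (hone : ∀ s t : K, orderOf s = 2 → orderOf t = 2 → IsConj s t)

theorem klein_count (hone : ∀ s t : K, orderOf s = 2 → orderOf t = 2 → IsConj s t) :
    4 * (Finset.univ.filter fun g : K => 2 ∣ orderOf g).card = Nat.card K := by
  classical
  let I := Finset.univ.filter fun t : K => orderOf t = 2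
  let odds : K → Finset K := fun t => Finset.univ.filter fun y => Odd (orderOf y) ∧ y * t = t * y
  have hodds : ∀ t, orderOf t = 2 →
      4 * (odds t).card = Nat.card (Subgroup.centralizer ({t} : Set K)) := by
    intro t ht
    obtain ⟨N, -, hN, hmem⟩ := klein_centralizer_complement P hP ht
    rw [← hN]
    congr 1
    rw [← Subgroup.card_subtype _ N, Nat.card_eq_fintype_card,
      Fintype.card_of_subtype (odds t) fun y => ?_]
    simp only [odds, Finset.mem_filter, Finset.mem_univ, true_and, Subgroup.mem_map]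
    constructor
    · rintro ⟨hy, hc⟩
      exact ⟨⟨y, Subgroup.mem_centralizer_singleton_iff.mpr hc⟩,
        (hmem _).mpr (by rw [Subgroup.orderOf_mk]; exact hy), rfl⟩
    · rintro ⟨x, hx, rfl⟩
      refine ⟨?_, Subgroup.mem_centralizer_singleton_iff.mp x.2⟩
      have h := (hmem x).mp hx
      rwa [← Subgroup.orderOf_coe] at h
  have hbij : (Finset.univ.filter fun g : K => 2 ∣ orderOf g).card = (I.sigma fun t => odds t).card := by
    symm
    refine Finset.card_bij (fun s _ => s.1 * s.2) ?_ ?_ ?_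
    · rintro ⟨t, y⟩ hs
      simp only [I, odds, Finset.mem_sigma, Finset.mem_filter, Finset.mem_univ, true_and] at hs ⊢
      obtain ⟨ht, hy, hc⟩ := hs
      rw [(show Commute t y from hc.symm).orderOf_mul_eq_mul_orderOf_of_coprime
        (by rw [ht]; exact Nat.coprime_two_left.mpr hy), ht]
      exact dvd_mul_right _ _
    · rintro ⟨t, y⟩ hs ⟨t', y'⟩ hs' h
      simp only [I, odds, Finset.mem_sigma, Finset.mem_filter, Finset.mem_univ, true_and] at hs hs'
      obtain ⟨ht, hy, hc⟩ := hs
      obtain ⟨ht', hy', hc'⟩ := hs'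
      have h' : t * y = t' * y' := h
      have hp : ∀ {t y : K}, orderOf t = 2 → Odd (orderOf y) → y * t = t * y → ∀ n : ℕ, Odd n →
          orderOf y ∣ n → (t * y) ^ n = t := by
        intro t y ht hy hc n hn hd
        obtain ⟨m, rfl⟩ := hn
        rw [(show Commute t y from hc.symm).mul_pow, orderOf_dvd_iff_pow_eq_one.mp hd, mul_one,
          pow_succ, pow_mul, pow_two, mul_self_eq_one ht, one_pow, one_mul]
      have hodd : Odd (orderOf y * orderOf y') := hy.mul hy'
      have e1 := hp ht hy hc _ hodd (dvd_mul_right _ _)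
      have e2 := hp ht' hy' hc' _ hodd (dvd_mul_left _ _)
      rw [h', e2] at e1
      subst e1
      rw [mul_left_cancel h']
    · intro g hg
      simp only [Finset.mem_filter, Finset.mem_univ, true_and] at hg
      obtain ⟨t, y, h, ht, hy, hc⟩ := klein_even_decomp P hP hg
      exact ⟨⟨t, y⟩, by simp [I, odds, ht, hy, hc], h.symm⟩
  rw [hbij, Finset.card_sigma, Finset.mul_sum, Finset.sum_congr rfl
    (fun t ht => hodds t (Finset.mem_filter.mp ht).2)]
  obtain ⟨t₀, ht₀⟩ : ∃ t : K, orderOf t = 2 := by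
    obtain ⟨⟨b, hb, hb1⟩⟩ := (Nat.card_pos_iff.mp
      (by rw [klein_card_involutions P hP]; norm_num : 0 < Nat.card {a : K // a ∈ P ∧ a ≠ 1})).1
    exact ⟨b, klein_orderOf P hP hb hb1⟩
  have hI : I.card = (Subgroup.centralizer ({t₀} : Set K)).index := by
    rw [← CfsgLib.Blocks.natCard_isConj t₀, Nat.card_eq_fintype_card, Fintype.card_subtype]
    congr 1
    ext s
    simp only [I, Finset.mem_filter, Finset.mem_univ, true_and]
    exact ⟨fun hs => hone t₀ s ht₀ hs, fun h => (orderOf_eq_of_isConj h).trans ht₀⟩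
  rw [Finset.sum_congr rfl (fun t ht => ?_), Finset.sum_const, smul_eq_mul, hI, mul_comm]
  · exact Subgroup.card_mul_index _
  · obtain ⟨c, rfl⟩ := isConj_iff.mp (hone t₀ t ht₀ (Finset.mem_filter.mp ht).2)
    refine Nat.card_congr ⟨fun x => ⟨c⁻¹ * x * c, ?_⟩, fun x => ⟨c * x * c⁻¹, ?_⟩,
      fun x => by ext; group, fun x => by ext; group⟩
    · rw [Subgroup.mem_centralizer_singleton_iff]
      calc c⁻¹ * x * c * t₀ = c⁻¹ * (x * (c * t₀ * c⁻¹)) * c := by group
        _ = t₀ * (c⁻¹ * x * c) := by rw [Subgroup.mem_centralizer_singleton_iff.mp x.2]; group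
    · rw [Subgroup.mem_centralizer_singleton_iff]
      calc c * x * c⁻¹ * (c * t₀ * c⁻¹) = c * (x * t₀) * c⁻¹ := by group
        _ = c * t₀ * c⁻¹ * (c * x * c⁻¹) := by
          rw [Subgroup.mem_centralizer_singleton_iff.mp x.2]; group

theorem klein_theta_gen :
    IsGeneralizedCharacter K (fun g : K => if 2 ∣ orderOf g then (4 : ℂ) else 0) := by
  classical
  refine CfsgLib.Brauer.isGeneralizedCharacter_of_restrictions (fun g h => ?_) fun E p hp hE => ?_
  · simp only [orderOf_conj_eq]
  letI : Fintype E := Fintype.ofFinite E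
  have hnil := isNilpotent_of_isElementary hp hE
  set Y := pPrimeCore 2 E with hY
  obtain ⟨k, hk⟩ := index_odd_core_of_nilpotent hnil
  have hk4 : Y.index ∣ 4 := by
    have h1 : Y.index ∣ Nat.card K := (Y.index_dvd_card).trans E.card_subgroup_dvd_card
    have h2 := (P : Subgroup K).card_mul_index
    rw [hP.card_four] at h2
    rw [← h2] at h1
    refine (Nat.Coprime.dvd_of_dvd_mul_right ?_ h1)
    rw [hk]
    exact Nat.Coprime.pow_left k ((Nat.prime_two.coprime_iff_not_dvd).mpr P.not_dvd_index)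
  obtain ⟨d, hd⟩ := hk4
  rw [CfsgLib.Characters.isGeneralizedCharacter_iff]
  refine ⟨fun g h => by
    have : orderOf ((h * g * h⁻¹ : E) : K) = orderOf (g : K) := by
      simp only [Subgroup.orderOf_coe, orderOf_conj_eq]
    simp only [this], fun χ => ?_⟩
  obtain ⟨a, ha⟩ := CfsgLib.Characters.classInner_generalized_int
    CfsgLib.Characters.isGeneralizedCharacter_one (CfsgLib.Characters.isGeneralizedCharacter_irr χ)
  letI : Fintype Y := Fintype.ofFinite Y
  have hres : IsCharacter Y (fun y : Y => (χ : E → ℂ) y) := by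
    obtain ⟨χf, n, ρ, hρ, rfl⟩ := χ
    exact ⟨n, ρ.comp Y.subtype, rfl⟩
  obtain ⟨b, hb⟩ := CfsgLib.Characters.classInner_generalized_int
    CfsgLib.Characters.isGeneralizedCharacter_one
    (CfsgLib.Characters.isGeneralizedCharacter_of_isCharacter hres)
  refine ⟨4 * a - d * b, ?_⟩
  rw [Int.cast_sub, Int.cast_mul, Int.cast_mul, ← ha, ← hb, classInner, classInner, classInner]
  have hsplit : ∀ g : E, (if 2 ∣ orderOf (g : K) then (4 : ℂ) else 0) =
      4 - (if g ∈ Y then 4 else 0) := by
    intro g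
    have hiff : g ∈ Y ↔ Odd (orderOf g) := odd_mem_core_iff hnil
    rw [Subgroup.orderOf_coe]
    by_cases h : 2 ∣ orderOf g
    · rw [if_pos h, if_neg (fun hg => Nat.not_even_iff_odd.mpr (hiff.mp hg) (even_iff_two_dvd.mpr h)),
        sub_zero]
    · rw [if_neg h, if_pos (hiff.mpr (Nat.not_even_iff_odd.mp fun he => h he.two_dvd)), sub_self]
  simp only [hsplit, sub_mul, Finset.sum_sub_distrib, Pi.one_apply, one_mul, ite_mul, zero_mul,
    ← Finset.mul_sum, ← Finset.sum_filter]
  rw [mul_sub]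
  congr 1
  · push_cast; ring
  · have hsum : ∑ g ∈ Finset.univ.filter (· ∈ Y), conj ((χ : E → ℂ) g) =
        ∑ y : Y, conj ((χ : E → ℂ) y) :=
      Finset.sum_subtype (Finset.univ.filter (· ∈ Y)) (fun x => by simp) _
    rw [hsum]
    have hcard : (Nat.card E : ℂ) = (Nat.card Y : ℂ) * (Y.index : ℂ) := by
      exact_mod_cast (Y.card_mul_index).symm
    have h4 : (4 : ℂ) = (Y.index : ℂ) * (d : ℂ) := by exact_mod_cast hd
    have hY0 : (Nat.card Y : ℂ) ≠ 0 := Nat.cast_ne_zero.mpr Nat.card_pos.ne'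
    have hi0 : (Y.index : ℂ) ≠ 0 := Nat.cast_ne_zero.mpr Subgroup.index_ne_zero_of_finite
    rw [hcard, h4, Int.cast_natCast]
    field_simp

/-- Existence of the family. -/
theorem exists_kleinFamily (hK : PrincipalConstant.{u}) {M : Ideal AlgInt} (hM : IsPModular 2 M)
    (hone : ∀ s t : K, orderOf s = 2 → orderOf t = 2 → IsConj s t) :
    Nonempty (KleinFamily M K) := by
  classical
  obtain ⟨t₀, ht₀⟩ : ∃ t : K, orderOf t = 2 := by
    obtain ⟨⟨b, hb, hb1⟩⟩ := (Nat.card_pos_iff.mp
      (by rw [klein_card_involutions P hP]; norm_num : 0 < Nat.card {a : K // a ∈ P ∧ a ≠ 1})).1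
    exact ⟨b, klein_orderOf P hP hb hb1⟩
  set θ : K → ℂ := fun g => if 2 ∣ orderOf g then (4 : ℂ) else 0 with hθ
  have hgen : IsGeneralizedCharacter K θ := klein_theta_gen P hP
  have hcount := klein_count P hP hone
  set B := principalBlock M K with hB
  have hBlk : IsPBlock M B := CfsgLib.Blocks.isPBlock_principalBlock M
  have hconst : ∀ χ : IrrCharacter K, χ ∈ B → ∀ g : K, 2 ∣ orderOf g → (χ : K → ℂ) g = (χ : K → ℂ) t₀ := by
    intro χ hχ g hg
    obtain ⟨t, y, rfl, ht, hy, hc⟩ := klein_even_decomp P hP hg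
    rw [hK K M hM t ht y (klein_odd_mem_core P hP ht hy hc) χ hχ]
    exact CfsgLib.Characters.classFunction_eq_of_isConj (CfsgLib.Characters.irr_isClassFunction χ)
      (hone t t₀ ht ht₀)
  have hcard0 : (Nat.card K : ℂ) ≠ 0 := Nat.cast_ne_zero.mpr Nat.card_pos.ne'
  have h4 : (4 : ℂ) * ((Finset.univ.filter fun g : K => 2 ∣ orderOf g).card : ℂ) = Nat.card K := by
    exact_mod_cast hcount
  have hinner : ∀ (f : K → ℂ) (c : ℂ), (∀ g, 2 ∣ orderOf g → f g = c) →
      classInner θ f = conj c := by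
    intro f c hf
    rw [classInner]
    have : ∑ g : K, θ g * conj (f g) =
        ∑ g ∈ Finset.univ.filter (fun g : K => 2 ∣ orderOf g), 4 * conj c := by
      rw [Finset.sum_filter]
      refine Finset.sum_congr rfl fun g _ => ?_
      by_cases h : 2 ∣ orderOf g
      · simp [hθ, h, hf g h]
      · simp [hθ, h]
    rw [this, Finset.sum_const, nsmul_eq_mul]
    field_simp
    linear_combination conj c * h4
  obtain ⟨hcf, hm⟩ := CfsgLib.Characters.isGeneralizedCharacter_iff.mp hgen
  choose m hm using hm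
  have hnorm : ∑ χ : IrrCharacter K, m χ ^ 2 = 4 := by
    have h := CfsgLib.Characters.classInner_self_eq_sum_sq hcf hm
    rw [hinner θ 4 (fun g hg => by simp [hθ, hg])] at h
    have h' : (((4 : ℤ)) : ℂ) = ((∑ χ : IrrCharacter K, m χ ^ 2 : ℤ) : ℂ) := by
      rw [← h]; simp [map_ofNat]
    exact (Int.cast_injective h').symm
  have hval : ∀ χ : IrrCharacter K, χ ∈ B → (χ : K → ℂ) t₀ = m χ := by
    intro χ hχ
    have h := hm χ
    rw [hinner _ _ (hconst χ hχ)] at h
    have := congrArg conj h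
    rwa [Complex.conj_conj, map_intCast] at this
  have hne : ∀ χ : IrrCharacter K, χ ∈ B → m χ ≠ 0 := by
    intro χ hχ h0
    have hz : centralChar (χ : K → ℂ) t₀ = 0 := by
      rw [centralChar, hval χ hχ, h0]; simp
    have hsame : SameBlock M (fun _ : K => (1 : ℂ)) (χ : K → ℂ) := hχ
    have := hsame t₀
    rw [hz, centralChar, sub_zero, mul_one, div_one,
      CfsgLib.Blocks.memLocalIdeal_natCast_iff hM] at this
    exact (Nat.not_even_iff_odd.mpr (klein_involution_index_odd P hP ht₀)) (even_iff_two_dvd.mpr this)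
  set S := Finset.univ.filter (fun χ : IrrCharacter K => χ ∈ B) with hS
  have htriv : CfsgLib.Characters.principalIrr K ∈ B := CfsgLib.Blocks.sameBlock_refl hM _
  have hm1 : m (CfsgLib.Characters.principalIrr K) = 1 := by
    have h := hval _ htriv
    simp only [CfsgLib.Characters.principalIrr_apply] at h
    exact_mod_cast h.symm
  -- the block part of `θ`
  set F : K → ℂ := fun g => ∑ χ ∈ S, (m χ : ℂ) * (χ : K → ℂ) g with hF
  have hFreg : ∀ g : K, ¬ 2 ∣ orderOf g → F g = 0 := by
    intro g hg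
    have h := CfsgLib.Blocks.weak_orth hM hBlk hg (y := t₀) (by rw [ht₀])
    rw [hF]
    refine Eq.trans (Finset.sum_congr rfl fun χ hχ => ?_) h
    rw [hval χ (Finset.mem_filter.mp hχ).2, map_intCast, mul_comm]
  have hFeven : ∀ g : K, 2 ∣ orderOf g → F g = ((∑ χ ∈ S, m χ ^ 2 : ℤ) : ℂ) := by
    intro g hg
    rw [hF]
    push_cast
    refine Finset.sum_congr rfl fun χ hχ => ?_
    rw [hconst χ (Finset.mem_filter.mp hχ).2 g hg, hval χ (Finset.mem_filter.mp hχ).2, sq]
  have hS4 : ∑ χ ∈ S, m χ ^ 2 = 4 := by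
    set s := ∑ χ ∈ S, m χ ^ 2 with hs
    have hFθ : F = ((s : ℂ) / 4) • θ := by
      funext g
      by_cases hg : 2 ∣ orderOf g
      · rw [hFeven g hg]; simp [hθ, hg]
      · rw [hFreg g hg]; simp [hθ, hg]
    have h1 : classInner F ((CfsgLib.Characters.principalIrr K : IrrCharacter K) : K → ℂ) = 1 := by
      rw [show F = ∑ χ ∈ S, (m χ : ℂ) • (χ : K → ℂ) by funext g; simp [hF],
        CfsgLib.Characters.classInner_sum_left, Finset.sum_eq_single (CfsgLib.Characters.principalIrr K)]
      · rw [CfsgLib.Characters.classInner_smul_left, CfsgLib.Characters.classInner_irr_self (Subtype.prop _),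
          hm1]
        simp
      · intro χ _ hχ
        rw [CfsgLib.Characters.classInner_smul_left,
          CfsgLib.Characters.classInner_irr_ne χ.2 (Subtype.prop _) (fun h => hχ (Subtype.ext h)), mul_zero]
      · intro h; exact absurd (Finset.mem_filter.mpr ⟨Finset.mem_univ _, htriv⟩) h
    rw [hFθ, CfsgLib.Characters.classInner_smul_left, hm, hm1, Int.cast_one, mul_one,
      div_eq_one_iff_eq (by norm_num)] at h1
    exact_mod_cast h1
  have hout : ∀ χ : IrrCharacter K, χ ∉ B → m χ = 0 := by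
    intro χ hχ
    have h2 := Finset.sum_filter_add_sum_filter_not Finset.univ (fun χ : IrrCharacter K => χ ∈ B)
      (fun χ => m χ ^ 2)
    rw [← hS, hS4, hnorm, add_eq_left, Finset.sum_eq_zero_iff_of_nonneg (fun i _ => sq_nonneg _)] at h2
    exact sq_eq_zero_iff.mp (h2 χ (Finset.mem_filter.mpr ⟨Finset.mem_univ _, hχ⟩))
  have hunit : ∀ χ : IrrCharacter K, χ ∈ B → m χ ^ 2 = 1 := by
    intro χ hχ
    have hmem : χ ∈ S := Finset.mem_filter.mpr ⟨Finset.mem_univ _, hχ⟩
    by_cases h1 : χ = CfsgLib.Characters.principalIrr K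
    · rw [h1, hm1, one_pow]
    have h2 : m χ ^ 2 + 1 ≤ 4 := by
      rw [← hS4, ← one_pow 2, ← hm1, ← Finset.sum_pair (f := fun χ => m χ ^ 2) h1]
      refine Finset.sum_le_sum_of_subset_of_nonneg ?_ fun i _ _ => sq_nonneg _
      intro x hx
      rcases Finset.mem_insert.mp hx with rfl | hx
      · exact hmem
      · rw [Finset.mem_singleton.mp hx]; exact Finset.mem_filter.mpr ⟨Finset.mem_univ _, htriv⟩
    have h3 : m χ ≠ 0 := hne χ hχ
    have hlo : -1 ≤ m χ := by nlinarith
    have hhi : m χ ≤ 1 := by nlinarith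
    interval_cases m χ <;> simp_all
  have hScard : S.card = 4 := by
    have h : ∑ χ ∈ S, m χ ^ 2 = S.card := by
      rw [Finset.sum_congr rfl (fun χ hχ => hunit χ (Finset.mem_filter.mp hχ).2), Finset.sum_const,
        nsmul_eq_mul, mul_one]
    rw [h] at hS4
    exact_mod_cast hS4
  let e0 : Fin 4 ≃ S := (S.equivFinOfCardEq hScard).symm
  let pS : S := ⟨CfsgLib.Characters.principalIrr K, Finset.mem_filter.mpr ⟨Finset.mem_univ _, htriv⟩⟩
  let e : Fin 4 ≃ S := (Equiv.swap 0 (e0.symm pS)).trans e0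
  have he0 : e 0 = pS := by simp [e]
  refine ⟨{ q := fun i g => (m (e i).1 : ℂ) * ((e i).1 : K → ℂ) g
            q_zero := fun g => ?_
            q_even := fun i g hg => ?_
            q_sum := fun g hg => ?_
            q_gen := fun i => ?_
            q_inner := fun i j => ?_
            q_out := fun i χ hχ => ?_
            block := fun χ hχ => ?_
            card_even := hcount }⟩
  · rw [he0]; simp [pS, hm1]
  · have hi : (e i).1 ∈ B := (Finset.mem_filter.mp (e i).2).2
    rw [hconst _ hi g hg, hval _ hi, ← sq]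
    exact_mod_cast hunit _ hi
  · rw [e.sum_comp (fun χ => (m χ.1 : ℂ) * (χ.1 : K → ℂ) g),
      Finset.sum_coe_sort S (fun χ => (m χ : ℂ) * (χ : K → ℂ) g)]
    exact hFreg g (fun h => Nat.not_even_iff_odd.mpr hg (even_iff_two_dvd.mpr h))
  · exact CfsgLib.Characters.isGeneralizedCharacter_intCast_smul
      (CfsgLib.Characters.isGeneralizedCharacter_irr (e i).1) _
  · rw [show (fun g => (m (e i).1 : ℂ) * ((e i).1 : K → ℂ) g) = (m (e i).1 : ℂ) • ((e i).1 : K → ℂ) from rfl,
      show (fun g => (m (e j).1 : ℂ) * ((e j).1 : K → ℂ) g) = (m (e j).1 : ℂ) • ((e j).1 : K → ℂ) from rfl,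
      CfsgLib.Characters.classInner_smul_left, CfsgLib.Characters.classInner_smul_right,
      CfsgLib.Characters.classInner_irr]
    by_cases hij : i = j
    · subst hij
      rw [if_pos rfl, if_pos rfl, map_intCast, mul_one, ← sq]
      exact_mod_cast hunit _ (Finset.mem_filter.mp (e i).2).2
    · rw [if_neg hij, if_neg (fun h => hij (e.injective (Subtype.ext h))), mul_zero, mul_zero]
  · have hne' : (((e i).1 : IrrCharacter K) : K → ℂ) ≠ (χ : K → ℂ) := fun h => hχ (by
      rw [← Subtype.ext h]; exact (Finset.mem_filter.mp (e i).2).2)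
    rw [show (fun g => (m (e i).1 : ℂ) * ((e i).1 : K → ℂ) g) = (m (e i).1 : ℂ) • ((e i).1 : K → ℂ) from rfl,
      CfsgLib.Characters.classInner_smul_left,
      CfsgLib.Characters.classInner_irr_ne (e i).1.2 χ.2 hne', mul_zero]
  · have hmem : χ ∈ S := Finset.mem_filter.mpr ⟨Finset.mem_univ _, hχ⟩
    obtain ⟨i, hi⟩ := e.surjective ⟨χ, hmem⟩
    refine ⟨i, (m χ : ℂ), ?_, ?_⟩
    · rcases sq_eq_one_iff.mp (hunit χ hχ) with h | h <;> simp [h]
    · funext g
      simp only [hi, Pi.smul_apply, smul_eq_mul]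
      rw [← mul_assoc, ← sq]
      have : ((m χ : ℂ)) ^ 2 = 1 := by exact_mod_cast hunit χ hχ
      rw [this, one_mul]

end

/-- A function on the elements of odd order orthogonal to all characters outside the principal
block and to the family vanishes. -/
theorem KleinFamily.eq_zero {M : Ideal AlgInt} (D : KleinFamily M K) {f : K → ℂ}
    (hf : IsClassFunction K f) (hev : ∀ g : K, 2 ∣ orderOf g → f g = 0)
    (hq : ∀ i, classInner f (D.q i) = 0)
    (hout : ∀ χ : IrrCharacter K, χ ∉ principalBlock M K → classInner f (χ : K → ℂ) = 0) :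
    f = 0 := by
  refine CfsgLib.Characters.eq_zero_of_forall_classInner_eq_zero hf fun χ => ?_
  by_cases hχ : χ ∈ principalBlock M K
  · obtain ⟨i, e, -, he⟩ := D.block χ hχ
    rw [he, CfsgLib.Characters.classInner_smul_right, hq i, mul_zero]
  · exact hout χ hχ

end CfsgLib.Involutions
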