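import Mathlib
import Cfsg.Agent.Lib.Involutions.KleinBlock
import Cfsg.Agent.Lib.CharCorr.Basic
import Cfsg.Agent.Lib.Characters.Counting
import Cfsg.Agent.Lib.Characters.Clifford
import Cfsg.Agent.Lib.Characters.Induction
import Cfsg.Agent.Lib.Transfer.NormalComplement
import Cfsg.Agent.Lib.TwoGroups.OneInvolution

/-!
Groups with a quaternion Sylow 2-subgroup of order 8 and a single involution: the characters
lifted from the quotient by the involution.
-/

set_option autoImplicit false

namespace CfsgLib.Involutions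

open Cfsg
open scoped ComplexConjugate

universe u

/-- A group with a noncyclic Sylow 2-subgroup of order 8 and only one involution, together with the
quotient by this involution. -/
structure QuatSetup (C K : Type u) [Group C] [Group K] where
  S : Sylow 2 C
  z : C
  π : C →* K
  card_S : Nat.card (S : Subgroup C) = 8
  not_cyclic : ¬ IsCyclic (S : Subgroup C)
  z_order : orderOf z = 2
  z_unique : ∀ t : C, orderOf t = 2 → t = z
  surj : Function.Surjective π
  ker_eq : π.ker = Subgroup.zpowers z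

theorem isGeneralizedCharacter_pullback {G H : Type*} [Group G] [Group H] {θ : G → ℂ}
    (h : IsGeneralizedCharacter G θ) (f : H →* G) :
    IsGeneralizedCharacter H (fun x => θ (f x)) := by
  obtain ⟨χ, ψ, hχ, hψ, rfl⟩ := h
  exact ⟨_, _, CfsgLib.Clifford.isCharacter_pullback hχ f,
    CfsgLib.Clifford.isCharacter_pullback hψ f, rfl⟩

namespace QuatSetup

variable {C K : Type u} [Group C] [Group K] (X : QuatSetup C K)

theorem z_mul_self : X.z * X.z = 1 := mul_self_eq_one X.z_order

theorem z_central (g : C) : X.z * g = g * X.z :=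
  (mul_inv_eq_iff_eq_mul.mp (X.z_unique (g * X.z * g⁻¹)
    ((orderOf_conj_eq g X.z).trans X.z_order))).symm

theorem map_z : X.π X.z = 1 :=
  MonoidHom.mem_ker.mp (X.ker_eq ▸ Subgroup.mem_zpowers X.z)

theorem map_z_mul (g : C) : X.π (X.z * g) = X.π g := by rw [map_mul, X.map_z, one_mul]

theorem map_eq_one {g : C} (h : X.π g = 1) : g = 1 ∨ g = X.z := by
  have h' : g ∈ Subgroup.zpowers X.z := X.ker_eq ▸ MonoidHom.mem_ker.mpr h
  obtain ⟨k, rfl⟩ := h'
  rcases Int.even_or_odd k with ⟨j, rfl⟩ | ⟨j, rfl⟩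
  · left
    simp only [← two_mul, zpow_mul, zpow_two, X.z_mul_self, one_zpow]
  · right
    simp only [zpow_add, zpow_mul, zpow_two, X.z_mul_self, one_zpow, one_mul, zpow_one]

theorem map_eq {g h : C} (e : X.π g = X.π h) : h = g ∨ h = X.z * g := by
  rcases X.map_eq_one (g := h * g⁻¹) (by rw [map_mul, map_inv, e, mul_inv_cancel]) with h1 | h1
  · exact Or.inl (mul_inv_eq_one.mp h1)
  · exact Or.inr (mul_inv_eq_iff_eq_mul.mp h1)

variable [Finite C]

theorem z_mem : X.z ∈ X.S := by
  obtain ⟨a, ha⟩ := exists_conj_le_sylow (isPGroup_two_zpowers X.z_order) X.S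
  have h := ha _ (Subgroup.mem_zpowers X.z)
  rwa [← X.z_central a, mul_inv_cancel_right] at h

include X in
theorem no_eight (g : C) : orderOf g ≠ 8 := by
  intro hg
  obtain ⟨a, ha⟩ := exists_conj_le_sylow (T := Subgroup.zpowers g)
    (IsPGroup.of_card (n := 3) (by rw [Nat.card_zpowers, hg]; norm_num)) X.S
  refine X.not_cyclic (isCyclic_of_orderOf_eq_card ⟨_, ha g (Subgroup.mem_zpowers g)⟩ ?_)
  rw [Subgroup.orderOf_mk, orderOf_conj_eq, hg, X.card_S]

theorem sq_mem {g : C} (hg : ∃ j : ℕ, orderOf g = 2 ^ j) : X.π (g * g) = 1 := by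
  obtain ⟨j, hj⟩ := hg
  by_cases h3 : 3 ≤ j
  · exfalso
    refine X.no_eight (g ^ 2 ^ (j - 3)) ?_
    rw [orderOf_pow' _ (by positivity), hj, Nat.gcd_eq_right (pow_dvd_pow 2 (Nat.sub_le j 3)),
      Nat.pow_div (Nat.sub_le j 3) two_pos, show j - (j - 3) = 3 by omega]
    norm_num
  have h4 : (g * g) * (g * g) = 1 := by
    have : g ^ 4 = 1 := orderOf_dvd_iff_pow_eq_one.mp
      (hj ▸ (pow_dvd_pow 2 (show j ≤ 2 by omega)).trans (by norm_num))
    simpa [pow_succ, mul_assoc] using this
  by_cases h1 : g * g = 1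
  · rw [h1, map_one]
  · rw [X.z_unique _ (orderOf_eq_two_iff_mul.mpr ⟨h1, h4⟩), X.map_z]

theorem map_comm {T : Subgroup C} (hT : IsPGroup 2 T) {a b : C} (ha : a ∈ T) (hb : b ∈ T) :
    Commute (X.π a) (X.π b) := by
  have h : ∀ g ∈ T, X.π g * X.π g = 1 := by
    intro g hg
    rw [← map_mul]
    refine X.sq_mem ?_
    obtain ⟨j, hj⟩ := hT ⟨g, hg⟩
    obtain ⟨i, -, hi⟩ := (Nat.dvd_prime_pow Nat.prime_two).mp
      (orderOf_dvd_of_pow_eq_one (G := C) (x := g) (n := 2 ^ j) (by simpa using congrArg Subtype.val hj))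
    exact ⟨i, hi⟩
  have hab := h _ (T.mul_mem ha hb)
  rw [map_mul] at hab
  calc X.π a * X.π b = (X.π a * X.π b)⁻¹ := (inv_eq_of_mul_eq_one_right hab).symm
    _ = X.π b * X.π a := by
      rw [mul_inv_rev, inv_eq_of_mul_eq_one_right (h a ha), inv_eq_of_mul_eq_one_right (h b hb)]

/-- In a subgroup of order 8 the involution is a commutator. -/
theorem exists_commutator {T : Subgroup C} (hT : Nat.card T = 8) :
    ∃ a ∈ T, ∃ b ∈ T, a * b * a⁻¹ * b⁻¹ = X.z := by
  have hT2 : IsPGroup 2 T := IsPGroup.of_card (n := 3) (by rw [hT]; norm_num)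
  by_contra hne
  push Not at hne
  obtain ⟨c, hc⟩ := exists_conj_le_sylow hT2 X.S
  have hTcomm : ∀ a ∈ T, ∀ b ∈ T, a * b = b * a := by
    intro a ha b hb
    have h : X.π (a * b * a⁻¹ * b⁻¹) = 1 := by
      rw [map_mul, map_mul, map_mul, map_inv, map_inv, (X.map_comm hT2 ha hb).eq]
      group
    rcases X.map_eq_one h with h | h
    · exact mul_inv_eq_iff_eq_mul.mp (mul_inv_eq_one.mp h)
    · exact absurd h (hne a ha b hb)
  have hcyc : IsCyclic T := by
    obtain ⟨x, -, hx⟩ := CfsgLib.TwoGroups.OneInvolution.exists_generator hT2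
      (fun a b ha hb => Subtype.ext ((X.z_unique _ (by rw [Subgroup.orderOf_coe]; exact ha)).trans
        (X.z_unique _ (by rw [Subgroup.orderOf_coe]; exact hb)).symm)) ⊤
      ⟨⟨fun a b => Subtype.ext (Subtype.ext (hTcomm _ a.1.2 _ b.1.2))⟩⟩
    exact ⟨⟨x, fun y => (by rw [← hx]; exact Subgroup.mem_top y : y ∈ Subgroup.zpowers x)⟩⟩
  obtain ⟨x, hx⟩ := hcyc.exists_ofOrder_eq_natCard
  exact X.no_eight x (by rw [Subgroup.orderOf_coe, hx, hT])

theorem two_dvd_map {g : C} : 2 ∣ orderOf (X.π g) ↔ 4 ∣ orderOf g := by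
  constructor
  · intro h
    by_contra h4
    obtain ⟨j, hj⟩ : ∃ j, orderOf g = 2 * (2 * j + 1) :=
      ⟨orderOf g / 4, by have := h.trans (orderOf_map_dvd X.π g); omega⟩
    have hz : orderOf (g ^ (2 * j + 1)) = 2 := by
      rw [orderOf_pow' _ (by omega), hj, Nat.gcd_eq_right (dvd_mul_left _ _),
        Nat.mul_div_cancel _ (by omega)]
    have h1 : X.π g ^ (2 * j + 1) = 1 := by rw [← map_pow, X.z_unique _ hz, X.map_z]
    have := h.trans (orderOf_dvd_of_pow_eq_one h1)
    omega
  · rintro ⟨c, hc⟩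
    have hc0 : c ≠ 0 := by rintro rfl; exact (orderOf_pos g).ne' (by simpa using hc)
    have hgc : orderOf (g ^ c) = 4 := by
      rw [orderOf_pow' _ hc0, hc, Nat.gcd_eq_right (dvd_mul_left _ _),
        Nat.mul_div_cancel _ (Nat.pos_of_ne_zero hc0)]
    have h2 : orderOf (X.π (g ^ c)) ∣ 2 := orderOf_dvd_of_pow_eq_one (by
      rw [pow_two, ← map_mul]
      exact X.sq_mem ⟨2, by rw [hgc]; norm_num⟩)
    rcases (Nat.dvd_prime Nat.prime_two).mp h2 with h1 | h1
    · rcases X.map_eq_one (orderOf_eq_one_iff.mp h1) with h | h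
      · rw [h, orderOf_one] at hgc; omega
      · rw [h, X.z_order] at hgc; omega
    · rw [map_pow] at h1
      exact h1 ▸ orderOf_pow_dvd c

theorem z_mul_of_odd {g : C} (hg : Odd (orderOf g)) :
    2 ∣ orderOf (X.z * g) ∧ ¬ 4 ∣ orderOf (X.z * g) := by
  rw [(show Commute X.z g from X.z_central g).orderOf_mul_eq_mul_orderOf_of_coprime
    (by rw [X.z_order]; exact Nat.coprime_two_left.mpr hg), X.z_order]
  obtain ⟨j, hj⟩ := hg
  omega

theorem odd_z_mul_of_two {g : C} (h2 : 2 ∣ orderOf g) (h4 : ¬ 4 ∣ orderOf g) :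
    Odd (orderOf (X.z * g)) := by
  obtain ⟨j, hj⟩ : ∃ j, orderOf g = 2 * (2 * j + 1) := ⟨orderOf g / 4, by omega⟩
  have hz : orderOf (g ^ (2 * j + 1)) = 2 := by
    rw [orderOf_pow' _ (by omega), hj, Nat.gcd_eq_right (dvd_mul_left _ _),
      Nat.mul_div_cancel _ (by omega)]
  refine (show Odd (2 * j + 1) from ⟨j, rfl⟩).of_dvd_nat (orderOf_dvd_of_pow_eq_one ?_)
  rw [(show Commute X.z g from X.z_central g).mul_pow, X.z_unique _ hz, pow_succ, pow_mul, pow_two,
    X.z_mul_self, one_pow, one_mul, X.z_mul_self]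

theorem odd_iff {g : C} :
    Odd (orderOf g) ↔ 2 ∣ orderOf (X.z * g) ∧ ¬ 4 ∣ orderOf (X.z * g) := by
  refine ⟨X.z_mul_of_odd, fun h => ?_⟩
  have := X.odd_z_mul_of_two h.1 h.2
  rwa [← mul_assoc, X.z_mul_self, one_mul] at this

include X in
theorem card_eq : Nat.card C = 2 * Nat.card K := by
  rw [← X.π.ker.card_mul_index, Subgroup.index_ker, MonoidHom.range_eq_top.mpr X.surj,
    Subgroup.card_top, X.ker_eq, Nat.card_zpowers, X.z_order]

/-- Sums over the group computed on the fibres of the quotient map. -/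
theorem sum_eq [Fintype C] [Fintype K] (f : C → ℂ) (h : K → ℂ)
    (hf : ∀ g, f g + f (X.z * g) = h (X.π g)) : ∑ g, f g = ∑ k, h k := by
  classical
  rw [← Finset.sum_fiberwise_of_maps_to (t := Finset.univ) (g := X.π) (fun g _ => Finset.mem_univ _)]
  refine Finset.sum_congr rfl fun k _ => ?_
  obtain ⟨g, rfl⟩ := X.surj k
  have hne : g ≠ X.z * g := fun h => ne_one_of_involution X.z_order (right_eq_mul.mp h)
  rw [show Finset.univ.filter (fun x => X.π x = X.π g) = {g, X.z * g} by
    ext x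
    simp only [Finset.mem_filter, Finset.mem_univ, true_and, Finset.mem_insert,
      Finset.mem_singleton]
    exact ⟨fun h => X.map_eq h.symm, by rintro (rfl | rfl) <;> simp [X.map_z_mul]⟩,
    Finset.sum_pair hne, hf]

theorem isKleinFour_map [Finite K] :
    IsKleinFour ((X.S.mapSurjective X.surj : Sylow 2 K) : Subgroup K) := by
  have hrange : (X.π.comp (X.S : Subgroup C).subtype).range =
      ((X.S.mapSurjective X.surj : Sylow 2 K) : Subgroup K) := by
    rw [MonoidHom.range_eq_map, ← Subgroup.map_map, ← MonoidHom.range_eq_map, Subgroup.range_subtype]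
    rfl
  have hker : (X.π.comp (X.S : Subgroup C).subtype).ker = (Subgroup.zpowers X.z).subgroupOf X.S := by
    rw [← X.ker_eq]; rfl
  have hcard : Nat.card ((X.S.mapSurjective X.surj : Sylow 2 K) : Subgroup K) = 4 := by
    have h := (X.π.comp (X.S : Subgroup C).subtype).ker.card_mul_index
    rw [Subgroup.index_ker, hrange, hker,
      Nat.card_congr (Subgroup.subgroupOfEquivOfLe (Subgroup.zpowers_le.mpr X.z_mem)).toEquiv,
      Nat.card_zpowers, X.z_order, X.card_S] at h
    omega
  refine ⟨hcard, ?_⟩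
  have : Nontrivial ((X.S.mapSurjective X.surj : Sylow 2 K) : Subgroup K) :=
    Finite.one_lt_card_iff_nontrivial.mp (by rw [hcard]; norm_num)
  refine (Monoid.exponent_eq_prime_iff Nat.prime_two).mpr fun k hk => orderOf_eq_prime ?_ hk
  obtain ⟨k, g, hg, rfl⟩ := k
  refine Subtype.ext ?_
  rw [Subgroup.coe_pow, Subgroup.coe_one, pow_two]
  change X.π g * X.π g = 1
  rw [← map_mul]
  obtain ⟨j, hj⟩ := X.S.2 ⟨g, hg⟩
  obtain ⟨i, -, hi⟩ := (Nat.dvd_prime_pow Nat.prime_two).mp
    (orderOf_dvd_of_pow_eq_one (G := C) (x := g) (n := 2 ^ j) (by simpa using congrArg Subtype.val hj))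
  exact X.sq_mem ⟨i, hi⟩

include X in
/-- Either the quotient has a normal 2-complement or it carries a Klein four family. -/
theorem dichotomy [Fintype K] (hK : PrincipalConstant.{u}) {M : Ideal AlgInt} (hM : IsPModular 2 M) :
    HasNormalPComplement 2 K ∨ Nonempty (KleinFamily M K) := by
  rcases klein_dichotomy _ X.isKleinFour_map with h1 | ⟨h3, -⟩
  · obtain ⟨hsub, -⟩ := Nat.card_eq_one_iff_unique.mp h1
    refine Or.inr (exists_kleinFamily _ X.isKleinFour_map hK hM fun s t hs ht => ?_)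
    exact ConjClasses.mk_eq_mk_iff_isConj.mp (congrArg Subtype.val
      (hsub.elim ⟨ConjClasses.mk s, s, hs, rfl⟩ ⟨ConjClasses.mk t, t, ht, rfl⟩))
  · obtain ⟨N, hN, hc⟩ := (klein_three_iff _ X.isKleinFour_map).mp h3
    exact Or.inl ⟨_, N, hN, hc⟩

include X in
/-- A normal 2-complement of the quotient gives Frobenius' condition. -/
theorem frobeniusCond [Finite K] (h : HasNormalPComplement 2 K) :
    CfsgLib.Transfer.FrobeniusCond 2 C := by
  intro Q hQ g hg hc
  rw [Subgroup.mem_centralizer_iff]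
  intro q hq
  have hg' : X.π g ∈ Subgroup.normalizer (Q.map X.π : Set K) :=
    Subgroup.le_normalizer_map X.π ⟨g, hg, rfl⟩
  have hcent := CfsgLib.Transfer.frobeniusCond_of_hasNormalPComplement h (Q.map X.π) (hQ.map X.π)
    (X.π g) hg' (hc.coprime_dvd_left (orderOf_map_dvd X.π g))
  have hq' := Subgroup.mem_centralizer_iff.mp hcent (X.π q) (Subgroup.mem_map_of_mem _ hq)
  have h2 : g * g * q = q * (g * g) := by
    rcases X.map_eq (g := g * q) (h := q * g) (by rw [map_mul, map_mul, hq']) with h | h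
    · calc g * g * q = g * (g * q) := by group
        _ = g * (q * g) := by rw [← h]
        _ = g * q * g := by group
        _ = q * g * g := by rw [← h]
        _ = q * (g * g) := by group
    · have h' : g * q = X.z * (q * g) := by rw [h, ← mul_assoc, X.z_mul_self, one_mul]
      calc g * g * q = g * (g * q) := by group
        _ = g * (X.z * (q * g)) := by rw [h']
        _ = X.z * (g * q) * g := by rw [← mul_assoc g, ← X.z_central]; group
        _ = X.z * X.z * (q * (g * g)) := by rw [h']; group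
        _ = q * (g * g) := by rw [X.z_mul_self, one_mul]
  obtain ⟨j, hj⟩ := Nat.coprime_two_right.mp hc
  have hg2 : (g * g) ^ (j + 1) = g := by
    rw [← pow_two, ← pow_mul, show 2 * (j + 1) = orderOf g + 1 by omega, pow_succ,
      pow_orderOf_eq_one, one_mul]
  rw [← hg2]
  exact ((show Commute (g * g) q from h2).pow_left _).eq.symm

/-- The lift of a member of the Klein family vanishing on the elements of odd order. -/
noncomputable def M (q : K → ℂ) : C → ℂ := fun g =>
  if 4 ∣ orderOf g then 2 else if 2 ∣ orderOf g then 2 * (1 + q (X.π g)) else 0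

/-- Four on the elements of order divisible by four. -/
noncomputable def θ (_ : QuatSetup C K) : C → ℂ := fun g => if 4 ∣ orderOf g then 4 else 0

omit [Finite C] in
theorem M_odd (q : K → ℂ) {g : C} (hg : ¬ 2 ∣ orderOf g) : X.M q g = 0 := by
  rw [M, if_neg (fun h => hg ((by norm_num : 2 ∣ 4).trans h)), if_neg hg]

omit [Finite C] in
theorem θ_odd {g : C} (hg : ¬ 2 ∣ orderOf g) : X.θ g = 0 := by
  rw [θ, if_neg (fun h => hg ((by norm_num : 2 ∣ 4).trans h))]

theorem M_z (q : K → ℂ) : X.M q X.z = 2 * (1 + q 1) := by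
  rw [M, X.z_order, if_neg (by norm_num), if_pos dvd_rfl, X.map_z]

theorem M_pair (q : K → ℂ) (hev : ∀ k, 2 ∣ orderOf k → q k = 1) (g : C) :
    X.M q g + X.M q (X.z * g) = 2 * (1 + q (X.π g)) := by
  by_cases h4 : 4 ∣ orderOf g
  · have h4' : 4 ∣ orderOf (X.z * g) := by
      rw [← X.two_dvd_map, X.map_z_mul, X.two_dvd_map]; exact h4
    rw [M, M, if_pos h4, if_pos h4', hev _ (X.two_dvd_map.mpr h4)]
    norm_num
  · have h4' : ¬ 4 ∣ orderOf (X.z * g) := by
      rw [← X.two_dvd_map, X.map_z_mul, X.two_dvd_map]; exact h4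
    by_cases h2 : 2 ∣ orderOf g
    · have h := X.odd_z_mul_of_two h2 h4
      rw [M, M, if_neg h4, if_pos h2, if_neg h4',
        if_neg (fun h' => Nat.not_even_iff_odd.mpr h (even_iff_two_dvd.mpr h')), add_zero]
    · have h := X.z_mul_of_odd (g := g) (by rwa [← Nat.not_even_iff_odd, even_iff_two_dvd])
      rw [M, M, if_neg h4, if_neg h2, if_neg h4', if_pos h.1, X.map_z_mul, zero_add]

section Inner

variable [Fintype C] [Fintype K] {M' : Ideal AlgInt} (D : KleinFamily M' K)

include D in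
theorem card_even_cast :
    4 * ((Finset.univ.filter fun k : K => 2 ∣ orderOf k).card : ℂ) = Nat.card K := by
  exact_mod_cast D.card_even

theorem sum_q (i : Fin 4) : ∑ k, D.q i k = if i = 0 then (Nat.card K : ℂ) else 0 := by
  have h := D.q_inner i 0
  rw [classInner] at h
  simp only [D.q_zero, map_one, mul_one] at h
  rw [inv_mul_eq_iff_eq_mul₀ (Nat.cast_ne_zero.mpr Nat.card_pos.ne')] at h
  rw [h]; split_ifs <;> simp

theorem sum_q_mul (i j : Fin 4) :
    ∑ k, D.q i k * conj (D.q j k) = if i = j then (Nat.card K : ℂ) else 0 := by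
  have h := D.q_inner i j
  rw [classInner, inv_mul_eq_iff_eq_mul₀ (Nat.cast_ne_zero.mpr Nat.card_pos.ne')] at h
  rw [h]; split_ifs <;> simp

theorem inner_M_M {i j : Fin 4} (hi : i ≠ 0) (hj : j ≠ 0) :
    classInner (X.M (D.q i)) (X.M (D.q j)) = (if i = j then 2 else 0) + 1 := by
  classical
  rw [classInner, X.sum_eq _ (fun k => 4 * ((1 + D.q i k) * (1 + conj (D.q j k))) -
    if 2 ∣ orderOf k then 8 else 0) ?_]
  · rw [Finset.sum_sub_distrib, ← Finset.mul_sum, ← Finset.sum_filter, Finset.sum_const,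
      nsmul_eq_mul]
    simp only [add_mul, mul_add, one_mul, mul_one, Finset.sum_add_distrib, ← map_sum, sum_q_mul D,
      sum_q D, if_neg hi, if_neg hj, map_zero, Finset.sum_const, Finset.card_univ, nsmul_eq_mul,
      mul_one, ← Nat.card_eq_fintype_card]
    rw [X.card_eq, Nat.cast_mul]
    have hK0 : (Nat.card K : ℂ) ≠ 0 := Nat.cast_ne_zero.mpr Nat.card_pos.ne'
    have h8 : ((Finset.univ.filter fun k : K => 2 ∣ orderOf k).card : ℂ) * 8 = 2 * Nat.card K := by
      linear_combination 2 * card_even_cast D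
    rw [h8]
    split_ifs <;> field_simp <;> ring
  intro g
  by_cases h4 : 4 ∣ orderOf g
  · have h2 := X.two_dvd_map.mpr h4
    have h4' : 4 ∣ orderOf (X.z * g) := by rw [← X.two_dvd_map, X.map_z_mul]; exact h2
    rw [if_pos h2, M, M, M, M, if_pos h4, if_pos h4', if_pos h4, if_pos h4', D.q_even _ _ h2,
      D.q_even _ _ h2, map_ofNat, map_one]
    norm_num
  · have h2 : ¬ 2 ∣ orderOf (X.π g) := fun h => h4 (X.two_dvd_map.mp h)
    have h4' : ¬ 4 ∣ orderOf (X.z * g) := by rw [← X.two_dvd_map, X.map_z_mul]; exact h2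
    rw [if_neg h2, sub_zero]
    by_cases hg : 2 ∣ orderOf g
    · rw [X.M_odd _ (g := X.z * g) fun h' => Nat.not_even_iff_odd.mpr (X.odd_z_mul_of_two hg h4)
        (even_iff_two_dvd.mpr h'), zero_mul, add_zero, M, M, if_neg h4, if_pos hg, if_neg h4,
        if_pos hg, map_mul, map_add, map_one, map_ofNat]
      ring
    · have hz := X.z_mul_of_odd (g := g) (by rwa [← Nat.not_even_iff_odd, even_iff_two_dvd])
      rw [X.M_odd _ hg, zero_mul, zero_add, M, M, if_neg h4', if_pos hz.1, if_neg h4',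
        if_pos hz.1, X.map_z_mul, map_mul, map_add, map_one, map_ofNat]
      ring

theorem inner_M_one {j : Fin 4} (hj : j ≠ 0) : classInner (X.M (D.q j)) 1 = 1 := by
  simp only [classInner, Pi.one_apply, map_one, mul_one]
  rw [X.sum_eq _ (fun k => 2 * (1 + D.q j k)) (X.M_pair _ (D.q_even j)), ← Finset.mul_sum,
    Finset.sum_add_distrib, sum_q D, if_neg hj, Finset.sum_const, Finset.card_univ, nsmul_eq_mul,
    ← Nat.card_eq_fintype_card, X.card_eq, Nat.cast_mul]
  have hK0 : (Nat.card K : ℂ) ≠ 0 := Nat.cast_ne_zero.mpr Nat.card_pos.ne'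
  field_simp
  ring

theorem inner_θ (f : C → ℂ) (c : ℂ) (hf : ∀ g, 4 ∣ orderOf g → f g = c) :
    classInner f X.θ = 4 * c * ((2 * (Finset.univ.filter fun k : K => 2 ∣ orderOf k).card : ℕ) : ℂ) /
      Nat.card C := by
  classical
  rw [classInner, X.sum_eq _ (fun k => if 2 ∣ orderOf k then 8 * c else 0) ?_, ← Finset.sum_filter,
    Finset.sum_const, nsmul_eq_mul]
  · push_cast; ring
  intro g
  by_cases h4 : 4 ∣ orderOf g
  · have h2 := X.two_dvd_map.mpr h4
    have h4' : 4 ∣ orderOf (X.z * g) := by rw [← X.two_dvd_map, X.map_z_mul]; exact h2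
    rw [if_pos h2, θ, θ, if_pos h4, if_pos h4', hf g h4, hf _ h4', map_ofNat]
    ring
  · have h2 : ¬ 2 ∣ orderOf (X.π g) := fun h => h4 (X.two_dvd_map.mp h)
    have h4' : ¬ 4 ∣ orderOf (X.z * g) := by rw [← X.two_dvd_map, X.map_z_mul]; exact h2
    rw [if_neg h2, θ, θ, if_neg h4, if_neg h4', map_zero, mul_zero, mul_zero, add_zero]

include D in
theorem inner_θ_eq (f : C → ℂ) (c : ℂ) (hf : ∀ g, 4 ∣ orderOf g → f g = c) :
    classInner f X.θ = c := by
  rw [X.inner_θ f c hf, X.card_eq]
  have hK0 : (Nat.card K : ℂ) ≠ 0 := Nat.cast_ne_zero.mpr Nat.card_pos.ne'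
  push_cast
  field_simp
  linear_combination c * card_even_cast D

theorem inner_M_θ (j : Fin 4) : classInner (X.M (D.q j)) X.θ = 2 :=
  X.inner_θ_eq D _ _ fun g hg => by rw [M, if_pos hg]

include D in
theorem inner_θ_θ : classInner X.θ X.θ = 4 :=
  X.inner_θ_eq D _ _ fun g hg => by rw [θ, if_pos hg]

include D in
theorem inner_one_θ : classInner (1 : C → ℂ) X.θ = 1 := X.inner_θ_eq D _ _ fun _ _ => rfl

theorem θ_eq (D : KleinFamily M' K) : X.θ = fun g => ∑ i, D.q i (X.π g) := by
  funext g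
  rw [θ]
  by_cases h4 : 4 ∣ orderOf g
  · rw [if_pos h4]
    simp [D.q_even _ _ (X.two_dvd_map.mpr h4)]
  · rw [if_neg h4, D.q_sum]
    rw [← Nat.not_even_iff_odd, even_iff_two_dvd, X.two_dvd_map]
    exact h4

include D in
theorem isGeneralizedCharacter_θ : IsGeneralizedCharacter C X.θ := by
  rw [X.θ_eq D]
  have h := CfsgLib.Characters.isGeneralizedCharacter_sum (G := C) Finset.univ
    (f := fun i g => D.q i (X.π g)) fun i _ => isGeneralizedCharacter_pullback (D.q_gen i) X.π
  convert h using 1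
  funext g
  simp

end Inner

end QuatSetup

/-- The generalized character `2, -2, 0` of a group of order four or eight. -/
theorem isGeneralizedCharacter_tau {D : Type*} [Group D] [Fintype D] [DecidableEq D] {z : D}
    (hz : z ∈ Subgroup.center D) (hz2 : z * z = 1) (hz1 : z ≠ 1)
    (hcard : Nat.card D = 4 ∨ Nat.card D = 8)
    (hcomm : Nat.card D = 8 → ∃ a b : D, a * b * a⁻¹ * b⁻¹ = z) :
    IsGeneralizedCharacter D (fun d => if d = 1 then (2 : ℂ) else if d = z then -2 else 0) := by
  rw [CfsgLib.Characters.isGeneralizedCharacter_iff]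
  refine ⟨fun g h => ?_, fun χ => ?_⟩
  · have h1 : h * g * h⁻¹ = 1 ↔ g = 1 := conj_eq_one_iff
    have h2 : h * g * h⁻¹ = z ↔ g = z := by
      rw [mul_inv_eq_iff_eq_mul, ← Subgroup.mem_center_iff.mp hz h, mul_left_cancel_iff]
    simp only [h1, h2]
  · obtain ⟨e, he, hχ⟩ := irr_central_involution_sign χ hz hz2
    have hval : (χ : D → ℂ) z = e * (χ : D → ℂ) 1 := by simpa using hχ 1
    have hn := CfsgLib.CharCorr.irr_one_eq_charDegree χ
    have hdvd := CfsgLib.CharCorr.charDegree_irr_dvd_card χ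
    set n := charDegree (χ : D → ℂ)
    have hsum : ∑ g : D, (if g = 1 then (2 : ℂ) else if g = z then -2 else 0) * conj ((χ : D → ℂ) g) =
        2 * (1 - (e : ℂ)) * n := by
      rw [Finset.sum_eq_add (1 : D) z hz1.symm (fun g _ hg => by simp [hg.1, hg.2])
        (fun h => absurd (Finset.mem_univ _) h) (fun h => absurd (Finset.mem_univ _) h),
        if_pos rfl, if_neg hz1, if_pos rfl, hval, hn, map_mul, map_intCast, Complex.conj_natCast]
      ring
    rw [classInner, hsum]
    rcases he with rfl | rfl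
    · exact ⟨0, by simp⟩
    rcases hcard with h | h
    · exact ⟨n, by rw [h]; push_cast; ring⟩
    · have h1 : n ≠ 1 := fun h1 => by
        obtain ⟨a, b, hab⟩ := hcomm h
        obtain ⟨f, hf⟩ := CfsgLib.Characters.exists_linearIrr_eq χ (by rw [hn, h1, Nat.cast_one])
        rw [← hf] at hval
        have hfz : f z = 1 := by
          rw [← hab, map_mul, map_mul, map_mul, map_inv, map_inv, mul_comm (f a) (f b),
            mul_inv_cancel_right, mul_inv_cancel]
        simp [CfsgLib.Characters.linearIrr, hfz] at hval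
        exact absurd hval (by norm_num)
      rw [h] at hdvd
      obtain ⟨i, hi, hni⟩ := (Nat.dvd_prime_pow Nat.prime_two).mp
        (show n ∣ 2 ^ 3 by norm_num; exact hdvd)
      rcases i with _ | i
      · exact absurd hni h1
      · exact ⟨(2 ^ i : ℕ), by rw [h, hni, pow_succ]; push_cast; ring⟩

namespace QuatSetup

variable {C K : Type u} [Group C] [Group K] (X : QuatSetup C K) [Fintype C] [Fintype K]

/-- The correction term `1 + q` on odd elements, `-(1 + q)` on the other elements of order not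
divisible by four, is a generalized character. -/
theorem isGeneralizedCharacter_F {q : K → ℂ} (hq : IsGeneralizedCharacter K q)
    (hev : ∀ k, 2 ∣ orderOf k → q k = 1) :
    IsGeneralizedCharacter C (fun g => if 4 ∣ orderOf g then 0 else
      if 2 ∣ orderOf g then -(1 + q (X.π g)) else 1 + q (X.π g)) := by
  classical
  have hqc := CfsgLib.Characters.isClassFunction_of_isGeneralizedCharacter hq
  refine CfsgLib.Brauer.isGeneralizedCharacter_of_restrictions (fun g h => ?_) fun E p hp hE => ?_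
  · simp only [orderOf_conj_eq, map_mul, map_inv, hqc (X.π g) (X.π h)]
  have hnil := isNilpotent_of_isElementary hp hE
  set Y := pPrimeCore 2 E with hY
  have hiff : ∀ g : E, g ∈ Y ↔ Odd (orderOf (g : C)) := fun g => by
    rw [Subgroup.orderOf_coe]; exact odd_mem_core_iff hnil
  have hnotY : ∀ g : E, g ∉ Y → 2 ∣ orderOf (g : C) := fun g hg => by
    rw [hiff] at hg; exact even_iff_two_dvd.mp (Nat.not_odd_iff_even.mp hg)
  have hinY : ∀ g : E, g ∈ Y → ¬ 2 ∣ orderOf (g : C) ∧ ¬ 4 ∣ orderOf (g : C) := fun g hg => by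
    obtain ⟨j, hj⟩ := (hiff g).mp hg
    omega
  have hqE : IsGeneralizedCharacter E (fun e : E => q (X.π e)) :=
    isGeneralizedCharacter_pullback hq (X.π.comp E.subtype)
  by_cases hA : ∃ e : E, 4 ∣ orderOf (e : C)
  swap
  · push Not at hA
    have hmul : ∀ e e' : E, e ∉ Y → e' ∉ Y → e * e' ∈ Y := by
      intro e e' he he'
      have hzE : X.z ∈ E := by
        obtain ⟨j, hj⟩ : ∃ j, orderOf (e : C) = 2 * (2 * j + 1) :=
          ⟨orderOf (e : C) / 4, by have := hA e; have := hnotY e he; omega⟩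
        have : orderOf ((e : C) ^ (2 * j + 1)) = 2 := by
          rw [orderOf_pow' _ (by omega), hj, Nat.gcd_eq_right (dvd_mul_left _ _),
            Nat.mul_div_cancel _ (by omega)]
        rw [← X.z_unique _ this]
        exact pow_mem e.2 _
      have h1 : (⟨X.z, hzE⟩ * e : E) ∈ Y := (hiff _).mpr (X.odd_z_mul_of_two (hnotY e he) (hA e))
      have h2 : (⟨X.z, hzE⟩ * e' : E) ∈ Y :=
        (hiff _).mpr (X.odd_z_mul_of_two (hnotY e' he') (hA e'))
      have : (⟨X.z, hzE⟩ * e) * (⟨X.z, hzE⟩ * e') = e * e' := by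
        apply Subtype.ext
        simp only [Subgroup.coe_mul]
        calc X.z * e * (X.z * e') = X.z * ((e : C) * X.z) * e' := by group
          _ = X.z * X.z * (e * e') := by rw [← X.z_central]; group
          _ = e * e' := by rw [X.z_mul_self, one_mul]
      rw [← this]
      exact Y.mul_mem h1 h2
    let σ : E →* ℂ :=
      { toFun := fun e => if e ∈ Y then 1 else -1
        map_one' := if_pos Y.one_mem
        map_mul' := fun e e' => by
          by_cases h : e ∈ Y <;> by_cases h' : e' ∈ Y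
          · simp [h, h', Y.mul_mem h h']
          · simp [h, h', Y.mul_mem_cancel_left h]
          · simp [h, h', Y.mul_mem_cancel_right h']
          · simp [h, h', hmul e e' h h'] }
    have hσ : IsGeneralizedCharacter E (fun e => σ e) :=
      CfsgLib.Characters.isGeneralizedCharacter_of_isCharacter
        (CfsgLib.Induction.isCharacter_monoidHom σ)
    have h := CfsgLib.Characters.isGeneralizedCharacter_mul
      (CfsgLib.Characters.isGeneralizedCharacter_add CfsgLib.Characters.isGeneralizedCharacter_one hqE) hσ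
    convert h using 1
    funext e
    simp only [Pi.mul_apply, Pi.add_apply, Pi.one_apply, σ, MonoidHom.coe_mk, OneHom.coe_mk,
      if_neg (hA e)]
    by_cases he : e ∈ Y
    · rw [if_neg (hinY e he).1, if_pos he, mul_one]
    · rw [if_pos (hnotY e he), if_neg he, mul_neg, mul_one]
  -- an element of order four
  obtain ⟨a, ha⟩ : ∃ a : E, orderOf (a : C) = 4 := by
    obtain ⟨e, c, hc⟩ := hA
    refine ⟨e ^ c, ?_⟩
    have hc0 : c ≠ 0 := by rintro rfl; exact (orderOf_pos (e : C)).ne' (by simpa using hc)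
    rw [Subgroup.coe_pow, orderOf_pow' _ hc0, hc, Nat.gcd_eq_right (dvd_mul_left _ _),
      Nat.mul_div_cancel _ (Nat.pos_of_ne_zero hc0)]
  set zE : E := a * a with hzE
  have hzE' : (zE : C) = X.z := by
    refine X.z_unique _ ?_
    rw [hzE, Subgroup.coe_mul, ← pow_two, orderOf_pow' _ two_ne_zero, ha]
    rfl
  have hzcent : zE ∈ Subgroup.center E := Subgroup.mem_center_iff.mpr fun g => Subtype.ext (by
    simp only [Subgroup.coe_mul, hzE', X.z_central])
  have hzY : zE ∉ Y := by
    rw [hiff, hzE', X.z_order]; decide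
  obtain ⟨k, hk⟩ := index_odd_core_of_nilpotent hnil
  have hpq : IsPGroup 2 (E ⧸ Y) := IsPGroup.of_card hk
  let P : Sylow 2 E := default
  haveI := hnil
  have hPn : (P : Subgroup E).Normal :=
    Sylow.normal_of_normalizerCondition normalizerCondition_of_isNilpotent P
  have hcomp : Y.IsComplement' (P : Subgroup E) :=
    CfsgLib.Transfer.isComplement'_of_coprime Y CfsgLib.PCore.not_dvd_card_pPrimeCore hpq P
  have hPT : IsPGroup 2 ((P : Subgroup E).map E.subtype) := P.isPGroup'.map _
  -- the image of `a` is central in the image of `E`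
  have haP : a ∈ (P : Subgroup E) := by
    obtain ⟨c, hc⟩ := exists_conj_le_sylow (T := Subgroup.zpowers a)
      (IsPGroup.of_card (n := 2) (by rw [Nat.card_zpowers, ← Subgroup.orderOf_coe, ha]; norm_num)) P
    have := hPn.conj_mem _ (hc a (Subgroup.mem_zpowers a)) c⁻¹
    simpa [mul_assoc] using this
  have hcent : ∀ x : E, Commute (X.π a) (X.π x) := by
    intro x
    obtain ⟨⟨⟨y, hy⟩, ⟨w, hw⟩⟩, rfl⟩ := hcomp.2 x
    simp only [Subgroup.coe_mul, map_mul]
    refine Commute.mul_right ?_ (X.map_comm hPT (Subgroup.mem_map_of_mem _ haP)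
      (Subgroup.mem_map_of_mem _ hw))
    have h : Commute a y := (Subgroup.commute_of_normal_of_disjoint Y (P : Subgroup E) inferInstance hPn
      hcomp.disjoint y a hy haP).symm
    rw [Commute, SemiconjBy, ← map_mul, ← map_mul, ← Subgroup.coe_mul, ← Subgroup.coe_mul, h.eq]
  -- the character `τ` of the quotient
  have hmk : orderOf (a : E ⧸ Y) = 2 ^ (1 + 1) := by
    refine orderOf_eq_prime_pow (p := 2) (n := 1) ?_ ?_
    · rw [← QuotientGroup.mk_pow, QuotientGroup.eq_one_iff, pow_one, pow_two]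
      exact hzY
    · rw [← QuotientGroup.mk_pow, show a ^ 2 ^ (1 + 1) = 1 from Subtype.ext (by
        rw [Subgroup.coe_pow, Subgroup.coe_one, show 2 ^ (1 + 1) = orderOf (a : C) by rw [ha]; rfl,
          pow_orderOf_eq_one])]
      rfl
  have h4D : 4 ∣ Nat.card (E ⧸ Y) := (by rw [hmk]; norm_num : orderOf (a : E ⧸ Y) = 4) ▸ orderOf_dvd_natCard _
  have h8D : Nat.card (E ⧸ Y) ∣ 8 := by
    have h1 : Y.index ∣ 8 * (X.S : Subgroup C).index := by
      rw [← X.card_S, Subgroup.card_mul_index]
      exact (Y.index_dvd_card).trans E.card_subgroup_dvd_card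
    change Y.index ∣ 8
    refine Nat.Coprime.dvd_of_dvd_mul_right ?_ h1
    rw [hk]
    exact Nat.Coprime.pow_left k ((Nat.prime_two.coprime_iff_not_dvd).mpr X.S.not_dvd_index)
  have hD : Nat.card (E ⧸ Y) = 4 ∨ Nat.card (E ⧸ Y) = 8 := by
    rcases (Nat.dvd_prime_pow Nat.prime_two).mp (show Nat.card (E ⧸ Y) ∣ 2 ^ 3 from
      (by norm_num : (2 : ℕ) ^ 3 = 8) ▸ h8D) with ⟨i, hi, h⟩
    rw [h] at h4D ⊢
    interval_cases i <;> simp_all
  have hzD : ((zE : E) : E ⧸ Y) ∈ Subgroup.center (E ⧸ Y) := Subgroup.mem_center_iff.mpr fun g => by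
    induction g using QuotientGroup.induction_on with
    | _ g => rw [← QuotientGroup.mk_mul, ← QuotientGroup.mk_mul, Subgroup.mem_center_iff.mp hzcent]
  have hz2 : (zE : E ⧸ Y) * zE = 1 := by
    rw [← QuotientGroup.mk_mul, show zE * zE = 1 from Subtype.ext (by
      rw [Subgroup.coe_mul, hzE', X.z_mul_self, Subgroup.coe_one]), QuotientGroup.mk_one]
  have hz1 : (zE : E ⧸ Y) ≠ 1 := fun h => hzY ((QuotientGroup.eq_one_iff zE).mp h)
  have hτD := isGeneralizedCharacter_tau hzD hz2 hz1 hD fun h8 => by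
    obtain ⟨b₁, hb₁, b₂, hb₂, hb⟩ := X.exists_commutator (T := (P : Subgroup E).map E.subtype) (by
      rw [Subgroup.card_subtype, ← hcomp.symm.index_eq_card]; exact h8)
    obtain ⟨c₁, -, rfl⟩ := hb₁
    obtain ⟨c₂, -, rfl⟩ := hb₂
    refine ⟨c₁, c₂, ?_⟩
    rw [show zE = c₁ * c₂ * c₁⁻¹ * c₂⁻¹ from Subtype.ext (by rw [hzE', ← hb]; rfl)]
    rfl
  -- the second factor
  have hπE : X.π a ∈ E.map X.π := Subgroup.mem_map_of_mem _ a.2
  have hπa2 : X.π a * X.π a = 1 := by
    rw [← map_mul, ← Subgroup.coe_mul, hzE', X.map_z]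
  have hzc : (⟨X.π a, hπE⟩ : E.map X.π) ∈ Subgroup.center (E.map X.π) := by
    rw [Subgroup.mem_center_iff]
    rintro ⟨_, x, hx, rfl⟩
    exact Subtype.ext (hcent ⟨x, hx⟩).symm.eq
  have hΦ := isGeneralizedCharacter_pullback (isGeneralizedCharacter_half_diff
    (isGeneralizedCharacter_pullback hq (E.map X.π).subtype) hzc (Subtype.ext hπa2))
    (X.π.subgroupMap E)
  have hτ := isGeneralizedCharacter_pullback hτD (QuotientGroup.mk' Y)
  have h := CfsgLib.Characters.isGeneralizedCharacter_mul hτ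
    (CfsgLib.Characters.isGeneralizedCharacter_add CfsgLib.Characters.isGeneralizedCharacter_one hΦ)
  convert h using 1
  funext e
  simp only [Pi.mul_apply, Pi.add_apply, Pi.one_apply,
    Subgroup.coe_subtype, Subgroup.coe_mul, MonoidHom.subgroupMap_apply_coe]
  have he1 : QuotientGroup.mk' Y e = 1 ↔ Odd (orderOf (e : C)) :=
    (QuotientGroup.eq_one_iff e).trans (hiff e)
  have hez : QuotientGroup.mk' Y e = (zE : E ⧸ Y) ↔ 2 ∣ orderOf (e : C) ∧ ¬ 4 ∣ orderOf (e : C) := by
    rw [QuotientGroup.mk'_apply, eq_comm, QuotientGroup.eq, hiff, Subgroup.coe_mul, Subgroup.coe_inv, hzE',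
      inv_eq_self_of_involution X.z_order, X.odd_iff, ← mul_assoc, X.z_mul_self, one_mul]
  by_cases h4 : 4 ∣ orderOf (e : C)
  · rw [if_pos h4, if_neg (fun h => (hinY e ((hiff e).mpr (he1.mp h))).2 h4),
      if_neg (fun h => (hez.mp h).2 h4), zero_mul]
  · have hπodd : Odd (orderOf (X.π e)) := by
      rw [← Nat.not_even_iff_odd, even_iff_two_dvd, X.two_dvd_map]; exact h4
    have heven : q (X.π a * X.π e) = 1 := by
      refine hev _ ?_
      have h2a : orderOf (X.π a) = 2 := by
        refine orderOf_eq_two_iff_mul.mpr ⟨fun h => ?_, hπa2⟩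
        rcases X.map_eq_one h with h | h <;> rw [h] at ha <;>
          simp [X.z_order] at ha
      rw [(hcent e).orderOf_mul_eq_mul_orderOf_of_coprime
        (by rw [h2a]; exact Nat.coprime_two_left.mpr hπodd), h2a]
      exact dvd_mul_right _ _
    rw [if_neg h4, heven]
    by_cases h2 : 2 ∣ orderOf (e : C)
    · rw [if_pos h2, if_neg (fun h => (hinY e ((hiff e).mpr (he1.mp h))).1 h2),
        if_pos (hez.mpr ⟨h2, h4⟩)]
      ring
    · rw [if_neg h2, if_pos (he1.mpr (by rwa [← Nat.not_even_iff_odd, even_iff_two_dvd]))]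
      ring

/-- The lifts are generalized characters. -/
theorem isGeneralizedCharacter_M {q : K → ℂ} (hq : IsGeneralizedCharacter K q)
    (hev : ∀ k, 2 ∣ orderOf k → q k = 1) : IsGeneralizedCharacter C (X.M q) := by
  have h := CfsgLib.Characters.isGeneralizedCharacter_sub
    (CfsgLib.Characters.isGeneralizedCharacter_add CfsgLib.Characters.isGeneralizedCharacter_one
      (isGeneralizedCharacter_pullback hq X.π))
    (X.isGeneralizedCharacter_F hq hev)
  convert h using 1
  funext g
  simp only [M, Pi.sub_apply, Pi.add_apply, Pi.one_apply]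
  split_ifs with h4 h2
  · rw [hev _ (X.two_dvd_map.mpr h4)]; norm_num
  · ring
  · ring

end QuatSetup

end CfsgLib.Involutions
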