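import Mathlib
import Cfsg.Agent.Lib.Involutions.QuatCentralizer
import Cfsg.Agent.Lib.Involutions.Isolated
import Cfsg.Agent.Lib.Blocks.BlockParts
import Cfsg.Agent.Lib.Characters.Values
import Cfsg.Agent.Lib.Blk4.Modular

/-!
Brauer and Suzuki: an isolated involution in a group with quaternion Sylow 2-subgroups of order
eight lies in a proper normal subgroup, unless there is a normal 2-complement.
-/

set_option autoImplicit false

namespace CfsgLib.Involutions

open Cfsg CfsgLib.Characters
open scoped ComplexConjugate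

universe u

/-- Characters of the principal block are orthogonal, on the section of an involution, to the
characters of the centralizer outside its principal block. -/
theorem sum_section_eq_zero {G : Type u} [Group G] [Fintype G] {M : Ideal AlgInt}
    (hM : IsPModular 2 M) {u : G} (hu : orderOf u = 2) {χ : IrrCharacter G}
    (hχ : χ ∈ principalBlock M G) [Fintype (Subgroup.centralizer ({u} : Set G))]
    {ξ : IrrCharacter (Subgroup.centralizer ({u} : Set G))}
    (hξ : ξ ∉ principalBlock M (Subgroup.centralizer ({u} : Set G))) :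
    ∑ y : Subgroup.centralizer ({u} : Set G), (if 2 ∣ orderOf y then 0 else
      (χ : G → ℂ) (u * (y : G)) * conj ((ξ : Subgroup.centralizer ({u} : Set G) → ℂ) y)) = 0 := by
  classical
  have hu' : ∃ k : ℕ, orderOf u = 2 ^ k := ⟨1, by rw [hu, pow_one]⟩
  let B₀ := principalBlock M (Subgroup.centralizer ({u} : Set G))
  have hB₀ : IsPBlock M B₀ := CfsgLib.Blocks.isPBlock_principalBlock M
  have hoff : ∀ w : Subgroup.centralizer ({u} : Set G), ¬ 2 ∣ orderOf w →
      blockPart B₀ᶜ (CfsgLib.Blocks.sectionFun u (χ : G → ℂ)) w = 0 := by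
    intro w hw
    refine CfsgLib.Blocks.blockPart_union_eq_zero (A := B₀ᶜ) hM (fun a b ha hs hb => ha ?_) fun a ha =>
      CfsgLib.Blocks.blockPart_sectionFun_eq_zero hM hu' (CfsgLib.Blocks.isPBlock_blockOf a)
        (fun hind => ha ?_) hw
    · exact (CfsgLib.Blocks.IsPBlock.mem_iff hM hB₀ hb a).2 (CfsgLib.Blocks.SameBlock.symm hM hs)
    · rw [← CfsgLib.Blocks.IsPBlock.eq_blockOf hM (CfsgLib.Blocks.isPBlock_principalBlock M) hχ] at hind
      have := (CfsgLib.Blocks.isInducedBlock_principal_iff hM _ ⟨_, hind⟩).1 hind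
      show a ∈ principalBlock M (Subgroup.centralizer ({u} : Set G))
      rw [← this]
      exact CfsgLib.Blocks.mem_blockOf_self hM a
  set ϑ := CfsgLib.Blocks.sectionFun u (χ : G → ℂ) with hϑ
  have hϑc : IsClassFunction _ ϑ := CfsgLib.Blocks.isClassFunction_sectionFun (irr_isClassFunction χ)
  have hval : ∀ w : Subgroup.centralizer ({u} : Set G), ¬ 2 ∣ orderOf w →
      ϑ w = blockPart B₀ ϑ w := by
    intro w hw
    rw [← add_zero (blockPart B₀ _ w), ← hoff w hw]
    conv_lhs => rw [classFunction_eq_sum hϑc]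
    simp only [CfsgLib.Blocks.blockPart_eq_sum, Finset.sum_apply, Pi.smul_apply, smul_eq_mul,
      Set.mem_compl_iff]
    exact (Finset.sum_filter_add_sum_filter_not _ _ _).symm
  calc _ = ∑ y : Subgroup.centralizer ({u} : Set G), ∑ η ∈ Finset.univ.filter (· ∈ B₀),
        classInner ϑ (η : _ → ℂ) * (if 2 ∣ orderOf y then 0 else
          (η : _ → ℂ) y * conj ((ξ : _ → ℂ) y)) := by
        refine Finset.sum_congr rfl fun y _ => ?_
        by_cases hy : 2 ∣ orderOf y
        · simp [hy]
        · have h := hval y hy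
          rw [CfsgLib.Blocks.blockPart_eq_sum] at h
          simp only [if_neg hy]
          rw [show (χ : G → ℂ) (u * (y : G)) = ϑ y from rfl, h, Finset.sum_mul]
          exact Finset.sum_congr rfl fun η _ => mul_assoc _ _ _
    _ = 0 := by
        rw [Finset.sum_comm]
        refine Finset.sum_eq_zero fun η hη => ?_
        rw [← Finset.mul_sum]
        convert mul_zero _ using 2
        refine Eq.trans ?_ ((Finset.sum_filter _ _).symm.trans
          (CfsgLib.Blocks.sum_regular_eq_zero_of_not_sameBlock hM (χ := η) (ψ := ξ) fun h => hξ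
            ((CfsgLib.Blocks.IsPBlock.mem_iff hM hB₀ (Finset.mem_filter.mp hη).2 ξ).2 h)))
        exact Finset.sum_congr rfl fun y _ => by split_ifs <;> rfl

/-- The product of inner products. -/
theorem classInner_eq_sum_coeff {G : Type u} [Group G] [Fintype G] {f g : G → ℂ}
    (hf : IsClassFunction G f) {m n : IrrCharacter G → ℤ}
    (hm : ∀ χ : IrrCharacter G, classInner f (χ : G → ℂ) = m χ)
    (hn : ∀ χ : IrrCharacter G, classInner g (χ : G → ℂ) = n χ) :
    classInner f g = ((∑ χ, m χ * n χ : ℤ) : ℂ) := by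
  conv_lhs => rw [classFunction_eq_sum hf]
  rw [classInner_sum_left, Int.cast_sum]
  refine Finset.sum_congr rfl fun χ _ => ?_
  rw [classInner_smul_left, hm, CfsgLib.Induction.classInner_swap (χ : G → ℂ) g, hn, map_intCast,
    Int.cast_mul]

namespace QuatSetup

variable {C K : Type u} [Group C] [Group K] (X : QuatSetup C K) [Fintype C] [Fintype K]

/-- Inflated characters outside the principal block of the quotient. -/
theorem pullback_not_mem {M' : Ideal AlgInt} (hM : IsPModular 2 M') {k : IrrCharacter K}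
    (hk : k ∉ principalBlock M' K) {ξ : IrrCharacter C}
    (hξ : ∀ g, (ξ : C → ℂ) g = (k : K → ℂ) (X.π g)) : ξ ∉ principalBlock M' C := by
  classical
  intro h
  refine CfsgLib.Blocks.omega_regSum_not_mem hM h ?_
  have h0 := CfsgLib.Blocks.omega_regSum_eq_zero hM hk
  rw [CfsgLib.Blocks.omega_regSum, Finset.sum_filter] at h0 ⊢
  rw [X.sum_eq _ (fun x => if ¬ 2 ∣ orderOf x then (k : K → ℂ) x else 0) ?_, hξ 1, map_one, h0]
  · exact CfsgLib.Blocks.memLocalIdeal_zero hM
  intro g
  have hodd : ∀ x : C, Odd (orderOf x) ↔ ¬ 2 ∣ orderOf x := fun x => by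
    rw [← Nat.not_even_iff_odd, even_iff_two_dvd]
  simp only [hξ, X.map_z_mul]
  by_cases h4 : 4 ∣ orderOf g
  · have h4' : 4 ∣ orderOf (X.z * g) := by
      rw [← X.two_dvd_map, X.map_z_mul, X.two_dvd_map]; exact h4
    rw [if_neg (not_not.mpr ((by norm_num : 2 ∣ 4).trans h4)),
      if_neg (not_not.mpr ((by norm_num : 2 ∣ 4).trans h4')),
      if_neg (not_not.mpr (X.two_dvd_map.mpr h4)), add_zero]
  · have hp : ¬ 2 ∣ orderOf (X.π g) := fun h => h4 (X.two_dvd_map.mp h)
    rw [if_pos hp]
    by_cases h2 : 2 ∣ orderOf g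
    · rw [if_neg (not_not.mpr h2), if_pos ((hodd _).mp (X.odd_z_mul_of_two h2 h4)), zero_add]
    · rw [if_pos h2, if_neg (not_not.mpr (X.z_mul_of_odd ((hodd g).mpr h2)).1), add_zero]

variable {M' : Ideal AlgInt} (D : KleinFamily M' K)

/-- The value at the involution of a class function with the scalar products of an exceptional
character. -/
theorem value_z {Q : C → ℂ} (hQ : IsClassFunction C Q) (hQθ : classInner Q X.θ = 1)
    (hQM : ∀ j : Fin 4, j ≠ 0 → classInner Q (X.M (D.q j)) = if j = 1 then 1 else 0)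
    (hQout : ∀ k : IrrCharacter K, k ∉ principalBlock M' K →
      ∑ y : C, (if 2 ∣ orderOf y then 0 else Q (X.z * y) * conj ((k : K → ℂ) (X.π y))) = 0) :
    Q X.z = D.q 1 1 := by
  classical
  let w : C → ℂ := fun g => if 2 ∣ orderOf g ∧ ¬ 4 ∣ orderOf g then Q g else 0
  let Fq : K → ℂ := fun k => ∑ g ∈ Finset.univ.filter (fun g => X.π g = k), w g
  have hpair : ∀ h : K → ℂ, ∑ k, Fq k * h k = ∑ g, w g * h (X.π g) := by
    intro h
    rw [← Finset.sum_fiberwise_of_maps_to (t := Finset.univ) (g := X.π) (fun g _ => Finset.mem_univ _)]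
    refine Finset.sum_congr rfl fun k _ => ?_
    rw [Finset.sum_mul]
    exact Finset.sum_congr rfl fun g hg => by rw [(Finset.mem_filter.mp hg).2]
  have hFev : ∀ k : K, 2 ∣ orderOf k → Fq k = 0 := fun k hk =>
    Finset.sum_eq_zero fun g hg => if_neg fun h =>
      h.2 (X.two_dvd_map.mp ((Finset.mem_filter.mp hg).2 ▸ hk))
  have hK0 : (Nat.card K : ℂ) ≠ 0 := Nat.cast_ne_zero.mpr Nat.card_pos.ne'
  have hC : (Nat.card C : ℂ) = 2 * Nat.card K := by exact_mod_cast X.card_eq
  set a := ∑ g : C, (if 4 ∣ orderOf g then Q g else 0) with ha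
  have haval : 4 * a = 2 * (Nat.card K : ℂ) := by
    rw [classInner, inv_mul_eq_iff_eq_mul₀ (Nat.cast_ne_zero.mpr Nat.card_pos.ne'), mul_one] at hQθ
    rw [← hC, ← hQθ, ha, Finset.mul_sum]
    refine Finset.sum_congr rfl fun g _ => ?_
    rw [θ]
    split_ifs <;> simp [map_ofNat, mul_comm]
  let T : Fin 4 → ℂ := fun i => ∑ g : C, w g * conj (D.q i (X.π g))
  have hT0 : ∀ j : Fin 4, j ≠ 0 →
      T 0 + T j = (Nat.card K : ℂ) * ((if j = 1 then 1 else 0) - 1 / 2) := by
    intro j hj
    have h := hQM j hj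
    rw [classInner, inv_mul_eq_iff_eq_mul₀ (Nat.cast_ne_zero.mpr Nat.card_pos.ne'), hC] at h
    have h2 : ∑ g : C, Q g * conj (X.M (D.q j) g) = 2 * a + 2 * (T 0 + T j) := by
      simp only [T, D.q_zero, map_one, mul_one, ha, Finset.mul_sum, ← Finset.sum_add_distrib]
      refine Finset.sum_congr rfl fun g _ => ?_
      rw [M]
      by_cases h4 : 4 ∣ orderOf g
      · simp only [w, h4, if_true, not_true, and_false, if_false, map_ofNat]; ring
      · by_cases h2 : 2 ∣ orderOf g
        · simp only [w, h4, h2, if_true, if_false, not_false_iff, and_true, map_mul, map_add,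
            map_one, map_ofNat]
          ring
        · simp only [w, h4, h2, if_false, false_and, map_zero]; ring
    rw [h2] at h
    linear_combination h / 2 - haval / 4
  have hTsum : ∑ i, T i = 0 := by
    simp only [T]
    rw [Finset.sum_comm]
    refine Finset.sum_eq_zero fun g _ => ?_
    by_cases h : 2 ∣ orderOf g ∧ ¬ 4 ∣ orderOf g
    · rw [← Finset.mul_sum, ← map_sum, D.q_sum _ (by
        rw [← Nat.not_even_iff_odd, even_iff_two_dvd, X.two_dvd_map]; exact h.2), map_zero, mul_zero]
    · simp [w, h]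
  rw [Fin.sum_univ_four] at hTsum
  have e1 := hT0 1 (by decide)
  have e2 := hT0 2 (by decide)
  have e3 := hT0 3 (by decide)
  simp only [if_true, (by decide : (2 : Fin 4) ≠ 1), (by decide : (3 : Fin 4) ≠ 1), if_false] at e1 e2 e3
  have hT : ∀ i, T i = (Nat.card K : ℂ) * ((if i = 1 then 1 else 0) - 1 / 4) := by
    intro i
    fin_cases i <;> simp only [Fin.zero_eta, Fin.mk_one, Fin.reduceFinMk, Fin.reduceEq, if_true,
      if_false]
    · linear_combination (e1 + e2 + e3 - hTsum) / 2
    · linear_combination e1 - (e1 + e2 + e3 - hTsum) / 2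
    · linear_combination e2 - (e1 + e2 + e3 - hTsum) / 2
    · linear_combination e3 - (e1 + e2 + e3 - hTsum) / 2
  -- the odd part of `q 1`
  let g₁ : K → ℂ := fun k => if 2 ∣ orderOf k then 0 else D.q 1 k
  have hevc : ((Finset.univ.filter fun k : K => 2 ∣ orderOf k).card : ℂ) = Nat.card K / 4 := by
    linear_combination card_even_cast D / 4
  have hsplit : ∀ h : K → ℂ, ∑ k, g₁ k * h k =
      ∑ k, D.q 1 k * h k - ∑ k ∈ Finset.univ.filter (fun k : K => 2 ∣ orderOf k), h k := by
    intro h
    rw [Finset.sum_filter, ← Finset.sum_sub_distrib]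
    refine Finset.sum_congr rfl fun k _ => ?_
    by_cases hk : 2 ∣ orderOf k
    · simp [g₁, hk, D.q_even 1 k hk]
    · simp [g₁, hk]
  have hf : (fun k => Fq k - g₁ k) = 0 := by
    refine D.eq_zero (fun k h => ?_) (fun k hk => by simp [g₁, hk, hFev k hk]) (fun i => ?_)
      fun χ hχ => ?_
    · have hq1 := isClassFunction_of_isGeneralizedCharacter (D.q_gen 1) k h
      obtain ⟨c, rfl⟩ := X.surj h
      have hFc : Fq (X.π c * k * (X.π c)⁻¹) = Fq k := by
        refine Finset.sum_equiv (MulAut.conj c⁻¹).toEquiv (fun g => ?_) fun g _ => ?_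
        · simp only [Finset.mem_filter, Finset.mem_univ, true_and, MulEquiv.toEquiv_eq_coe,
            EquivLike.coe_coe, MulAut.conj_apply]
          rw [map_mul, map_mul, inv_inv, map_inv]
          exact ⟨fun e => by rw [e]; group, fun e => by rw [← e]; group⟩
        · simp only [w, MulEquiv.toEquiv_eq_coe, EquivLike.coe_coe, MulAut.conj_apply, orderOf_conj_eq,
            hQ g c⁻¹]
      simp only [g₁, hFc, orderOf_conj_eq, hq1]
    · have hsev : ∑ k ∈ Finset.univ.filter (fun k : K => 2 ∣ orderOf k), conj (D.q i k) =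
          (Nat.card K : ℂ) / 4 := by
        rw [← hevc, Finset.cast_card]
        exact Finset.sum_congr rfl fun k hk => by rw [D.q_even i k (Finset.mem_filter.mp hk).2, map_one]
      rw [classInner]
      simp only [sub_mul, Finset.sum_sub_distrib]
      rw [hpair (fun k => conj (D.q i k)), hsplit, sum_q_mul D, hsev]
      change (Nat.card K : ℂ)⁻¹ * (T i - _) = 0
      rw [hT i]
      by_cases hi : i = 1
      · simp only [hi, if_true]; ring
      · simp only [hi, Ne.symm hi, if_false]; ring
    · rw [classInner]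
      simp only [sub_mul, Finset.sum_sub_distrib]
      rw [hpair (fun k => conj ((χ : K → ℂ) k)), hsplit]
      have h1 : ∑ g : C, w g * conj ((χ : K → ℂ) (X.π g)) = 0 := by
        rw [← Equiv.sum_comp (Equiv.mulLeft X.z)]
        refine Eq.trans (Finset.sum_congr rfl fun y _ => ?_) (hQout χ hχ)
        simp only [Equiv.coe_mulLeft, X.map_z_mul, w, ← X.odd_iff]
        by_cases hy : 2 ∣ orderOf y
        · rw [if_pos hy, if_neg (fun h => Nat.not_even_iff_odd.mpr h (even_iff_two_dvd.mpr hy)), zero_mul]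
        · rw [if_neg hy, if_pos (Nat.not_even_iff_odd.mp fun h => hy h.two_dvd)]
      have h2 : ∑ k, D.q 1 k * conj ((χ : K → ℂ) k) = 0 := by
        have := D.q_out 1 χ hχ
        rwa [classInner, inv_mul_eq_iff_eq_mul₀ hK0, mul_zero] at this
      have h3 : ∑ k ∈ Finset.univ.filter (fun k : K => 2 ∣ orderOf k), conj ((χ : K → ℂ) k) = 0 := by
        have h4 : ∑ k, (∑ i, D.q i k) * conj ((χ : K → ℂ) k) =
            4 * ∑ k ∈ Finset.univ.filter (fun k : K => 2 ∣ orderOf k), conj ((χ : K → ℂ) k) := by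
          rw [Finset.mul_sum, Finset.sum_filter]
          refine Finset.sum_congr rfl fun k _ => ?_
          by_cases hk : 2 ∣ orderOf k
          · simp [hk, D.q_even _ _ hk]
          · rw [if_neg hk, D.q_sum k (Nat.not_even_iff_odd.mp fun h => hk h.two_dvd), zero_mul]
        have h5 : ∑ k, (∑ i, D.q i k) * conj ((χ : K → ℂ) k) = 0 := by
          simp only [Finset.sum_mul]
          rw [Finset.sum_comm]
          refine Finset.sum_eq_zero fun i _ => ?_
          have := D.q_out i χ hχ
          rwa [classInner, inv_mul_eq_iff_eq_mul₀ hK0, mul_zero] at this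
        rw [h4] at h5
        simpa using h5
      rw [h1, h2, h3]
      simp
  have h := congrFun hf 1
  simp only [Pi.zero_apply, sub_eq_zero, g₁, orderOf_one, Nat.dvd_one, OfNat.ofNat_ne_one,
    if_false] at h
  rw [← h]
  change Q X.z = ∑ g ∈ _, w g
  rw [Finset.sum_eq_single X.z]
  · simp only [w, X.z_order]; norm_num
  · intro g hg hne
    rcases X.map_eq_one (Finset.mem_filter.mp hg).2 with rfl | rfl
    · simp [w]
    · exact absurd rfl hne
  · intro h; exact absurd (by simp [X.map_z]) h

end QuatSetup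

section Global

variable {G : Type u} [Group G] [Fintype G]

/-- Induction from the centralizer of the involution of functions vanishing on odd order. -/
theorem indFun_eq_of_even {H : Subgroup G} {a : H → ℂ} (ha : IsClassFunction H a)
    (hTI : ∀ (h : H) (x : G), 2 ∣ orderOf h → x⁻¹ * (h : G) * x ∈ H → x ∈ H) {h : H}
    (hh : 2 ∣ orderOf h) : indFun H a (h : G) = a h := by
  classical
  have hterm : ∀ x : G, extendByZero H a (x⁻¹ * (h : G) * x) = if x ∈ H then a h else 0 := by
    intro x
    split_ifs with hx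
    · have e := CfsgLib.Induction.extendByZero_conj H ha (⟨x, hx⟩⁻¹ : H) (h : G)
      rw [show ((⟨x, hx⟩⁻¹ : H) : G) = x⁻¹ from rfl, inv_inv] at e
      rw [e]
      exact CfsgLib.Induction.extendByZero_mem H a h.2
    · exact CfsgLib.Induction.extendByZero_notMem H a fun hy => hx (hTI h x hh hy)
  rw [CfsgLib.Induction.indFun_apply, Finset.sum_congr rfl fun x _ => hterm x, ← Finset.sum_filter,
    Finset.sum_const, nsmul_eq_mul]
  have hc : (Finset.univ.filter fun x => x ∈ H).card = Nat.card H := by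
    rw [Nat.card_eq_fintype_card, Fintype.card_subtype]
  rw [hc, inv_mul_cancel_left₀ CfsgLib.Induction.natCard_ne_zero']

theorem indFun_eq_zero_of_odd {H : Subgroup G} {a : H → ℂ} (ha0 : ∀ h : H, ¬ 2 ∣ orderOf h → a h = 0)
    {g : G} (hg : ¬ 2 ∣ orderOf g) : indFun H a g = 0 := by
  rw [CfsgLib.Induction.indFun_apply, Finset.sum_eq_zero fun x _ => ?_, mul_zero]
  by_cases hx : x⁻¹ * g * x ∈ H
  · rw [CfsgLib.Induction.extendByZero_mem H a hx]
    refine ha0 _ ?_
    rw [Subgroup.orderOf_mk]
    rwa [show x⁻¹ * g * x = x⁻¹ * g * (x⁻¹)⁻¹ by group, orderOf_conj_eq]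
  · exact CfsgLib.Induction.extendByZero_notMem H a hx

theorem classInner_indFun_even {H : Subgroup G} [Fintype H] {a b : H → ℂ}
    (hb : IsClassFunction H b)
    (hTI : ∀ (h : H) (x : G), 2 ∣ orderOf h → x⁻¹ * (h : G) * x ∈ H → x ∈ H)
    (ha0 : ∀ h : H, ¬ 2 ∣ orderOf h → a h = 0) :
    classInner (indFun H a) (indFun H b) = classInner a b := by
  rw [CfsgLib.Induction.classInner_indFun H a (CfsgLib.Induction.isClassFunction_indFun H b),
    classInner, classInner]
  congr 1
  refine Finset.sum_congr rfl fun h _ => ?_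
  by_cases hh : 2 ∣ orderOf h
  · rw [indFun_eq_of_even hb hTI hh]
  · rw [ha0 h hh, zero_mul, zero_mul]

theorem isGeneralizedCharacter_ind {H : Subgroup G} [Fintype H] {a : H → ℂ}
    (ha : IsGeneralizedCharacter H a) : IsGeneralizedCharacter G (indFun H a) := by
  obtain ⟨χ, ψ, hχ, hψ, rfl⟩ := ha
  exact ⟨_, _, CfsgLib.Induction.isCharacter_indFun H hχ, CfsgLib.Induction.isCharacter_indFun H hψ,
    CfsgLib.Induction.indFun_sub H χ ψ⟩

/-- The exceptional character argument. -/
theorem quat_eight_core {u : G} (hiso : IsIsolatedInvolution u) {C : Subgroup G}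
    (hC : C = Subgroup.centralizer ({u} : Set G)) [Fintype C] {K : Type u} [Group K] [Fintype K]
    (X : QuatSetup C K) (hXz : (X.z : G) = u)
    {M' : Ideal AlgInt} (hM : IsPModular 2 M') (D : KleinFamily M' K) :
    ∃ N : Subgroup G, N.Normal ∧ N ≠ ⊤ ∧ u ∈ N := by
  classical
  have hTI : ∀ (h : C) (x : G), 2 ∣ orderOf h → x⁻¹ * (h : G) * x ∈ C → x ∈ C := by
    intro h x hh hx
    have h1 : orderOf (h ^ (orderOf h / 2)) = 2 := by
      rw [orderOf_pow_orderOf_div (orderOf_pos h).ne' hh]
    have h2 : (h : G) ^ (orderOf h / 2) = u := by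
      rw [← hXz, ← X.z_unique _ h1]; rfl
    have h3 : x⁻¹ * u * x ∈ C := by
      have := C.pow_mem hx (orderOf h / 2)
      rwa [show x⁻¹ * (h : G) * x = x⁻¹ * (h : G) * (x⁻¹)⁻¹ by group, conj_pow, h2, inv_inv] at this
    have h4 : (⟨_, h3⟩ : C) = X.z := X.z_unique _ (by
      rw [Subgroup.orderOf_mk, show x⁻¹ * u * x = x⁻¹ * u * (x⁻¹)⁻¹ by group, orderOf_conj_eq, hiso.1])
    have h5 : x⁻¹ * u * x = u := (congrArg Subtype.val h4).trans hXz
    rw [hC, Subgroup.mem_centralizer_singleton_iff]
    calc x * u = x * (x⁻¹ * u * x) := by rw [h5]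
      _ = u * x := by group
  have hgenM : ∀ j, IsGeneralizedCharacter C (X.M (D.q j)) := fun j =>
    X.isGeneralizedCharacter_M (D.q_gen j) (D.q_even j)
  have hgenθ := X.isGeneralizedCharacter_θ D
  have hcM := fun j => isClassFunction_of_isGeneralizedCharacter (hgenM j)
  have hcθ := isClassFunction_of_isGeneralizedCharacter hgenθ
  set I : Fin 4 → G → ℂ := fun j => indFun C (X.M (D.q j)) with hI
  set T : G → ℂ := indFun C X.θ with hT
  have hone : ∀ {f : C → ℂ}, classInner (indFun C f) (1 : G → ℂ) = classInner f 1 := fun {f} =>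
    CfsgLib.Induction.classInner_indFun C f fun _ _ => rfl
  have h11 : classInner (1 : G → ℂ) 1 = 1 :=
    classInner_irr_self (principalIrr G).2
  -- the norms
  have hII : ∀ i j : Fin 4, i ≠ 0 → j ≠ 0 →
      classInner (I i - 1) (I j - 1) = if i = j then 2 else 0 := by
    intro i j hi hj
    rw [classInner_sub_left, classInner_sub_right, classInner_sub_right, hI,
      classInner_indFun_even (hcM j) hTI (fun h hh => X.M_odd _ hh), hone,
      CfsgLib.Induction.classInner_swap 1 (indFun C _), hone, X.inner_M_M D hi hj,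
      X.inner_M_one D hi, X.inner_M_one D hj, h11, map_one]
    ring
  have hTT : classInner (T - 1) (T - 1) = 3 := by
    have h1 : classInner X.θ 1 = 1 := by
      rw [CfsgLib.Induction.classInner_swap, X.inner_one_θ D, map_one]
    rw [classInner_sub_left, classInner_sub_right, classInner_sub_right, hT,
      classInner_indFun_even hcθ hTI (fun h hh => X.θ_odd hh), hone,
      CfsgLib.Induction.classInner_swap 1 (indFun C _), hone, X.inner_θ_θ D, h1, h11, map_one]
    norm_num
  have hIT : ∀ i : Fin 4, i ≠ 0 → classInner (I i - 1) (T - 1) = 1 := by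
    intro i hi
    have h1 : classInner X.θ 1 = 1 := by
      rw [CfsgLib.Induction.classInner_swap, X.inner_one_θ D, map_one]
    rw [classInner_sub_left, classInner_sub_right, classInner_sub_right, hI, hT,
      classInner_indFun_even hcθ hTI (fun h hh => X.M_odd _ hh), hone,
      CfsgLib.Induction.classInner_swap 1 (indFun C _), hone, X.inner_M_θ D, X.inner_M_one D hi,
      h1, h11, map_one]
    norm_num
  -- the coefficients
  have hgr : ∀ i, IsGeneralizedCharacter G (I i - 1) := fun i =>
    isGeneralizedCharacter_sub (isGeneralizedCharacter_ind (hgenM i)) isGeneralizedCharacter_one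
  have hgs : IsGeneralizedCharacter G (T - 1) :=
    isGeneralizedCharacter_sub (isGeneralizedCharacter_ind hgenθ) isGeneralizedCharacter_one
  choose m hm using fun i => (isGeneralizedCharacter_iff.mp (hgr i)).2
  choose n hn using (isGeneralizedCharacter_iff.mp hgs).2
  have hmm : ∀ i j : Fin 4, i ≠ 0 → j ≠ 0 → ∑ χ, m i χ * m j χ = if i = j then 2 else 0 := by
    intro i j hi hj
    have h := hII i j hi hj
    rw [classInner_eq_sum_coeff (isClassFunction_of_isGeneralizedCharacter (hgr i)) (hm i) (hm j)] at h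
    split_ifs at h ⊢ <;> exact_mod_cast h
  have hnn : ∑ χ, n χ * n χ = 3 := by
    have h := hTT
    rw [classInner_eq_sum_coeff (isClassFunction_of_isGeneralizedCharacter hgs) hn hn] at h
    exact_mod_cast h
  have hmn : ∑ χ, m 1 χ * n χ = 1 := by
    have h := hIT 1 (by decide)
    rw [classInner_eq_sum_coeff (isClassFunction_of_isGeneralizedCharacter (hgr 1)) (hm 1) hn] at h
    exact_mod_cast h
  choose deg hdeg0 hdeg using fun χ : IrrCharacter G => irr_exists_degree χ.2
  have hI1 : ∀ i, I i 1 = 0 := fun i => indFun_eq_zero_of_odd (fun h hh => X.M_odd _ hh) (by simp)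
  have hmd : ∀ i, ∑ χ, m i χ * (deg χ : ℤ) = -1 := by
    intro i
    have h := congrFun (classFunction_eq_sum (isClassFunction_of_isGeneralizedCharacter (hgr i))) 1
    simp only [Pi.sub_apply, hI1 i, Pi.one_apply, zero_sub, Finset.sum_apply, Pi.smul_apply,
      smul_eq_mul, hm i, hdeg] at h
    exact_mod_cast h.symm
  have hm0 : ∀ i, i ≠ 0 → m i (principalIrr G) = 0 := by
    intro i hi
    have h := hm i (principalIrr G)
    rw [show ((principalIrr G : IrrCharacter G) : G → ℂ) = 1 from rfl, classInner_sub_left, hI,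
      hone, X.inner_M_one D hi, h11, sub_self] at h
    exact_mod_cast h.symm
  -- the two constituents
  have hsq1 : ∀ χ, m 1 χ * m 1 χ ≤ 1 := by
    intro χ
    have h := Finset.single_le_sum (f := fun χ => m 1 χ * m 1 χ) (fun _ _ => mul_self_nonneg _)
      (Finset.mem_univ χ)
    rw [hmm 1 1 (by decide) (by decide), if_pos rfl] at h
    have : m 1 χ ≤ 1 := by nlinarith
    have : -1 ≤ m 1 χ := by nlinarith
    interval_cases m 1 χ <;> norm_num
  have hcard : (Finset.univ.filter fun χ => m 1 χ ≠ 0).card = 2 := by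
    have h := hmm 1 1 (by decide) (by decide)
    rw [if_pos rfl, ← Finset.sum_filter_of_ne (p := fun χ => m 1 χ ≠ 0)
      (fun χ _ h => left_ne_zero_of_mul h), Finset.sum_congr rfl (fun χ hχ => ?_), Finset.sum_const,
      nsmul_one] at h
    · exact_mod_cast h
    · refine le_antisymm (hsq1 χ) ?_
      have := mul_self_pos.mpr (Finset.mem_filter.mp hχ).2
      omega
  obtain ⟨a₀, b₀, hab₀, hsupp⟩ := Finset.card_eq_two.mp hcard
  have hout : ∀ χ, χ ≠ a₀ ∧ χ ≠ b₀ → m 1 χ = 0 := by
    intro χ hχ
    by_contra h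
    have : χ ∈ Finset.univ.filter (fun χ => m 1 χ ≠ 0) := Finset.mem_filter.mpr ⟨Finset.mem_univ _, h⟩
    rw [hsupp] at this
    simp [hχ.1, hχ.2] at this
  have hsum2 : ∀ (a b : IrrCharacter G), a ≠ b → (∀ χ, χ ≠ a ∧ χ ≠ b → m 1 χ = 0) →
      ∀ f : IrrCharacter G → ℤ, ∑ χ, m 1 χ * f χ = m 1 a * f a + m 1 b * f b := fun a b hab ho f =>
    Finset.sum_eq_add a b hab (fun χ _ hχ => by rw [ho χ hχ, zero_mul])
      (fun h => absurd (Finset.mem_univ _) h) (fun h => absurd (Finset.mem_univ _) h)
  have hunit : ∀ χ ∈ ({a₀, b₀} : Finset (IrrCharacter G)), m 1 χ = 1 ∨ m 1 χ = -1 := by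
    intro χ hχ
    rw [← hsupp] at hχ
    have hne := (Finset.mem_filter.mp hχ).2
    have := hsq1 χ
    have : m 1 χ ≤ 1 := by nlinarith
    have : -1 ≤ m 1 χ := by nlinarith
    omega
  have hn1 : ∀ χ, n χ = 0 ∨ n χ = 1 ∨ n χ = -1 := by
    intro χ
    have h := Finset.single_le_sum (f := fun χ => n χ * n χ) (fun _ _ => mul_self_nonneg _)
      (Finset.mem_univ χ)
    rw [hnn] at h
    have : n χ ≤ 1 := by nlinarith
    have : -1 ≤ n χ := by nlinarith
    omega
  obtain ⟨a, b, hab, ho, hea, heb, hna, hnb⟩ : ∃ a b, a ≠ b ∧ (∀ χ, χ ≠ a ∧ χ ≠ b → m 1 χ = 0) ∧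
      (m 1 a = 1 ∨ m 1 a = -1) ∧ (m 1 b = 1 ∨ m 1 b = -1) ∧ n a = m 1 a ∧ n b = 0 := by
    have ha := hunit a₀ (by simp)
    have hb := hunit b₀ (by simp)
    have h := hmn
    rw [hsum2 a₀ b₀ hab₀ hout] at h
    rcases hn1 a₀ with na | na | na <;> rcases hn1 b₀ with nb | nb | nb <;>
      rcases ha with ea | ea <;> rcases hb with eb | eb <;> rw [na, nb, ea, eb] at h <;>
      first
        | omega
        | exact ⟨a₀, b₀, hab₀, hout, by omega, by omega, by omega, by omega⟩
        | exact ⟨b₀, a₀, hab₀.symm, fun χ hχ => hout χ ⟨hχ.2, hχ.1⟩, by omega, by omega, by omega, by omega⟩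
  set A : ℤ := m 1 a * deg a with hA
  set Bd : ℤ := m 1 b * deg b with hBd
  have hAB : A + Bd = -1 := by rw [← hmd 1, hsum2 a b hab ho]
  have hA0 : A ≠ 0 := by
    have := hdeg0 a
    rcases hea with h | h <;> rw [hA, h] <;> omega
  have hB0 : Bd ≠ 0 := by
    have := hdeg0 b
    rcases heb with h | h <;> rw [hBd, h] <;> omega
  -- the other families are orthogonal to both
  have horth : ∀ j : Fin 4, j ≠ 0 → j ≠ 1 → m j a = 0 := by
    intro j hj hj1
    by_contra hne
    have h := hmm 1 j (by decide) hj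
    rw [if_neg (Ne.symm hj1), hsum2 a b hab ho] at h
    have hnb : m j b ≠ 0 := by
      intro h0; rw [h0] at h
      rcases hea with e | e <;> rw [e] at h <;> omega
    have h2 := hmm j j hj hj
    rw [if_pos rfl] at h2
    have hle : ∑ χ ∈ ({a, b} : Finset _), m j χ * m j χ ≤ 2 :=
      h2 ▸ Finset.sum_le_sum_of_subset_of_nonneg (Finset.subset_univ _) fun _ _ _ => mul_self_nonneg _
    rw [Finset.sum_pair hab] at hle
    have h3 := mul_self_pos.mpr hne
    have h4 := mul_self_pos.mpr hnb
    have hz : ∀ χ, χ ≠ a ∧ χ ≠ b → m j χ = 0 := by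
      intro χ hχ
      have hle' : ∑ x ∈ ({χ, a, b} : Finset _), m j x * m j x ≤ 2 :=
        h2 ▸ Finset.sum_le_sum_of_subset_of_nonneg (Finset.subset_univ _) fun _ _ _ => mul_self_nonneg _
      rw [Finset.sum_insert (by simp [hχ.1, hχ.2]), Finset.sum_pair hab] at hle'
      exact mul_self_eq_zero.mp (le_antisymm (by omega) (mul_self_nonneg _))
    have hd := hmd j
    rw [Finset.sum_eq_add a b hab (fun χ _ hχ => by rw [hz χ hχ, zero_mul])
      (fun h => absurd (Finset.mem_univ _) h) (fun h => absurd (Finset.mem_univ _) h)] at hd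
    have ha2 : m j a = 1 ∨ m j a = -1 := by
      have : m j a ≤ 1 := by nlinarith
      have : -1 ≤ m j a := by nlinarith
      omega
    have hb2 : m j b = 1 ∨ m j b = -1 := by
      have : m j b ≤ 1 := by nlinarith
      have : -1 ≤ m j b := by nlinarith
      omega
    have := hdeg0 a
    have := hdeg0 b
    rcases hea with e1 | e1 <;> rcases heb with e2 | e2 <;> rcases ha2 with e3 | e3 <;>
      rcases hb2 with e4 | e4 <;> rw [e1, e2, e3, e4] at h <;> rw [hA, hBd, e1, e2] at hAB <;>
      rw [e3, e4] at hd <;> omega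
  -- both lie in the principal block
  have hblk : a ∈ principalBlock M' G ∧ b ∈ principalBlock M' G := by
    set S := Finset.univ.filter (fun χ : IrrCharacter G => χ ∈ principalBlock M' G)
    have hz : ∑ χ ∈ S, classInner (I 1) (χ : G → ℂ) * (χ : G → ℂ) 1 = 0 := by
      simp only [classInner, mul_assoc, Finset.sum_mul, ← Finset.mul_sum]
      rw [Finset.sum_comm, Finset.sum_eq_zero fun g _ => ?_, mul_zero]
      by_cases hg : 2 ∣ orderOf g
      · have h := CfsgLib.Blocks.weak_orth hM (CfsgLib.Blocks.isPBlock_principalBlock M')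
          (x := (1 : G)) (by simp) hg
        rw [← Finset.mul_sum]
        convert mul_zero _ using 2
        rw [← h]
        exact Finset.sum_congr rfl fun χ _ => mul_comm _ _
      · simp [hI, indFun_eq_zero_of_odd (fun h hh => X.M_odd _ hh) hg]
    have hcoef : ∀ χ : IrrCharacter G, classInner (I 1) (χ : G → ℂ) * (χ : G → ℂ) 1 =
        (((if χ = principalIrr G then 1 else 0) + m 1 χ * deg χ : ℤ) : ℂ) := by
      intro χ
      have h := hm 1 χ
      rw [classInner_sub_left, show (1 : G → ℂ) = ((principalIrr G : IrrCharacter G) : G → ℂ) from rfl,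
        classInner_irr] at h
      rw [sub_eq_iff_eq_add.mp h, hdeg]
      by_cases hχ : χ = principalIrr G
      · subst hχ
        obtain ⟨n', -, hn'⟩ := irr_exists_degree (principalIrr G : IrrCharacter G).2
        have hd1 : (deg (principalIrr G) : ℂ) = 1 := by rw [← hdeg]; rfl
        rw [if_pos rfl, if_pos rfl]
        push_cast
        rw [hd1]; ring
      · rw [if_neg hχ, if_neg (Ne.symm hχ)]
        push_cast; ring
    rw [Finset.sum_congr rfl (fun χ _ => hcoef χ), ← Int.cast_sum, Int.cast_eq_zero,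
      Finset.sum_add_distrib, Finset.sum_ite_eq', if_pos (Finset.mem_filter.mpr
        ⟨Finset.mem_univ _, CfsgLib.Blocks.principalIrr_mem hM⟩)] at hz
    have hS : ∑ χ ∈ S, m 1 χ * (deg χ : ℤ) =
        (if a ∈ S then A else 0) + (if b ∈ S then Bd else 0) := by
      rw [← Finset.univ_inter S, ← Finset.sum_ite_mem]
      rw [Finset.sum_eq_add a b hab (fun χ _ hχ => by rw [ho χ hχ, zero_mul, ite_self])
        (fun h => absurd (Finset.mem_univ _) h) (fun h => absurd (Finset.mem_univ _) h)]
      simp only [Finset.univ_inter, hA, hBd]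
    rw [hS] at hz
    by_cases haS : a ∈ S <;> by_cases hbS : b ∈ S
    · exact ⟨(Finset.mem_filter.mp haS).2, (Finset.mem_filter.mp hbS).2⟩
    all_goals simp only [haS, hbS, if_true, if_false] at hz; omega
  -- the value at the involution
  set e : ℂ := ((m 1 a : ℤ) : ℂ) with he
  have he2 : e * e = 1 := by rcases hea with h | h <;> simp [he, h]
  have hce : conj e = e := by rw [he, map_intCast]
  set Q : C → ℂ := fun g => e * (a : G → ℂ) g with hQ
  have ha0 : a ≠ principalIrr G := fun h => by
    rw [h, hm0 1 (by decide)] at hea; omega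
  have hb0 : b ≠ principalIrr G := fun h => by
    rw [h, hm0 1 (by decide)] at heb; omega
  have ha1 : classInner (1 : G → ℂ) (a : G → ℂ) = 0 :=
    classInner_irr_ne (principalIrr G).2 a.2 fun h => ha0 (Subtype.ext h).symm
  have hQc : IsClassFunction C Q := fun g h => by
    simp only [hQ, Subgroup.coe_mul, Subgroup.coe_inv, irr_isClassFunction a (g : G) (h : G)]
  have hQI : ∀ (f : C → ℂ) (c : ℤ), classInner (indFun C f - 1) (a : G → ℂ) = c →
      classInner Q f = e * c := by
    intro f c h
    rw [classInner_sub_left, ha1, sub_zero, CfsgLib.Induction.classInner_indFun C f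
      (irr_isClassFunction a)] at h
    rw [show Q = e • (fun g : C => (a : G → ℂ) g) from rfl, classInner_smul_left,
      CfsgLib.Induction.classInner_swap, h, map_intCast]
  have hQθ : classInner Q X.θ = 1 := by
    rw [hQI X.θ (n a) (hn a), hna]; exact he2
  have hQM : ∀ j : Fin 4, j ≠ 0 → classInner Q (X.M (D.q j)) = if j = 1 then 1 else 0 := by
    intro j hj
    rw [hQI _ (m j a) (hm j a)]
    by_cases hj1 : j = 1
    · subst hj1; rw [if_pos rfl]; exact he2
    · rw [if_neg hj1, horth j hj hj1, Int.cast_zero, mul_zero]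
  have hQout : ∀ k : IrrCharacter K, k ∉ principalBlock M' K →
      ∑ y : C, (if 2 ∣ orderOf y then 0 else Q (X.z * y) * conj ((k : K → ℂ) (X.π y))) = 0 := by
    intro k hk
    subst hC
    let ξ : IrrCharacter (Subgroup.centralizer ({u} : Set G)) :=
      ⟨_, CfsgLib.Clifford.isIrrCharacter_pullback k.2 X.π X.surj⟩
    have h := sum_section_eq_zero hM hiso.1 hblk.1 (X.pullback_not_mem hM hk (ξ := ξ) fun _ => rfl)
    refine Eq.trans (Eq.trans ?_ (congrArg (fun t => e * t) h)) (mul_zero e)
    simp only [Finset.mul_sum]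
    refine Finset.sum_congr rfl fun y _ => ?_
    split_ifs
    · rw [mul_zero]
    · simp only [hQ, Subgroup.coe_mul, hXz, mul_assoc]
      rfl
  set B := D.q 1 1 with hB
  have hau : e * (a : G → ℂ) u = B := by
    rw [hB, ← X.value_z D hQc hQθ hQM hQout, hQ, ← hXz]
  set e' : ℂ := ((m 1 b : ℤ) : ℂ) with he'
  have he'2 : e' * e' = 1 := by rcases heb with h | h <;> simp [he', h]
  have hexp : ∀ g : G, I 1 g = 1 + e * (a : G → ℂ) g + e' * (b : G → ℂ) g := by
    intro g
    have h := congrFun (classFunction_eq_sum (isClassFunction_of_isGeneralizedCharacter (hgr 1))) g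
    simp only [Pi.sub_apply, Pi.one_apply, Finset.sum_apply, Pi.smul_apply, smul_eq_mul, hm 1] at h
    rw [Finset.sum_eq_add a b hab (fun χ _ hχ => by rw [ho χ hχ, Int.cast_zero, zero_mul])
      (fun h => absurd (Finset.mem_univ _) h) (fun h => absurd (Finset.mem_univ _) h)] at h
    linear_combination h
  have hIu : I 1 u = 2 * (1 + B) := by
    simp only [hI]
    rw [← hXz, indFun_eq_of_even (hcM 1) hTI (by rw [X.z_order]), X.M_z]
  have hbu : e' * (b : G → ℂ) u = 1 + B := by
    have := hexp u
    rw [hIu, hau] at this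
    linear_combination -this
  -- the class equation
  have hsum : ∑ h : G, (if IsConj u h then I 1 (h * u) else 0) = 0 := by
    refine Finset.sum_eq_zero fun h _ => ?_
    split_ifs with hh
    · refine indFun_eq_zero_of_odd (fun h hh => X.M_odd _ hh) ?_
      rw [← even_iff_two_dvd, Nat.not_even_iff_odd]
      exact Isolated.odd_orderOf_mul hiso hh (IsConj.refl u)
    · rfl
  simp only [hexp, ite_add_zero, Finset.sum_add_distrib] at hsum
  have hidx : (((Subgroup.centralizer ({u} : Set G)).index : ℕ) : ℂ) ≠ 0 :=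
    Nat.cast_ne_zero.mpr Subgroup.index_ne_zero_of_finite
  have s0 := CfsgLib.Blocks.sum_isConj_mul (principalIrr G) u u
  simp only [principalIrr_apply, centralChar, mul_one, div_one] at s0
  have sab : ∀ (χ : IrrCharacter G) (c : ℂ), (∑ h : G, if IsConj u h then c * (χ : G → ℂ) (h * u) else 0) =
      c * (centralChar (χ : G → ℂ) u * (χ : G → ℂ) u) := by
    intro χ c
    rw [← CfsgLib.Blocks.sum_isConj_mul χ u u, Finset.mul_sum]
    exact Finset.sum_congr rfl fun h _ => by split_ifs <;> simp
  rw [sab, sab, s0] at hsum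
  simp only [centralChar, hdeg] at hsum
  have hda : (deg a : ℂ) ≠ 0 := Nat.cast_ne_zero.mpr (hdeg0 a).ne'
  have hdb : (deg b : ℂ) ≠ 0 := Nat.cast_ne_zero.mpr (hdeg0 b).ne'
  set x := (a : G → ℂ) u
  set y := (b : G → ℂ) u
  have hAB' : e * (deg a : ℂ) + e' * (deg b : ℂ) = -1 := by
    rw [he, he']; exact_mod_cast hAB
  have hsum' : 1 * ((deg a : ℂ) * deg b) + e * (x * x) * deg b + e' * (y * y) * deg a = 0 := by
    field_simp at hsum
    refine (mul_eq_zero.mp (?_ : (((Subgroup.centralizer ({u} : Set G)).index : ℕ) : ℂ) * _ = 0)).resolve_left hidx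
    linear_combination hsum
  have hkey : (e * (deg a : ℂ) - e * x) * (e * (deg a : ℂ) - e * x) = 0 := by
    have e1 : (e * x) * (e * x) * (e' * deg b) + (e' * y) * (e' * y) * (e * deg a) +
        (e * deg a) * (e' * deg b) = 0 := by
      linear_combination (e * e') * hsum'
    rw [hau, hbu] at e1
    rw [hau]
    linear_combination -e1 + (B * B + (e * (deg a : ℂ))) * hAB'
  have hxeq : x = (deg a : ℂ) := by
    have := mul_self_eq_zero.mp hkey
    linear_combination (-e) * this + ((deg a : ℂ) - x) * he2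
  obtain ⟨k, ρ, hρ, hρa⟩ := a.2
  refine ⟨ρ.ker, MonoidHom.normal_ker ρ, fun htop => ?_, MonoidHom.mem_ker.mpr ?_⟩
  · have hconst : (a : G → ℂ) = (deg a : ℂ) • (1 : G → ℂ) := by
      funext g
      have hg : g ∈ ρ.ker := htop ▸ Subgroup.mem_top g
      simp only [Pi.smul_apply, Pi.one_apply, smul_eq_mul, mul_one, ← hdeg, ← hρa,
        Representation.character, MonoidHom.mem_ker.mp hg, map_one]
    have h := ha1
    rw [hconst, classInner_smul_right, h11, mul_one, Complex.conj_natCast] at h
    exact hda h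
  · refine (char_eq_degree_iff ρ u).mp ?_
    have h1 : ρ.character 1 = (deg a : ℂ) := by rw [hρa, hdeg]
    rw [← ρ.char_one, h1, hρa]
    exact hxeq

/-- Brauer and Suzuki for quaternion Sylow 2-subgroups of order eight. -/
theorem quat_eight (hK : PrincipalConstant.{u}) {u : G} (hiso : IsIsolatedInvolution u)
    (S : Sylow 2 G) (hS : Nat.card (S : Subgroup G) = 8) (hcyc : ¬ IsCyclic (S : Subgroup G))
    (huS : u ∈ S) (hone : ∀ t ∈ (S : Subgroup G), orderOf t = 2 → t = u) :
    HasNormalPComplement 2 G ∨ ∃ N : Subgroup G, N.Normal ∧ N ≠ ⊤ ∧ u ∈ N := by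
  classical
  set C := Subgroup.centralizer ({u} : Set G) with hC
  letI := Fintype.ofFinite C
  have hle : (S : Subgroup G) ≤ C := by
    intro g hg
    have h := hone (g * u * g⁻¹) (mul_mem (mul_mem hg huS) (inv_mem hg))
      ((orderOf_conj_eq g u).trans hiso.1)
    exact Subgroup.mem_centralizer_singleton_iff.mpr (mul_inv_eq_iff_eq_mul.mp h)
  have huC : u ∈ C := Subgroup.mem_centralizer_singleton_iff.mpr rfl
  set z : C := ⟨u, huC⟩
  have hz : orderOf z = 2 := by rw [Subgroup.orderOf_mk]; exact hiso.1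
  have hzu : ∀ t : C, orderOf t = 2 → t = z := by
    intro t ht
    rw [← Subgroup.orderOf_coe] at ht
    obtain ⟨c, hc⟩ := exists_conj_le_sylow (isPGroup_two_zpowers ht) S
    have h := hone _ (hc _ (Subgroup.mem_zpowers _)) ((orderOf_conj_eq c _).trans ht)
    refine Subtype.ext (Isolated.eq_of_commute hiso (IsConj.refl u) (isConj_iff.mpr ⟨c⁻¹, ?_⟩) ?_)
    · rw [← h]; group
    · exact (Subgroup.mem_centralizer_singleton_iff.mp t.2).symm
  haveI : (Subgroup.zpowers z).Normal := by
    refine ⟨fun x hx g => ?_⟩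
    have hzc : ∀ g : C, g * z = z * g := fun g => by
      exact mul_inv_eq_iff_eq_mul.mp (hzu _ ((orderOf_conj_eq g z).trans hz))
    obtain ⟨k, rfl⟩ := hx
    have h : Commute g z := hzc g
    rw [(h.zpow_right k).eq, mul_inv_cancel_right]
    exact Subgroup.zpow_mem_zpowers z k
  letI : Fintype (C ⧸ Subgroup.zpowers z) := Fintype.ofFinite _
  let X : QuatSetup C (C ⧸ Subgroup.zpowers z) :=
    { S := S.subtype hle
      z := z
      π := QuotientGroup.mk' _
      card_S := by
        rw [← hS]; exact Nat.card_congr (Subgroup.subgroupOfEquivOfLe hle).toEquiv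
      not_cyclic := fun h => hcyc
        ((Subgroup.subgroupOfEquivOfLe hle).isCyclic.mp h)
      z_order := hz
      z_unique := hzu
      surj := QuotientGroup.mk'_surjective _
      ker_eq := QuotientGroup.ker_mk' _ }
  obtain ⟨M, hM⟩ := CfsgLib.Blk4.Modular.exists_isPModular 2 Nat.prime_two
  rcases X.dichotomy hK hM with h | ⟨⟨D⟩⟩
  · left
    refine CfsgLib.Transfer.hasNormalPComplement_of_frobeniusCond ?_
    refine CfsgLib.Transfer.frobeniusCond_of_le_sylow S fun Q hQ g hg hc => ?_
    rw [Subgroup.mem_centralizer_iff]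
    intro q hq
    by_cases hq1 : q = 1
    · simp [hq1]
    obtain ⟨j, hj⟩ := S.2 ⟨q, hQ hq⟩
    obtain ⟨i, -, hi⟩ := (Nat.dvd_prime_pow Nat.prime_two).mp
      (orderOf_dvd_of_pow_eq_one (G := G) (x := q) (n := 2 ^ j) (by simpa using congrArg Subtype.val hj))
    have huQ : u ∈ Q := by
      have hev : 2 ∣ orderOf q := by
        rcases i with _ | i
        · exact absurd (orderOf_eq_one_iff.mp (by simpa using hi)) hq1
        · exact ⟨2 ^ i, by rw [hi, pow_succ']⟩
      have h2 := orderOf_pow_orderOf_div (orderOf_pos q).ne' hev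
      rw [← hone _ (pow_mem (hQ hq) _) h2]
      exact pow_mem hq _
    have hgC : g ∈ C := by
      have h := hone (g * u * g⁻¹) (hQ ((Subgroup.mem_normalizer_iff.mp hg u).mp huQ))
        ((orderOf_conj_eq g u).trans hiso.1)
      exact Subgroup.mem_centralizer_singleton_iff.mpr (mul_inv_eq_iff_eq_mul.mp h)
    have hQC : Q ≤ C := hQ.trans hle
    have hn : (⟨g, hgC⟩ : C) ∈ Subgroup.normalizer (Q.subgroupOf C : Set C) := by
      rw [Subgroup.mem_normalizer_iff]
      intro x
      exact Subgroup.mem_normalizer_iff.mp hg x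
    have hQ2 : IsPGroup 2 (Q.subgroupOf C) :=
      ((S.2.to_le hQ)).comap_of_injective C.subtype C.subtype_injective
    have hcc := X.frobeniusCond h (Q.subgroupOf C) hQ2 ⟨g, hgC⟩ hn (by rwa [Subgroup.orderOf_mk])
    exact congrArg Subtype.val (Subgroup.mem_centralizer_iff.mp hcc ⟨q, hQC hq⟩ hq)
  · exact Or.inr (quat_eight_core hiso rfl X rfl hM D)

end Global

end CfsgLib.Involutions
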