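import Mathlib
import Cfsg.Prelude.Def_Transfer
import Cfsg.Agent.Lib.Involutions.Basic
import Cfsg.Agent.Lib.Involutions.Fusion
import Cfsg.Agent.Lib.Transfer.NormalComplement
import Cfsg.Agent.Lib.Characters.Generalized
import Cfsg.Agent.Lib.Characters.Induction
import Cfsg.Agent.Lib.Characters.Values
import Cfsg.Agent.Lib.Blocks.WeakOrth
import Cfsg.Agent.Lib.Characters.Monomial

/-!
Groups with a generalized quaternion Sylow 2-subgroup: local structure and the exceptional
characters (Brauer–Suzuki).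
-/

set_option autoImplicit false

namespace CfsgLib.Involutions

open Cfsg CfsgLib.Characters
open scoped ComplexConjugate commutatorElement

universe u

/-- A generalized quaternion Sylow 2-subgroup with its standard generators. -/
structure LargeQuat (G : Type u) [Group G] where
  S : Sylow 2 G
  a : G
  x : G
  k : ℕ
  two_le : 2 ≤ k
  k_pow : ∃ j, k = 2 ^ j
  a_mem : a ∈ S
  x_mem : x ∈ S
  card_S : Nat.card (S : Subgroup G) = 4 * k
  a_order : orderOf a = 2 * k
  x_inv : x * a * x⁻¹ = a⁻¹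
  x_sq : x * x = a ^ k
  cases : ∀ s ∈ (S : Subgroup G), s ∈ Subgroup.zpowers a ∨ x⁻¹ * s ∈ Subgroup.zpowers a

namespace LargeQuat

variable {G : Type u} [Group G] [Finite G] (X : LargeQuat G)

/-- The cyclic subgroup of index two. -/
def A : Subgroup G := Subgroup.zpowers X.a

/-- The commutator subgroup of the Sylow subgroup. -/
def D : Subgroup G := Subgroup.zpowers (X.a ^ 2)

/-- The standard data of an isomorphism with a quaternion group. -/
theorem exists_of_equiv (S : Sylow 2 G) (n : ℕ)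
    (e : (S : Subgroup G) ≃* QuaternionGroup (2 ^ (n + 1))) :
    ∃ Y : LargeQuat G, Y.S = S ∧ Y.k = 2 ^ (n + 1) ∧ ⁅(S : Subgroup G), (S : Subgroup G)⁆ = Y.D := by
  have : NeZero (2 ^ (n + 1)) := ⟨by positivity⟩
  set a : G := ((e.symm (QuaternionGroup.a 1) : (S : Subgroup G)) : G) with ha
  set x : G := ((e.symm (QuaternionGroup.xa 0) : (S : Subgroup G)) : G) with hx
  have hpow : ∀ i : ZMod (2 * 2 ^ (n + 1)),
      ((e.symm (QuaternionGroup.a i) : (S : Subgroup G)) : G) = a ^ i.val := by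
    intro i
    rw [ha, ← Subgroup.coe_pow, ← map_pow, QuaternionGroup.a_one_pow, ZMod.natCast_zmod_val]
  have hinv : x * a * x⁻¹ = a⁻¹ := by
    rw [mul_inv_eq_iff_eq_mul, ha, hx]
    rw [← Subgroup.coe_inv, ← Subgroup.coe_mul, ← Subgroup.coe_mul, ← map_inv e.symm, ← map_mul,
      ← map_mul]
    congr 2
    show QuaternionGroup.xa 0 * QuaternionGroup.a 1 =
      QuaternionGroup.a (-1) * QuaternionGroup.xa (0 : ZMod (2 * 2 ^ (n + 1)))
    rw [QuaternionGroup.xa_mul_a, QuaternionGroup.a_mul_xa]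
    simp
  let Y : LargeQuat G :=
    { S := S
      a := a
      x := x
      k := 2 ^ (n + 1)
      two_le := by rw [pow_succ]; have := Nat.one_le_two_pow (n := n); omega
      k_pow := ⟨_, rfl⟩
      a_mem := (e.symm _).2
      x_mem := (e.symm _).2
      card_S := by
        rw [Nat.card_congr e.toEquiv, Nat.card_eq_fintype_card, QuaternionGroup.card]
      a_order := by
        rw [ha, Subgroup.orderOf_coe, MulEquiv.orderOf_eq, QuaternionGroup.orderOf_a_one]
      x_inv := hinv
      x_sq := by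
        rw [hx, ← Subgroup.coe_mul, ← map_mul, QuaternionGroup.xa_mul_xa, ha, ← Subgroup.coe_pow,
          ← map_pow, QuaternionGroup.a_one_pow]
        simp
      cases := fun s hs => by
        obtain ⟨q, hq⟩ : ∃ q, e ⟨s, hs⟩ = q := ⟨_, rfl⟩
        have hs' : s = ((e.symm q : (S : Subgroup G)) : G) := by rw [← hq, e.symm_apply_apply]
        rcases q with i | i
        · left
          rw [hs', hpow]
          exact Subgroup.npow_mem_zpowers _ _
        · right
          have : QuaternionGroup.xa i = QuaternionGroup.xa 0 * QuaternionGroup.a i := by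
            rw [QuaternionGroup.xa_mul_a, zero_add]
          rw [hs', this, map_mul, Subgroup.coe_mul, ← hx, inv_mul_cancel_left, hpow]
          exact Subgroup.npow_mem_zpowers _ _ }
  refine ⟨Y, rfl, rfl, le_antisymm ?_ ?_⟩
  · rw [Subgroup.commutator_le]
    intro p hp q hq
    obtain ⟨j, hj⟩ : ∃ j : ZMod (2 * 2 ^ (n + 1)),
        ⁅e ⟨p, hp⟩, e ⟨q, hq⟩⁆ = QuaternionGroup.a (2 * j) := by
      generalize e ⟨p, hp⟩ = P
      generalize e ⟨q, hq⟩ = Q
      rcases P with i | i <;> rcases Q with j | j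
      · refine ⟨0, ?_⟩
        rw [mul_zero, QuaternionGroup.a_zero, commutatorElement_eq_one_iff_mul_comm,
          QuaternionGroup.a_mul_a, QuaternionGroup.a_mul_a, add_comm i j]
      · refine ⟨i, ?_⟩
        rw [commutatorElement_def]
        change QuaternionGroup.a i * QuaternionGroup.xa j * QuaternionGroup.a (-i) *
          QuaternionGroup.xa (((2 ^ (n + 1) : ℕ) : ZMod (2 * 2 ^ (n + 1))) + j) = _
        rw [QuaternionGroup.a_mul_xa, QuaternionGroup.xa_mul_a, QuaternionGroup.xa_mul_xa]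
        have h2 : ((2 ^ (n + 1) : ℕ) : ZMod (2 * 2 ^ (n + 1))) + (2 ^ (n + 1) : ℕ) = 0 := by
          rw [← Nat.cast_add, ← two_mul, ZMod.natCast_self]
        congr 1
        linear_combination h2
      · refine ⟨-j, ?_⟩
        rw [commutatorElement_def]
        change QuaternionGroup.xa i * QuaternionGroup.a j * QuaternionGroup.xa (((2 ^ (n + 1) : ℕ) : ZMod (2 * 2 ^ (n + 1))) + i) *
          QuaternionGroup.a (-j) = _
        rw [QuaternionGroup.xa_mul_a, QuaternionGroup.xa_mul_xa, QuaternionGroup.a_mul_a]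
        have h2 : ((2 ^ (n + 1) : ℕ) : ZMod (2 * 2 ^ (n + 1))) + (2 ^ (n + 1) : ℕ) = 0 := by
          rw [← Nat.cast_add, ← two_mul, ZMod.natCast_self]
        congr 1
        linear_combination h2
      · refine ⟨j - i, ?_⟩
        rw [commutatorElement_def]
        change QuaternionGroup.xa i * QuaternionGroup.xa j * QuaternionGroup.xa (((2 ^ (n + 1) : ℕ) : ZMod (2 * 2 ^ (n + 1))) + i) *
          QuaternionGroup.xa (((2 ^ (n + 1) : ℕ) : ZMod (2 * 2 ^ (n + 1))) + j) = _
        rw [QuaternionGroup.xa_mul_xa, QuaternionGroup.a_mul_xa, QuaternionGroup.xa_mul_xa]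
        have h2 : ((2 ^ (n + 1) : ℕ) : ZMod (2 * 2 ^ (n + 1))) + (2 ^ (n + 1) : ℕ) = 0 := by
          rw [← Nat.cast_add, ← two_mul, ZMod.natCast_self]
        congr 1
        linear_combination h2
    refine ⟨(j.val : ℤ), ?_⟩
    have := congrArg (fun t => ((e.symm t : (S : Subgroup G)) : G)) hj
    simp only [commutatorElement_def, map_mul, map_inv, e.symm_apply_apply, Subgroup.coe_mul,
      Subgroup.coe_inv] at this
    rw [commutatorElement_def, this]
    change (a ^ 2) ^ ((j.val : ℕ) : ℤ) = _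
    rw [zpow_natCast, ← pow_mul]
    rw [ha, ← Subgroup.coe_pow, ← map_pow, QuaternionGroup.a_one_pow, Nat.cast_mul, Nat.cast_ofNat,
      ZMod.natCast_zmod_val]
  · refine Subgroup.zpowers_le.mpr ?_
    have h := Subgroup.commutator_mem_commutator (g₁ := x) (g₂ := a) (e.symm _).2 (e.symm _).2
      (H₁ := (S : Subgroup G)) (H₂ := (S : Subgroup G))
    rw [commutatorElement_def, hinv] at h
    simpa [pow_two] using inv_mem h

theorem k_pos : 0 < X.k := by have := X.two_le; omega

theorem a_sq_order : orderOf (X.a ^ 2) = X.k := by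
  rw [orderOf_pow' _ two_ne_zero, X.a_order, Nat.gcd_eq_right (dvd_mul_right _ _),
    Nat.mul_div_cancel_left _ two_pos]

theorem card_D : Nat.card X.D = X.k := by rw [D, Nat.card_zpowers, X.a_sq_order]

theorem card_A : Nat.card X.A = 2 * X.k := by rw [A, Nat.card_zpowers, X.a_order]

theorem A_le : X.A ≤ (X.S : Subgroup G) := Subgroup.zpowers_le.mpr X.a_mem

theorem x_conj_zpow (i : ℤ) : X.x * X.a ^ i * X.x⁻¹ = X.a ^ (-i) := by
  rw [← conj_zpow, X.x_inv, inv_zpow, zpow_neg]

theorem x_inv_conj_zpow (i : ℤ) : X.x⁻¹ * X.a ^ i * X.x = X.a ^ (-i) := by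
  rw [show X.x⁻¹ * X.a ^ i * X.x = X.x⁻¹ * (X.x * X.a ^ (-i) * X.x⁻¹) * X.x by
    rw [X.x_conj_zpow, neg_neg]]
  group

theorem a_zpow_eq_one {i : ℤ} : X.a ^ i = 1 ↔ (2 * (X.k : ℤ)) ∣ i := by
  rw [← orderOf_dvd_iff_zpow_eq_one, X.a_order]; push_cast; rfl

theorem x_not_mem : X.x ∉ X.A := by
  rintro ⟨i, hi⟩
  have h := X.x_inv
  rw [show X.x = X.a ^ i from hi.symm, show X.a ^ i * X.a * (X.a ^ i)⁻¹ = X.a by group] at h
  have h2 : X.a ^ (2 : ℤ) = 1 := by
    rw [zpow_two]; nth_rw 2 [h]; exact mul_inv_cancel _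
  have h3 := Int.le_of_dvd two_pos (X.a_zpow_eq_one.mp h2)
  have := X.two_le
  omega

theorem sq_of_not_mem {s : G} (hs : s ∈ (X.S : Subgroup G)) (hA : s ∉ X.A) : s * s = X.a ^ X.k := by
  rcases X.cases s hs with h | ⟨i, hi⟩
  · exact absurd h hA
  · have hs' : s = X.x * X.a ^ i := by rw [show X.a ^ i = X.x⁻¹ * s from hi, mul_inv_cancel_left]
    rw [hs', ← X.x_sq]
    calc X.x * X.a ^ i * (X.x * X.a ^ i) = X.x * X.x * (X.x⁻¹ * X.a ^ i * X.x) * X.a ^ i := by group
      _ = X.x * X.x := by rw [X.x_inv_conj_zpow, mul_assoc, ← zpow_add, neg_add_cancel, zpow_zero, mul_one]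

/-- The involution. -/
theorem z_order : orderOf (X.a ^ X.k) = 2 := by
  rw [orderOf_pow' _ X.k_pos.ne', X.a_order, Nat.gcd_eq_right (dvd_mul_left _ _),
    Nat.mul_div_cancel _ X.k_pos]

theorem sylow_unique {s : G} (hs : s ∈ (X.S : Subgroup G)) (h2 : orderOf s = 2) : s = X.a ^ X.k := by
  by_cases hA : s ∈ X.A
  · obtain ⟨i, rfl⟩ := hA
    change X.a ^ i = _
    have h := mul_self_eq_one h2
    change X.a ^ i * X.a ^ i = 1 at h
    rw [← zpow_add, X.a_zpow_eq_one, ← two_mul, mul_dvd_mul_iff_left two_ne_zero] at h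
    obtain ⟨c, rfl⟩ := h
    rcases Int.even_or_odd c with ⟨d, rfl⟩ | ⟨d, rfl⟩
    · exfalso
      refine ne_one_of_involution h2 ?_
      change X.a ^ _ = 1
      rw [X.a_zpow_eq_one]
      exact ⟨d, by ring⟩
    · rw [← zpow_natCast, ← mul_inv_eq_one, ← zpow_sub, X.a_zpow_eq_one]
      exact ⟨d, by ring⟩
  · have h := X.sq_of_not_mem hs hA
    rw [mul_self_eq_one h2] at h
    exact absurd h.symm (ne_one_of_involution X.z_order)

theorem eq_one_or_of_central {s : G} (hs : s ∈ (X.S : Subgroup G)) (hx : Commute s X.x)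
    (ha : Commute s X.a) : s = 1 ∨ s = X.a ^ X.k := by
  by_cases hA : s ∈ X.A
  · obtain ⟨i, rfl⟩ := hA
    change Commute (X.a ^ i) X.x at hx
    have h := X.x_conj_zpow i
    rw [← hx.eq, mul_inv_cancel_right] at h
    have h2 : X.a ^ i * X.a ^ i = 1 := by nth_rw 1 [h]; rw [← zpow_add, neg_add_cancel, zpow_zero]
    by_cases h1 : X.a ^ i = 1
    · exact Or.inl h1
    · exact Or.inr (X.sylow_unique hs (orderOf_eq_two_iff_mul.mpr ⟨h1, h2⟩))
  · exfalso
    rcases X.cases s hs with h | ⟨i, hi⟩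
    · exact hA h
    · have hs' : s = X.x * X.a ^ i := by rw [show X.a ^ i = X.x⁻¹ * s from hi, mul_inv_cancel_left]
      have h : Commute X.x X.a := by
        have := ha.mul_left ((Commute.refl X.a).zpow_left (-i))
        rwa [hs', mul_assoc, ← zpow_add, add_neg_cancel, zpow_zero, mul_one] at this
      have h' := X.x_inv
      rw [h.eq, mul_inv_cancel_right] at h'
      have h2 : X.a ^ (2 : ℤ) = 1 := by rw [zpow_two]; nth_rw 2 [h']; exact mul_inv_cancel _
      have := Int.le_of_dvd two_pos (X.a_zpow_eq_one.mp h2)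
      have := X.two_le
      omega

include X in
theorem eq_of_commute {s t : G} (hs : orderOf s = 2) (ht : orderOf t = 2) (h : Commute s t) :
    s = t := by
  obtain ⟨j, -, hj⟩ := (Nat.dvd_prime_pow Nat.prime_two).mp (show orderOf (s * t) ∣ 2 ^ 1 by
    refine orderOf_dvd_of_pow_eq_one ?_
    rw [pow_one, h.mul_pow, pow_two, pow_two, mul_self_eq_one hs, mul_self_eq_one ht, one_mul])
  obtain ⟨c, hc⟩ := exists_conj_le_sylow (isPGroup_two_closure_pair hs ht hj) X.S
  have e1 := X.sylow_unique (hc s (Subgroup.subset_closure (Set.mem_insert _ _)))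
    ((orderOf_conj_eq c s).trans hs)
  have e2 := X.sylow_unique (hc t (Subgroup.subset_closure (Set.mem_insert_of_mem _ rfl)))
    ((orderOf_conj_eq c t).trans ht)
  exact mul_left_cancel (mul_right_cancel (e1.trans e2.symm))

include X in
theorem odd_mul {s t : G} (hs : orderOf s = 2) (ht : orderOf t = 2) : Odd (orderOf (s * t)) := by
  by_contra hne
  obtain ⟨h2, h3, h4⟩ := central_involution hs ht (Nat.not_odd_iff_even.mp hne)
  have := (X.eq_of_commute h2 hs h3).symm.trans (X.eq_of_commute h2 ht h4)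
  rw [this, mul_self_eq_one ht, orderOf_one] at hne
  exact hne odd_one

theorem mem_centralizer {g : G} :
    g ∈ Subgroup.centralizer (X.D : Set G) ↔ g * X.a ^ 2 = X.a ^ 2 * g := by
  rw [D, Subgroup.zpowers_eq_closure, Subgroup.centralizer_closure,
    Subgroup.mem_centralizer_singleton_iff]

theorem A_le_centralizer : X.A ≤ Subgroup.centralizer (X.D : Set G) :=
  Subgroup.zpowers_le.mpr (X.mem_centralizer.mpr ((Commute.refl X.a).pow_right 2).eq)

theorem a_sq_mem {w : G} (hw : w ∈ X.A) (hk : X.k ∣ orderOf w) : X.a ^ 2 ∈ Subgroup.zpowers w := by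
  obtain ⟨i, rfl⟩ := mem_powers_iff_mem_zpowers.mpr hw
  dsimp only at hk ⊢
  by_cases hi : i = 0
  · subst hi
    rw [pow_zero, orderOf_one, Nat.dvd_one] at hk
    have := X.two_le
    omega
  rw [orderOf_pow' _ hi, X.a_order] at hk
  set g := Nat.gcd (2 * X.k) i with hg
  have hg2 : g ∣ 2 := by
    obtain ⟨c, hc⟩ := hk
    have hgd : g * (2 * X.k / g) = 2 * X.k := Nat.mul_div_cancel' (Nat.gcd_dvd_left _ _)
    rw [hc] at hgd
    refine ⟨c, ?_⟩
    have : X.k * (g * c) = X.k * 2 := by linarith [hgd]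
    exact (Nat.eq_of_mul_eq_mul_left X.k_pos this).symm
  obtain ⟨c, hc⟩ := hg2
  have hb := Nat.gcd_eq_gcd_ab (2 * X.k) i
  refine ⟨Nat.gcdB (2 * X.k) i * c, ?_⟩
  change (X.a ^ i) ^ _ = _
  rw [← zpow_natCast X.a i, ← zpow_mul, ← zpow_natCast X.a 2, ← mul_inv_eq_one, ← zpow_sub,
    X.a_zpow_eq_one]
  refine ⟨-(Nat.gcdA (2 * X.k) i * c), ?_⟩
  have : ((2 : ℕ) : ℤ) = (g : ℤ) * c := by exact_mod_cast hc
  rw [this, hg]
  push_cast at hb ⊢
  linear_combination -(c : ℤ) * hb

section Big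

variable (hk : 4 ∣ X.k)
include hk

theorem mem_A_of_order {s : G} (hs : s ∈ (X.S : Subgroup G)) (h : orderOf s = 2 * X.k) : s ∈ X.A := by
  by_contra hA
  have h4 : s ^ 4 = 1 := by
    rw [show s ^ 4 = (s * s) * (s * s) by simp [pow_succ, mul_assoc], X.sq_of_not_mem hs hA,
      mul_self_eq_one X.z_order]
  have := Nat.le_of_dvd (by norm_num) (h ▸ orderOf_dvd_of_pow_eq_one h4)
  obtain ⟨c, hc⟩ := hk
  have := X.k_pos
  omega

theorem x_not_centralizer : X.x ∉ Subgroup.centralizer (X.D : Set G) := by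
  intro h
  rw [X.mem_centralizer] at h
  have h' := X.x_conj_zpow 2
  rw [zpow_two, ← pow_two, h, mul_inv_cancel_right, ← zpow_natCast, ← mul_inv_eq_one, ← zpow_sub,
    X.a_zpow_eq_one] at h'
  have := Int.le_of_dvd (by norm_num) h'
  obtain ⟨c, hc⟩ := hk
  have := X.k_pos
  omega

theorem mem_A_of_centralizer {s : G} (hs : s ∈ (X.S : Subgroup G))
    (h : s ∈ Subgroup.centralizer (X.D : Set G)) : s ∈ X.A := by
  rcases X.cases s hs with hA | ⟨i, hi⟩
  · exact hA
  · exfalso
    apply X.x_not_centralizer hk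
    have hs' : X.x = s * (X.a ^ i)⁻¹ := by rw [show X.a ^ i = X.x⁻¹ * s from hi]; group
    rw [hs']
    exact mul_mem h (inv_mem (zpow_mem (X.A_le_centralizer (Subgroup.mem_zpowers X.a)) i))

theorem two_subgroup_eq {T : Subgroup G} (hT : IsPGroup 2 T) (hAT : X.A ≤ T)
    (hTC : T ≤ Subgroup.centralizer (X.D : Set G)) : T = X.A := by
  refine le_antisymm (fun t ht => ?_) hAT
  obtain ⟨c, hc⟩ := exists_conj_le_sylow hT X.S
  have hca : c * X.a * c⁻¹ ∈ X.A := X.mem_A_of_order hk (hc _ (hAT (Subgroup.mem_zpowers _)))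
    ((orderOf_conj_eq c X.a).trans X.a_order)
  have hgen : Subgroup.zpowers (c * X.a * c⁻¹) = X.A :=
    Subgroup.eq_of_le_of_card_ge (Subgroup.zpowers_le.mpr hca)
      (by rw [X.card_A, Nat.card_zpowers, orderOf_conj_eq, X.a_order])
  obtain ⟨i, hi⟩ : X.a ∈ Subgroup.zpowers (c * X.a * c⁻¹) := by
    rw [hgen]; exact Subgroup.mem_zpowers X.a
  have hcomm : Commute (c * t * c⁻¹) (c * X.a ^ 2 * c⁻¹) := by
    have h := X.mem_centralizer.mp (hTC ht)
    calc c * t * c⁻¹ * (c * X.a ^ 2 * c⁻¹) = c * (t * X.a ^ 2) * c⁻¹ := by group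
      _ = c * X.a ^ 2 * c⁻¹ * (c * t * c⁻¹) := by rw [h]; group
  have hct : c * t * c⁻¹ ∈ X.A := by
    refine X.mem_A_of_centralizer hk (hc t ht) (X.mem_centralizer.mpr ?_)
    have h2 : X.a ^ 2 = (c * X.a ^ 2 * c⁻¹) ^ i := by
      change (c * X.a * c⁻¹) ^ i = X.a at hi
      rw [← conj_pow, ← zpow_natCast (c * X.a * c⁻¹) 2, ← zpow_mul, mul_comm, zpow_mul, hi, zpow_natCast]
    rw [h2]
    exact (hcomm.zpow_right i).eq
  rw [← hgen] at hct
  obtain ⟨j, hj⟩ := hct
  change (c * X.a * c⁻¹) ^ j = c * t * c⁻¹ at hj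
  rw [conj_zpow] at hj
  exact ⟨j, mul_left_cancel (mul_right_cancel hj)⟩

theorem exists_sylow_centralizer :
    ∃ T : Sylow 2 (Subgroup.centralizer (X.D : Set G)),
      ∀ c : Subgroup.centralizer (X.D : Set G), c ∈ T ↔ (c : G) ∈ X.A := by
  set C := Subgroup.centralizer (X.D : Set G)
  have hA2 : IsPGroup 2 (X.A.subgroupOf C) :=
    ((X.S.2.to_le X.A_le)).comap_of_injective C.subtype C.subtype_injective
  obtain ⟨T, hT⟩ := hA2.exists_le_sylow
  refine ⟨T, fun c => ⟨fun hc => ?_, fun hc => hT hc⟩⟩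
  have h := X.two_subgroup_eq hk (T := (T : Subgroup C).map C.subtype) (T.2.map _)
    (fun g hg => ⟨⟨g, X.A_le_centralizer hg⟩, hT hg, rfl⟩) (Subgroup.map_subtype_le _)
  rw [← h]
  exact Subgroup.mem_map_of_mem _ hc

theorem centralizer_complement :
    ¬ 2 ∣ Nat.card (pResidual 2 (Subgroup.centralizer (X.D : Set G))) := by
  set C := Subgroup.centralizer (X.D : Set G)
  obtain ⟨T, hT⟩ := X.exists_sylow_centralizer hk
  have hcyc : IsCyclic (T : Subgroup C) := by
    have hTA : (T : Subgroup C) = Subgroup.zpowers ⟨X.a, X.A_le_centralizer (Subgroup.mem_zpowers _)⟩ := by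
      ext c
      refine (hT c).trans ⟨fun ⟨i, hi⟩ => ⟨i, Subtype.ext hi⟩, fun ⟨i, hi⟩ => ⟨i, ?_⟩⟩
      exact congrArg Subtype.val hi
    rw [hTA]; infer_instance
  have heven : 2 ∣ Nat.card C :=
    (dvd_mul_right 2 X.k).trans (X.card_A ▸ Subgroup.card_dvd_of_le X.A_le_centralizer)
  refine CfsgLib.Transfer.hasNormalPComplement_iff.mp
    (CfsgLib.Transfer.hasNormalPComplement_of_normalizer_le T ?_)
  exact IsCyclic.normalizer_le_centralizer ((Nat.minFac_eq_two_iff _).mpr heven) hcyc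

/-- The odd part `K` of the centralizer. -/
theorem exists_decomp {c : G} (hc : c ∈ Subgroup.centralizer (X.D : Set G)) :
    ∃ κ ∈ (pResidual 2 (Subgroup.centralizer (X.D : Set G))).map
      (Subgroup.centralizer (X.D : Set G)).subtype, ∃ i : ℤ, c = κ * X.a ^ i := by
  set C := Subgroup.centralizer (X.D : Set G)
  obtain ⟨T, hT⟩ := X.exists_sylow_centralizer hk
  haveI : (pResidual 2 C).Normal := CfsgLib.Transfer.pResidual_normal
  have hcomp := CfsgLib.Transfer.isComplement'_of_coprime (pResidual 2 C) (X.centralizer_complement hk)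
    (CfsgLib.Transfer.isPGroup_quotient_of_pResidual_le _ le_rfl) T
  obtain ⟨⟨⟨κ, hκ⟩, ⟨t, ht⟩⟩, h⟩ := hcomp.2 ⟨c, hc⟩
  obtain ⟨i, hi⟩ := (hT t).mp ht
  exact ⟨κ, ⟨κ, hκ, rfl⟩, i, by rw [show X.a ^ i = (t : G) from hi]; exact congrArg Subtype.val h.symm⟩

theorem x_normalizer : X.x ∈ Subgroup.normalizer (X.D : Set G) := by
  rw [Subgroup.mem_normalizer_iff]
  intro g
  constructor
  · rintro ⟨i, rfl⟩
    refine ⟨-i, ?_⟩
    change (X.a ^ 2) ^ (-i) = X.x * (X.a ^ 2) ^ i * X.x⁻¹
    rw [← zpow_natCast, ← zpow_mul, ← zpow_mul, X.x_conj_zpow]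
    ring_nf
  · rintro ⟨i, hi⟩
    refine ⟨-i, ?_⟩
    change (X.a ^ 2) ^ i = X.x * g * X.x⁻¹ at hi
    change (X.a ^ 2) ^ (-i) = g
    rw [show g = X.x⁻¹ * (X.x * g * X.x⁻¹) * X.x by group, ← hi, ← zpow_natCast, ← zpow_mul,
      ← zpow_mul, X.x_inv_conj_zpow]
    ring_nf

theorem sylow_le_normalizer : (X.S : Subgroup G) ≤ Subgroup.normalizer (X.D : Set G) := by
  intro s hs
  have hA : X.A ≤ Subgroup.normalizer (X.D : Set G) :=
    X.A_le_centralizer.trans (Subgroup.centralizer_le_normalizer _)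
  rcases X.cases s hs with h | h
  · exact hA h
  · rw [← mul_inv_cancel_left X.x s]
    exact mul_mem (X.x_normalizer hk) (hA h)

theorem mem_normalizer_cases {g : G} (hg : g ∈ Subgroup.normalizer (X.D : Set G)) :
    g ∈ Subgroup.centralizer (X.D : Set G) ∨ X.x⁻¹ * g ∈ Subgroup.centralizer (X.D : Set G) := by
  set N := Subgroup.normalizer (X.D : Set G)
  set C := Subgroup.centralizer (X.D : Set G)
  have hCn : (C.subgroupOf N).Normal := by
    rw [← Subgroup.normalizerMonoidHom_ker]; infer_instance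
  have hidx : (C.subgroupOf N).index ∣ X.k.totient := by
    rw [← Subgroup.normalizerMonoidHom_ker, Subgroup.index_ker]
    have hcyc : IsCyclic X.D := inferInstanceAs (IsCyclic (Subgroup.zpowers (X.a ^ 2)))
    rw [← X.card_D, ← IsCyclic.card_mulAut (G := X.D)]
    exact Subgroup.card_subgroup_dvd_card _
  have hsup : C.subgroupOf N ⊔ (X.S : Subgroup G).subgroupOf N = ⊤ := by
    rw [← Subgroup.index_eq_one]
    have h1 := Subgroup.index_dvd_of_le (le_sup_left : C.subgroupOf N ≤
      C.subgroupOf N ⊔ (X.S : Subgroup G).subgroupOf N)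
    have h2 := Subgroup.index_dvd_of_le (le_sup_right : (X.S : Subgroup G).subgroupOf N ≤
      C.subgroupOf N ⊔ (X.S : Subgroup G).subgroupOf N)
    have h3 : ((X.S : Subgroup G).subgroupOf N).index ∣ (X.S : Subgroup G).index :=
      Subgroup.relIndex_dvd_index_of_le (X.sylow_le_normalizer hk)
    obtain ⟨j, hj⟩ := X.k_pow
    have hj1 : 1 ≤ j := by
      rcases j with _ | j
      · have := X.two_le; rw [hj] at this; norm_num at this
      · omega
    rw [hj, Nat.totient_prime_pow Nat.prime_two hj1] at hidx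
    norm_num at hidx
    exact Nat.eq_one_of_dvd_coprimes (Nat.Coprime.pow_left _
      ((Nat.prime_two.coprime_iff_not_dvd).mpr X.S.not_dvd_index)) (h1.trans hidx) (h2.trans h3)
  obtain ⟨c, hc, s, hs, h⟩ := Subgroup.mem_sup_of_normal_left.mp
    (hsup ▸ Subgroup.mem_top (⟨g, hg⟩ : N))
  have hg' : (c : G) * s = g := congrArg Subtype.val h
  rcases X.cases s hs with h' | h'
  · left
    rw [← hg']
    exact mul_mem hc (X.A_le_centralizer h')
  · right
    have hconj := hCn.conj_mem c hc (⟨X.x, X.x_normalizer hk⟩⁻¹)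
    rw [← hg', show X.x⁻¹ * ((c : G) * s) = X.x⁻¹ * c * X.x * (X.x⁻¹ * s) by group]
    refine mul_mem ?_ (X.A_le_centralizer h')
    simpa [Subgroup.mem_subgroupOf] using hconj

theorem normalizer_conj_centralizer {g c : G} (hg : g ∈ Subgroup.normalizer (X.D : Set G))
    (hc : c ∈ Subgroup.centralizer (X.D : Set G)) : g * c * g⁻¹ ∈ Subgroup.centralizer (X.D : Set G) := by
  have hCn : ((Subgroup.centralizer (X.D : Set G)).subgroupOf
      (Subgroup.normalizer (X.D : Set G))).Normal := by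
    rw [← Subgroup.normalizerMonoidHom_ker]; infer_instance
  exact hCn.conj_mem ⟨c, Subgroup.centralizer_le_normalizer _ hc⟩ hc ⟨g, hg⟩

/-- S0842. -/
theorem structure_normalizer :
    ∃ K : Subgroup G, Odd (Nat.card K) ∧ K ≤ Subgroup.centralizer (X.D : Set G) ∧
      Subgroup.normalizer (X.D : Set G) ≤ Subgroup.normalizer (K : Set G) ∧
      K ⊔ (X.S : Subgroup G) = Subgroup.normalizer (X.D : Set G) ∧
      K ⊔ ((X.S : Subgroup G) ⊓ Subgroup.centralizer (X.D : Set G)) =
        Subgroup.centralizer (X.D : Set G) ∧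
      ((Subgroup.centralizer (X.D : Set G)).subgroupOf (Subgroup.normalizer (X.D : Set G))).index = 2 := by
  set C := Subgroup.centralizer (X.D : Set G)
  set N := Subgroup.normalizer (X.D : Set G)
  refine ⟨(pResidual 2 C).map C.subtype, ?_, Subgroup.map_subtype_le _, ?_, ?_, ?_, ?_⟩
  · rw [Subgroup.card_subtype, ← Nat.not_even_iff_odd, even_iff_two_dvd]
    exact X.centralizer_complement hk
  · intro g hg
    have key : ∀ g ∈ N, ∀ z ∈ (pResidual 2 C).map C.subtype,
        g * z * g⁻¹ ∈ (pResidual 2 C).map C.subtype := by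
      rintro g hg z ⟨w, hw, rfl⟩
      let φ : C →* C :=
        { toFun := fun c => ⟨g * c * g⁻¹, X.normalizer_conj_centralizer hk hg c.2⟩
          map_one' := Subtype.ext (by simp)
          map_mul' := fun p q => Subtype.ext (by simp [mul_assoc]) }
      exact ⟨φ w, CfsgLib.Transfer.map_pResidual_le φ ⟨w, hw, rfl⟩, rfl⟩
    rw [Subgroup.mem_normalizer_iff]
    intro z
    refine ⟨key g hg z, fun h => ?_⟩
    have := key g⁻¹ (inv_mem hg) _ h
    simpa [mul_assoc] using this
  · refine le_antisymm (sup_le ((Subgroup.map_subtype_le _).trans (Subgroup.centralizer_le_normalizer _))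
      (X.sylow_le_normalizer hk)) fun g hg => ?_
    rcases X.mem_normalizer_cases hk hg with h | h <;> obtain ⟨κ, hκ, i, hi⟩ := X.exists_decomp hk h
    · rw [hi]
      exact mul_mem (Subgroup.mem_sup_left hκ)
        (Subgroup.mem_sup_right (X.A_le (Subgroup.zpow_mem_zpowers _ i)))
    · rw [← mul_inv_cancel_left X.x g, hi]
      exact mul_mem (Subgroup.mem_sup_right X.x_mem) (mul_mem (Subgroup.mem_sup_left hκ)
        (Subgroup.mem_sup_right (X.A_le (Subgroup.zpow_mem_zpowers _ i))))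
  · refine le_antisymm (sup_le (Subgroup.map_subtype_le _) inf_le_right) fun g hg => ?_
    obtain ⟨κ, hκ, i, hi⟩ := X.exists_decomp hk hg
    rw [hi]
    exact mul_mem (Subgroup.mem_sup_left hκ) (Subgroup.mem_sup_right
      ⟨X.A_le (Subgroup.zpow_mem_zpowers _ i), X.A_le_centralizer (Subgroup.zpow_mem_zpowers _ i)⟩)
  · rw [Subgroup.index_eq_two_iff]
    refine ⟨⟨X.x, X.x_normalizer hk⟩, fun b => ?_⟩
    simp only [Subgroup.mem_subgroupOf, Subgroup.coe_mul]
    by_cases hb : (b : G) ∈ C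
    · exact Or.inr ⟨hb, fun h => X.x_not_centralizer hk ((C.mul_mem_cancel_left hb).mp h)⟩
    · refine Or.inl ⟨?_, hb⟩
      have h := (X.mem_normalizer_cases hk b.2).resolve_left hb
      have hx2 : X.x * X.x ∈ C := by
        rw [X.x_sq]; exact X.A_le_centralizer (Subgroup.npow_mem_zpowers _ _)
      have := mul_mem (X.normalizer_conj_centralizer hk (X.x_normalizer hk) h) hx2
      simpa [mul_assoc] using this

/-- Elements of `C` of order divisible by `|D|` have `D` among their powers. -/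
theorem D_le_zpowers {y : G} (hy : y ∈ Subgroup.centralizer (X.D : Set G))
    (hd : X.k ∣ orderOf y) : X.D ≤ Subgroup.zpowers y := by
  set C := Subgroup.centralizer (X.D : Set G)
  obtain ⟨j, m, hm, hjm⟩ := Nat.exists_eq_two_pow_mul_odd (orderOf_pos y).ne'
  have hw : orderOf (⟨y, hy⟩ ^ m : C) = 2 ^ j := by
    rw [orderOf_pow' _ hm.pos.ne', Subgroup.orderOf_mk, hjm,
      Nat.gcd_eq_right (dvd_mul_left _ _), Nat.mul_div_cancel _ hm.pos]
  have hkj : X.k ∣ 2 ^ j := by
    refine Nat.Coprime.dvd_of_dvd_mul_right ?_ (hjm ▸ hd)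
    obtain ⟨i, hi⟩ := X.k_pow
    rw [hi]
    exact Nat.Coprime.pow_left i (Nat.coprime_two_left.mpr hm)
  obtain ⟨T, hT⟩ := X.exists_sylow_centralizer hk
  obtain ⟨c, hc⟩ := exists_conj_le_sylow (T := Subgroup.zpowers (⟨y, hy⟩ ^ m : C))
    (IsPGroup.of_card (n := j) (by rw [Nat.card_zpowers, hw])) T
  have hcw := (hT _).mp (hc _ (Subgroup.mem_zpowers _))
  obtain ⟨i, hi⟩ := X.a_sq_mem hcw (by
    rw [Subgroup.orderOf_coe, orderOf_conj_eq, hw]; exact hkj)
  refine Subgroup.zpowers_le.mpr ⟨(m : ℤ) * i, ?_⟩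
  change _ = X.a ^ 2
  change ((c * ⟨y, hy⟩ ^ m * c⁻¹ : C) : G) ^ i = X.a ^ 2 at hi
  simp only [Subgroup.coe_mul, Subgroup.coe_inv, Subgroup.coe_pow, conj_zpow] at hi
  have hcc := X.mem_centralizer.mp c.2
  change y ^ ((m : ℤ) * i) = _
  rw [zpow_mul, zpow_natCast]
  exact mul_right_cancel (mul_left_cancel
    (show (c : G) * ((y ^ m) ^ i * (c : G)⁻¹) = c * (X.a ^ 2 * (c : G)⁻¹) by
      rw [← mul_assoc, hi, ← mul_assoc, hcc, mul_inv_cancel_right]))

/-- An element conjugating a special element into `C` normalizes `D`. -/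
theorem mem_normalizer_of_conj {g y : G} (hy : y ∈ Subgroup.centralizer (X.D : Set G))
    (hd : X.k ∣ orderOf y) (hg : g * y * g⁻¹ ∈ Subgroup.centralizer (X.D : Set G)) :
    g ∈ Subgroup.normalizer (X.D : Set G) := by
  classical
  letI := Fintype.ofFinite G
  have h1 := X.D_le_zpowers hk hy hd
  have h2 := X.D_le_zpowers hk hg (by rwa [orderOf_conj_eq])
  set z := g * y * g⁻¹ with hz
  have hsub : X.D.map (MulAut.conj g).toMonoidHom ≤ Subgroup.zpowers z := by
    refine (Subgroup.map_mono h1).trans (le_of_eq ?_)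
    rw [MonoidHom.map_zpowers]; rfl
  have key : ∀ H : Subgroup G, H ≤ Subgroup.zpowers z → Nat.card H = X.k →
      H.subgroupOf (Subgroup.zpowers z) = X.D.subgroupOf (Subgroup.zpowers z) := by
    have hset : ∀ H : Subgroup G, H ≤ Subgroup.zpowers z → Nat.card H = X.k →
        Finset.univ.filter (fun w : Subgroup.zpowers z => w ∈ H.subgroupOf (Subgroup.zpowers z)) =
          Finset.univ.filter (fun w : Subgroup.zpowers z => w ^ X.k = 1) := by
      intro H hH hcard
      refine Finset.eq_of_subset_of_card_le ?_ ?_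
      · intro w hw
        simp only [Finset.mem_filter, Finset.mem_univ, true_and, Subgroup.mem_subgroupOf] at hw ⊢
        refine Subtype.ext ?_
        rw [Subgroup.coe_pow, Subgroup.coe_one, ← hcard]
        exact congrArg Subtype.val (pow_card_eq_one' (x := (⟨(w : G), hw⟩ : H)))
      · refine le_of_le_of_eq (IsCyclic.card_pow_eq_one_le X.k_pos) ?_
        rw [← Fintype.card_subtype, ← Nat.card_eq_fintype_card]
        exact hcard.symm.trans (Nat.card_congr (Subgroup.subgroupOfEquivOfLe hH).toEquiv).symm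
    intro H hH hcard
    have h := (hset H hH hcard).trans (hset X.D h2 X.card_D).symm
    ext w
    simpa using Finset.ext_iff.mp h w
  have hcardmap : Nat.card (X.D.map (MulAut.conj g).toMonoidHom) = X.k := by
    rw [Subgroup.card_map_of_injective (MulAut.conj g).injective, X.card_D]
  have heq : X.D.map (MulAut.conj g).toMonoidHom = X.D := by
    have := key _ hsub hcardmap
    have h' := Subgroup.subgroupOf_inj.mp this
    rwa [inf_eq_left.mpr hsub, inf_eq_left.mpr h2] at h' 
  rw [Subgroup.mem_normalizer_iff]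
  intro w
  constructor
  · intro hw
    rw [← heq]
    exact ⟨w, hw, rfl⟩
  · intro hw
    rw [← heq] at hw
    obtain ⟨v, hv, hvw⟩ := hw
    have : v = w := by simpa using hvw
    exact this ▸ hv

end Big

end LargeQuat

/-- A generalized character of norm two: two irreducible constituents with signs. -/
theorem exists_two_of_norm_two {G : Type u} [Group G] [Fintype G] {r : G → ℂ}
    (h : IsGeneralizedCharacter G r) (h2 : classInner r r = 2) :
    ∃ (a b : IrrCharacter G) (e e' : ℤ), a ≠ b ∧ (e = 1 ∨ e = -1) ∧ (e' = 1 ∨ e' = -1) ∧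
      r = (e : ℂ) • (a : G → ℂ) + (e' : ℂ) • (b : G → ℂ) := by
  classical
  have hc := isClassFunction_of_isGeneralizedCharacter h
  choose m hm using (isGeneralizedCharacter_iff.1 h).2
  have hexp : r = ∑ χ : IrrCharacter G, (m χ : ℂ) • (χ : G → ℂ) := by
    conv_lhs => rw [classFunction_eq_sum hc]
    simp only [hm]
  rw [classInner_self_eq_sum_sq hc hm] at h2
  have hsum : ∑ χ, m χ ^ 2 = 2 := by exact_mod_cast h2
  let s := Finset.univ.filter fun χ : IrrCharacter G => m χ ≠ 0
  have hs : ∑ χ ∈ s, m χ ^ 2 = 2 := by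
    rw [← hsum]
    exact Finset.sum_subset (Finset.subset_univ _) (fun χ _ hχ => by simpa [s] using hχ)
  have hsq : ∀ χ ∈ s, m χ = 1 ∨ m χ = -1 := by
    intro χ hχ
    have hle : m χ ^ 2 ≤ 2 := hs ▸ Finset.single_le_sum (fun _ _ => sq_nonneg _) hχ
    have hne : m χ ≠ 0 := (Finset.mem_filter.1 hχ).2
    have h3 : m χ ≤ 1 := by nlinarith
    have h4 : -1 ≤ m χ := by nlinarith
    omega
  have hcard : s.card = 2 := by
    rw [Finset.sum_congr rfl (fun χ hχ => show m χ ^ 2 = 1 by rcases hsq χ hχ with h | h <;> simp [h]),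
      Finset.sum_const, nsmul_one] at hs
    exact_mod_cast hs
  obtain ⟨a, b, hab, hsab⟩ := Finset.card_eq_two.1 hcard
  refine ⟨a, b, m a, m b, hab, hsq a (hsab ▸ Finset.mem_insert_self a _),
    hsq b (hsab ▸ Finset.mem_insert_of_mem (Finset.mem_singleton_self b)), ?_⟩
  rw [hexp, ← Finset.sum_subset (Finset.subset_univ s), hsab, Finset.sum_pair hab]
  intro χ _ hχ
  rw [show m χ = 0 by simpa [s] using hχ, Int.cast_zero, zero_smul]

namespace LargeQuat

variable {G : Type u} [Group G] [Fintype G] (X : LargeQuat G)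

include X in
/-- The two exceptional characters. -/
theorem exceptional (hk : 4 ∣ X.k) :
    ∃ χ₁ χ₂ : IrrCharacter G, χ₁ ≠ principalIrr G ∧ χ₂ ≠ principalIrr G ∧
      (χ₁ : G → ℂ) 1 = (χ₂ : G → ℂ) 1 + 1 ∧
      ∀ g : G, ¬ 4 ∣ orderOf g → (χ₁ : G → ℂ) g - (χ₂ : G → ℂ) g = 1 := by
  classical
  set C := Subgroup.centralizer (X.D : Set G) with hC
  letI : Fintype C := Fintype.ofFinite C
  set R := pResidual 2 C with hR
  haveI : R.Normal := CfsgLib.Transfer.pResidual_normal
  set ac : C := ⟨X.a, X.A_le_centralizer (Subgroup.mem_zpowers _)⟩ with hac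
  set g₀ : C ⧸ R := QuotientGroup.mk' R ac with hg₀
  have hdec : ∀ c : C, ∃ i : ℤ, QuotientGroup.mk' R c = g₀ ^ i := by
    intro c
    obtain ⟨κ, ⟨w, hw, rfl⟩, i, hi⟩ := X.exists_decomp hk c.2
    refine ⟨i, ?_⟩
    have h1 : QuotientGroup.mk' R w = 1 := (QuotientGroup.eq_one_iff w).mpr hw
    rw [show c = w * ac ^ i from Subtype.ext hi, map_mul, map_zpow, h1, one_mul]
  have hgen : ∀ q : C ⧸ R, q ∈ Subgroup.zpowers g₀ := by
    intro q
    obtain ⟨c, rfl⟩ := QuotientGroup.mk'_surjective R q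
    obtain ⟨i, hi⟩ := hdec c
    exact ⟨i, hi.symm⟩
  have hord : orderOf g₀ = 2 * X.k := by
    refine Nat.dvd_antisymm ?_ ?_
    · rw [← X.a_order, show orderOf X.a = orderOf ac by rw [hac, Subgroup.orderOf_mk]]
      exact orderOf_map_dvd _ _
    · set d := orderOf g₀
      have h1 : ac ^ d ∈ R := (QuotientGroup.eq_one_iff _).mp (by
        rw [← QuotientGroup.mk'_apply, map_pow]; exact pow_orderOf_eq_one g₀)
      have hodd : ¬ 2 ∣ orderOf (ac ^ d) :=
        fun h => X.centralizer_complement hk (h.trans (Subgroup.orderOf_dvd_natCard _ h1))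
      have h2 : orderOf (ac ^ d) ∣ 2 * X.k := by
        rw [← X.a_order, show orderOf X.a = orderOf ac by rw [hac, Subgroup.orderOf_mk]]
        exact orderOf_pow_dvd d
      obtain ⟨j, hj⟩ := X.k_pow
      rw [hj, ← pow_succ'] at h2
      obtain ⟨i, -, hi⟩ := (Nat.dvd_prime_pow Nat.prime_two).mp h2
      rcases i with _ | i
      · rw [pow_zero, orderOf_eq_one_iff] at hi
        rw [← X.a_order, show orderOf X.a = orderOf ac by rw [hac, Subgroup.orderOf_mk]]
        exact orderOf_dvd_of_pow_eq_one hi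
      · exact absurd ⟨2 ^ i, by rw [hi, pow_succ']⟩ hodd
  set U : ℂˣ := Units.mk0 Complex.I Complex.I_ne_zero with hU
  have hU4 : U ^ (4 : ℕ) = 1 := Units.ext (by
    rw [Units.val_pow_eq_pow_val, hU, Units.val_mk0, Complex.I_pow_four, Units.val_one])
  have hUdvd : orderOf U ∣ orderOf g₀ := by
    rw [hord]; exact (orderOf_dvd_of_pow_eq_one hU4).trans (hk.trans (dvd_mul_left _ _))
  set Φ : C ⧸ R →* ℂˣ := monoidHomOfForallMemZpowers hgen hUdvd with hΦ
  set lam : C →* ℂ := (Units.coeHom ℂ).comp (Φ.comp (QuotientGroup.mk' R)) with hlam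
  have hval : ∀ (c : C) (i : ℤ), QuotientGroup.mk' R c = g₀ ^ i → lam c = Complex.I ^ i := by
    intro c i hi
    rw [hlam, MonoidHom.comp_apply, MonoidHom.comp_apply, hi, map_zpow, hΦ,
      monoidHomOfForallMemZpowers_apply_gen, Units.coeHom_apply, Units.val_zpow_eq_zpow_val]
    rfl
  have hlam_one : ∀ c : C, ¬ X.k ∣ orderOf c → lam c = 1 := by
    intro c hc
    obtain ⟨i, hi⟩ := hdec c
    rw [hval c i hi]
    have hd : orderOf (g₀ ^ i) ∣ orderOf c := hi ▸ orderOf_map_dvd _ c
    obtain ⟨j, hj⟩ := X.k_pow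
    have h2 : orderOf (g₀ ^ i) ∣ 2 ^ (j + 1) := by
      rw [pow_succ', ← hj, ← hord]
      refine orderOf_dvd_of_pow_eq_one ?_
      rw [← zpow_natCast, ← zpow_mul, mul_comm, zpow_mul, zpow_natCast, pow_orderOf_eq_one, one_zpow]
    obtain ⟨l, hl, hl'⟩ := (Nat.dvd_prime_pow Nat.prime_two).mp h2
    have hlj : l < j := by
      by_contra hcon
      exact hc ((hj ▸ pow_dvd_pow 2 (not_lt.mp hcon)).trans (hl' ▸ hd))
    have h3 : (g₀ ^ i) ^ (2 ^ (j - 1)) = 1 := orderOf_dvd_iff_pow_eq_one.mp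
      (hl' ▸ pow_dvd_pow 2 (by omega))
    rw [← zpow_natCast, ← zpow_mul, ← orderOf_dvd_iff_zpow_eq_one, hord, hj] at h3
    obtain ⟨c', hc'⟩ := h3
    have hi4 : (4 : ℤ) ∣ i := by
      refine ⟨c', ?_⟩
      have hpos : ((2 ^ (j - 1) : ℕ) : ℤ) ≠ 0 := by positivity
      refine mul_right_cancel₀ hpos ?_
      rw [hc', show j = j - 1 + 1 by omega, Nat.add_sub_cancel]
      push_cast
      ring
    obtain ⟨q, rfl⟩ := hi4
    rw [zpow_mul, show Complex.I ^ (4 : ℤ) = 1 by
      rw [show (4 : ℤ) = ((4 : ℕ) : ℤ) from rfl, zpow_natCast, Complex.I_pow_four], one_zpow]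
  have hxconj : ∀ c : C, ∃ hc : X.x⁻¹ * c * X.x ∈ C, lam ⟨_, hc⟩ = (lam c)⁻¹ := by
    intro c
    have hxn := inv_mem (X.x_normalizer hk)
    have hmem := X.normalizer_conj_centralizer hk hxn c.2
    rw [inv_inv] at hmem
    refine ⟨hmem, ?_⟩
    obtain ⟨i, hi⟩ := hdec c
    rw [hval c i hi, ← zpow_neg]
    refine hval _ _ ?_
    let φ : C →* C :=
      { toFun := fun c => ⟨X.x⁻¹ * c * X.x, by
          have := X.normalizer_conj_centralizer hk hxn c.2
          rwa [inv_inv] at this⟩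
        map_one' := Subtype.ext (by simp)
        map_mul' := fun p q => Subtype.ext (by simp [mul_assoc]) }
    have hφR : R ≤ R.comap φ := Subgroup.map_le_iff_le_comap.mp (CfsgLib.Transfer.map_pResidual_le φ)
    have hφa : φ ac = ac⁻¹ := Subtype.ext (by
      have := X.x_inv_conj_zpow 1
      rw [zpow_one, zpow_neg_one] at this
      simpa [φ, hac] using this)
    have hw : (ac ^ i)⁻¹ * c ∈ R := by
      rw [← QuotientGroup.eq, ← QuotientGroup.mk'_apply, ← QuotientGroup.mk'_apply, map_zpow, hi]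
    have h' : QuotientGroup.mk' R (φ ((ac ^ i)⁻¹ * c)) = 1 := (QuotientGroup.eq_one_iff _).mpr (hφR hw)
    rw [map_mul, map_inv, map_zpow, hφa, map_mul, map_inv, map_zpow, map_inv, inv_mul_eq_one] at h'
    rw [zpow_neg, ← inv_zpow]
    exact h'.symm
  have hsum : ∀ f : C →* ℂ, f ≠ 1 → ∑ c : C, f c = 0 := fun f hf => sum_hom_units_eq_zero f hf
  have hlac : lam ac = Complex.I := by rw [hval ac 1 (by rw [zpow_one]), zpow_one]
  have hne : lam ≠ 1 := fun h => by
    have := DFunLike.congr_fun h ac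
    rw [hlac, MonoidHom.one_apply] at this
    exact absurd (congrArg Complex.im this) (by simp)
  have hconj : ∀ c, conj (lam c) = (lam c)⁻¹ := by
    intro c
    obtain ⟨i, hi⟩ := hdec c
    rw [hval c i hi, map_zpow₀, Complex.conj_I, ← Complex.inv_I, inv_zpow]
  set f : C → ℂ := fun c => 1 - lam c with hf
  set τ : G → ℂ := indFun C f with hτ
  have hlamgen : IsGeneralizedCharacter C (fun c => lam c) :=
    isGeneralizedCharacter_of_isCharacter (CfsgLib.Induction.isCharacter_monoidHom lam)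
  have hfgen : IsGeneralizedCharacter C f := isGeneralizedCharacter_sub isGeneralizedCharacter_one hlamgen
  have hτgen : IsGeneralizedCharacter G τ := by
    obtain ⟨p, q, hp, hq, hpq⟩ := hfgen
    refine ⟨_, _, CfsgLib.Induction.isCharacter_indFun C hp, CfsgLib.Induction.isCharacter_indFun C hq, ?_⟩
    rw [hτ, hpq, CfsgLib.Induction.indFun_sub]
  have hτ4 : ∀ g : G, ¬ 4 ∣ orderOf g → τ g = 0 := by
    intro g hg
    rw [hτ, CfsgLib.Induction.indFun_apply, Finset.sum_eq_zero fun y _ => ?_, mul_zero]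
    by_cases hy : y⁻¹ * g * y ∈ C
    · rw [CfsgLib.Induction.extendByZero_mem C f hy, hf]
      simp only
      rw [hlam_one _ (fun h => hg (hk.trans ?_)), sub_self]
      rwa [Subgroup.orderOf_mk, show y⁻¹ * g * y = y⁻¹ * g * (y⁻¹)⁻¹ by group, orderOf_conj_eq] at h
    · exact CfsgLib.Induction.extendByZero_notMem C f hy
  have hτval : ∀ c : C, X.k ∣ orderOf c → τ c = 2 - lam c - (lam c)⁻¹ := by
    intro c hc
    have hterm : ∀ g : G, extendByZero C f (g⁻¹ * (c : G) * g) =
        (if g ∈ C then 1 - lam c else 0) + (if X.x⁻¹ * g ∈ C then 1 - (lam c)⁻¹ else 0) := by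
      intro g
      by_cases hgC : g ∈ C
      · have hx : X.x⁻¹ * g ∉ C := fun h => X.x_not_centralizer hk (by
          simpa using mul_mem hgC (inv_mem h))
        rw [if_pos hgC, if_neg hx, add_zero]
        have h := CfsgLib.Induction.extendByZero_conj C
          (isClassFunction_of_isGeneralizedCharacter hfgen) (⟨g, hgC⟩⁻¹ : C) (c : G)
        simp only [Subgroup.coe_inv, inv_inv] at h
        rw [h, CfsgLib.Induction.extendByZero_mem C f c.2]
      · rw [if_neg hgC, zero_add]
        by_cases hx : X.x⁻¹ * g ∈ C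
        · rw [if_pos hx]
          obtain ⟨hm, hv⟩ := hxconj c
          have h := CfsgLib.Induction.extendByZero_conj C
            (isClassFunction_of_isGeneralizedCharacter hfgen) (⟨_, hx⟩⁻¹ : C) (X.x⁻¹ * c * X.x)
          simp only [Subgroup.coe_inv, inv_inv] at h
          rw [show g⁻¹ * (c : G) * g = (X.x⁻¹ * g)⁻¹ * (X.x⁻¹ * c * X.x) * (X.x⁻¹ * g) by group, h,
            CfsgLib.Induction.extendByZero_mem C f hm, hf]
          simp only [hv]
        · rw [if_neg hx]
          refine CfsgLib.Induction.extendByZero_notMem C f fun hm => ?_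
          have hn := X.mem_normalizer_of_conj hk (g := g⁻¹) c.2
            (by rwa [Subgroup.orderOf_coe]) (by rwa [inv_inv])
          rcases X.mem_normalizer_cases hk (by simpa using inv_mem hn : g ∈ _) with h | h
          · exact hgC h
          · exact hx h
    rw [hτ, CfsgLib.Induction.indFun_apply, Finset.sum_congr rfl fun g _ => hterm g,
      Finset.sum_add_distrib, ← Finset.sum_filter, ← Finset.sum_filter, Finset.sum_const,
      Finset.sum_const, nsmul_eq_mul, nsmul_eq_mul]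
    have hc1 : (Finset.univ.filter fun g => g ∈ C).card = Nat.card C := by
      rw [Nat.card_eq_fintype_card, Fintype.card_subtype]
    have hc2 : (Finset.univ.filter fun g => X.x⁻¹ * g ∈ C).card = Nat.card C := by
      rw [← hc1]
      exact Finset.card_equiv (Equiv.mulLeft X.x⁻¹) (by simp)
    rw [hc1, hc2]
    have hC0 : (Nat.card C : ℂ) ≠ 0 := Nat.cast_ne_zero.mpr Nat.card_pos.ne'
    field_simp
    ring
  have h11 : classInner (1 : G → ℂ) 1 = 1 := classInner_irr_self (principalIrr G).2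
  have hC0 : (Nat.card C : ℂ) ≠ 0 := Nat.cast_ne_zero.mpr Nat.card_pos.ne'
  have hcardsum : ∑ _c : C, (1 : ℂ) = Nat.card C := by simp [Nat.card_eq_fintype_card]
  have hτ1 : classInner τ 1 = 1 := by
    rw [hτ, CfsgLib.Induction.classInner_indFun C f fun _ _ => rfl, classInner]
    simp only [hf, Pi.one_apply, map_one, mul_one, Finset.sum_sub_distrib, hsum lam hne, hcardsum,
      sub_zero]
    exact inv_mul_cancel₀ hC0
  have hττ : classInner τ τ = 3 := by
    have e : ∑ c : C, f c * conj (τ c) =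
        ∑ c : C, (3 * (1 : ℂ) - 3 * lam c - (lam c)⁻¹ + lam c * lam c) := by
      refine Finset.sum_congr rfl fun c _ => ?_
      by_cases hc : X.k ∣ orderOf c
      · rw [hτval c hc, map_sub, map_sub, map_inv₀, hconj, inv_inv, map_ofNat, hf]
        have hne0 : lam c ≠ 0 := by
          rw [hlam]; exact Units.ne_zero _
        field_simp
        ring
      · rw [show f c = 0 by simp [hf, hlam_one c hc], hlam_one c hc]
        norm_num
    let lam2 : C →* ℂ := lam * lam
    let lami : C →* ℂ := (Units.coeHom ℂ).comp ((Φ.comp (QuotientGroup.mk' R))⁻¹)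
    have hlami : ∀ c, lami c = (lam c)⁻¹ := fun c => by
      simp [lami, hlam]
    have h2 : lam2 ≠ 1 := fun h => by
      have := DFunLike.congr_fun h ac
      simp only [lam2, MonoidHom.mul_apply, hlac, Complex.I_mul_I, MonoidHom.one_apply] at this
      norm_num at this
    have hi : lami ≠ 1 := fun h => by
      have := DFunLike.congr_fun h ac
      rw [hlami, hlac, MonoidHom.one_apply, inv_eq_one] at this
      exact absurd (congrArg Complex.im this) (by simp)
    have s2 : ∑ c : C, lam c * lam c = 0 := hsum lam2 h2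
    have si : ∑ c : C, (lam c)⁻¹ = 0 := by simpa only [hlami] using hsum lami hi
    rw [hτ, CfsgLib.Induction.classInner_indFun C f (CfsgLib.Induction.isClassFunction_indFun C f),
      ← hτ, classInner, e]
    simp only [Finset.sum_add_distrib, Finset.sum_sub_distrib, ← Finset.mul_sum, hsum lam hne, s2,
      si, hcardsum, mul_zero, sub_zero, add_zero]
    field_simp
  -- the two constituents
  have hr : IsGeneralizedCharacter G (τ - 1) := isGeneralizedCharacter_sub hτgen isGeneralizedCharacter_one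
  obtain ⟨p, q, e, e', hpq, he, he', hrpq⟩ := exists_two_of_norm_two hr (by
    rw [classInner_sub_left, classInner_sub_right, classInner_sub_right, hττ, hτ1,
      CfsgLib.Induction.classInner_swap 1 τ, hτ1, map_one, h11]
    norm_num)
  obtain ⟨dp, hdp0, hdp⟩ := irr_exists_degree p.2
  obtain ⟨dq, hdq0, hdq⟩ := irr_exists_degree q.2
  have hone : (e : ℤ) * dp + e' * dq = -1 := by
    have h := congrFun hrpq 1
    rw [Pi.sub_apply, hτ4 1 (by rw [orderOf_one]; norm_num), Pi.one_apply, zero_sub, Pi.add_apply,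
      Pi.smul_apply, Pi.smul_apply, hdp, hdq, smul_eq_mul, smul_eq_mul] at h
    exact_mod_cast h.symm
  have hnp : ∀ χ : IrrCharacter G, χ = p ∨ χ = q → χ ≠ principalIrr G := by
    rintro χ hχ rfl
    have h0 : classInner (τ - 1) ((principalIrr G : IrrCharacter G) : G → ℂ) = 0 := by
      rw [show ((principalIrr G : IrrCharacter G) : G → ℂ) = 1 from rfl, classInner_sub_left, hτ1,
        h11, sub_self]
    rw [hrpq, classInner_add_left, classInner_smul_left, classInner_smul_left] at h0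
    rcases hχ with h | h <;> rw [← h, classInner_irr, classInner_irr] at h0
    · rw [if_pos rfl, if_neg (by rw [h]; exact hpq.symm)] at h0
      rcases he with rfl | rfl <;> norm_num at h0
    · rw [if_pos rfl, if_neg (by rw [h]; exact hpq)] at h0
      rcases he' with rfl | rfl <;> norm_num at h0
  have key : ∀ χ₁ χ₂ : IrrCharacter G, (χ₁ = p ∨ χ₁ = q) → (χ₂ = p ∨ χ₂ = q) →
      (∀ g, (τ - 1) g = (χ₂ : G → ℂ) g - (χ₁ : G → ℂ) g) →
      ∃ χ₁ χ₂ : IrrCharacter G, χ₁ ≠ principalIrr G ∧ χ₂ ≠ principalIrr G ∧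
        (χ₁ : G → ℂ) 1 = (χ₂ : G → ℂ) 1 + 1 ∧
        ∀ g : G, ¬ 4 ∣ orderOf g → (χ₁ : G → ℂ) g - (χ₂ : G → ℂ) g = 1 := by
    intro χ₁ χ₂ h1 h2 h
    have hd : ∀ g : G, ¬ 4 ∣ orderOf g → (χ₁ : G → ℂ) g - (χ₂ : G → ℂ) g = 1 := by
      intro g hg
      have := h g
      rw [Pi.sub_apply, hτ4 g hg, Pi.one_apply] at this
      linear_combination this
    exact ⟨χ₁, χ₂, hnp χ₁ h1, hnp χ₂ h2,
      by linear_combination hd 1 (by rw [orderOf_one]; norm_num), hd⟩
  rcases he with rfl | rfl <;> rcases he' with rfl | rfl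
  · omega
  · exact key q p (Or.inr rfl) (Or.inl rfl) fun g => by rw [hrpq]; simp [sub_eq_add_neg]
  · exact key p q (Or.inl rfl) (Or.inr rfl) fun g => by rw [hrpq]; simp [sub_eq_add_neg, add_comm]
  · omega

/-- An involution lies in the kernels of the exceptional characters. -/
theorem exists_nonabelian_quotient (hk : 4 ∣ X.k) :
    ∃ M : Subgroup G, M.Normal ∧ X.a ^ X.k ∈ M ∧ Even (Nat.card M) ∧ ¬ commutator G ≤ M := by
  classical
  obtain ⟨χ₁, χ₂, -, -, h1, hd⟩ := X.exceptional hk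
  set z := X.a ^ X.k with hz
  have hsum : ∑ h : G, ((if IsConj z h then (χ₁ : G → ℂ) (h * z) else 0) -
      (if IsConj z h then (χ₂ : G → ℂ) (h * z) else 0) -
      (if IsConj z h then ((principalIrr G : IrrCharacter G) : G → ℂ) (h * z) else 0)) = 0 := by
    refine Finset.sum_eq_zero fun h _ => ?_
    split_ifs with hh
    · rw [hd (h * z) ?_, principalIrr_apply, sub_self]
      intro h4
      have hodd := X.odd_mul ((orderOf_eq_of_isConj hh).trans X.z_order) X.z_order
      exact (Nat.not_even_iff_odd.mpr hodd) (even_iff_two_dvd.mpr ((by norm_num : 2 ∣ 4).trans h4))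
    · simp
  rw [Finset.sum_sub_distrib, Finset.sum_sub_distrib, CfsgLib.Blocks.sum_isConj_mul,
    CfsgLib.Blocks.sum_isConj_mul, CfsgLib.Blocks.sum_isConj_mul] at hsum
  have hx := hd z (by rw [X.z_order]; norm_num)
  obtain ⟨d, hd0, hdeg⟩ := irr_exists_degree χ₂.2
  rw [hdeg] at h1
  simp only [centralChar, principalIrr_apply, mul_one, div_one, h1, hdeg] at hsum
  rw [sub_eq_iff_eq_add.mp hx] at hsum
  have hidx : (((Subgroup.centralizer ({z} : Set G)).index : ℕ) : ℂ) ≠ 0 :=
    Nat.cast_ne_zero.mpr Subgroup.index_ne_zero_of_finite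
  have hd0' : (d : ℂ) ≠ 0 := Nat.cast_ne_zero.mpr hd0.ne'
  have hd1' : (d : ℂ) + 1 ≠ 0 := by exact_mod_cast Nat.succ_ne_zero d
  have hxd : (χ₂ : G → ℂ) z = d := by
    field_simp at hsum
    have h2 : ((χ₂ : G → ℂ) z - d) * ((χ₂ : G → ℂ) z - d) = 0 := by
      refine (mul_eq_zero.mp (?_ : (((Subgroup.centralizer ({z} : Set G)).index : ℕ) : ℂ) * _ = 0)).resolve_left hidx
      linear_combination -hsum
    exact sub_eq_zero.mp (mul_self_eq_zero.mp h2)
  obtain ⟨m, ρ, hρ, hρ1⟩ := χ₁.2
  have hρone : ρ.character 1 = (d : ℂ) + 1 := by rw [hρ1, h1]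
  have hzker : z ∈ ρ.ker := by
    refine MonoidHom.mem_ker.mpr ((char_eq_degree_iff ρ z).mp ?_)
    rw [← ρ.char_one, hρone, hρ1, sub_eq_iff_eq_add.mp hx, hxd]
    ring
  refine ⟨ρ.ker, MonoidHom.normal_ker ρ, hzker, ?_, fun hcomm => ?_⟩
  · rw [even_iff_two_dvd, ← X.z_order]
    exact Subgroup.orderOf_dvd_natCard _ hzker
  · have hcomm' : ∀ g h : G, ρ.character (g * h * (h * g)⁻¹) = ρ.character 1 := by
      intro g h
      have hm := MonoidHom.mem_ker.mp (hcomm (Subgroup.commutator_mem_commutator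
        (Subgroup.mem_top g) (Subgroup.mem_top h)))
      rw [commutatorElement_def] at hm
      rw [mul_inv_rev, ← mul_assoc, (char_eq_degree_iff ρ _).mpr hm, ρ.char_one]
    have : ρ.character 1 = 1 :=
      CfsgLib.CharMonomial.degree_one_of_commutator ⟨m, ρ, hρ, rfl⟩ hcomm'
    rw [hρone] at this
    exact hd0' (by linear_combination this)

end LargeQuat

end CfsgLib.Involutions
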