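import Mathlib
import Cfsg.Agent.Lib.Involutions.ZStar
import Cfsg.Agent.Lib.Involutions.QuatEight
import Cfsg.Agent.Lib.Involutions.QuatLarge
import Cfsg.Agent.Lib.TwoGroups.OneInvolution
import Cfsg.Agent.S0942

/-!
The theorem of Brauer and Suzuki and Glauberman's Z*-theorem.
-/

set_option autoImplicit false

namespace CfsgLib.Involutions

open Cfsg

universe u

theorem principalConstant : PrincipalConstant.{u} := fun G _ _ M hM x hx y hy χ hχ =>
  Cfsg.Agent.S0942.result (G := G) 2 M hM x ⟨1, by rw [hx, pow_one]⟩ y hy χ hχ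

variable {G : Type u} [Group G] [Finite G]

theorem unique_involution_of_rank_one
    (huniq : ∀ s t : G, orderOf s = 2 → orderOf t = 2 → Commute s t → s = t) {P : Subgroup G}
    (hP : IsPGroup 2 P) : ∀ a b : P, orderOf a = 2 → orderOf b = 2 → a = b := by
  intro a b ha hb
  have hnt : Nontrivial P := ⟨⟨a, 1, fun h => ne_one_of_involution ha h⟩⟩
  have hcnt := hP.center_nontrivial
  have hd : 2 ∣ Nat.card (Subgroup.center P) := by
    obtain ⟨j, hj⟩ := IsPGroup.iff_card.mp (hP.to_subgroup (Subgroup.center P))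
    rcases j with _ | j
    · rw [pow_zero] at hj
      exact absurd hj (ne_of_gt Finite.one_lt_card)
    · exact hj ▸ dvd_pow_self 2 (Nat.succ_ne_zero j)
  obtain ⟨z, hz⟩ := exists_prime_orderOf_dvd_card' (G := Subgroup.center P) 2 hd
  rw [← Subgroup.orderOf_coe] at hz
  have hzc : ∀ c : P, Commute (z : P) c := fun c =>
    (Subgroup.mem_center_iff.mp z.2 c).symm
  have key : ∀ c : P, orderOf c = 2 → (z : P) = c := by
    intro c hc
    refine Subtype.ext (huniq _ _ (by rw [Subgroup.orderOf_coe]; exact hz)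
      (by rw [Subgroup.orderOf_coe]; exact hc) ?_)
    exact congrArg Subtype.val (hzc c).eq
  exact (key a ha).symm.trans (key b hb)

theorem rank_one_subgroup
    (huniq : ∀ s t : G, orderOf s = 2 → orderOf t = 2 → Commute s t → s = t) (H : Subgroup G) :
    ∀ s t : H, orderOf s = 2 → orderOf t = 2 → Commute s t → s = t := by
  intro s t hs ht h
  refine Subtype.ext (huniq _ _ (by rw [Subgroup.orderOf_coe]; exact hs)
    (by rw [Subgroup.orderOf_coe]; exact ht) ?_)
  exact congrArg Subtype.val h.eq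

theorem rank_one_of_sylow (S : Sylow 2 G)
    (h : ∀ a b : (S : Subgroup G), orderOf a = 2 → orderOf b = 2 → a = b) :
    ∀ s t : G, orderOf s = 2 → orderOf t = 2 → Commute s t → s = t := by
  intro s t hs ht hc
  obtain ⟨j, -, hj⟩ := (Nat.dvd_prime_pow Nat.prime_two).mp (show orderOf (s * t) ∣ 2 ^ 1 by
    refine orderOf_dvd_of_pow_eq_one ?_
    rw [pow_one, hc.mul_pow, pow_two, pow_two, mul_self_eq_one hs, mul_self_eq_one ht, one_mul])
  obtain ⟨c, hcc⟩ := exists_conj_le_sylow (isPGroup_two_closure_pair hs ht hj) S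
  have := congrArg Subtype.val (h ⟨_, hcc s (Subgroup.subset_closure (Set.mem_insert _ _))⟩
    ⟨_, hcc t (Subgroup.subset_closure (Set.mem_insert_of_mem _ rfl))⟩
    (by rw [Subgroup.orderOf_mk, orderOf_conj_eq, hs]) (by rw [Subgroup.orderOf_mk, orderOf_conj_eq, ht]))
  exact mul_left_cancel (mul_right_cancel this)

/-- Brauer and Suzuki: a group generated by involutions, no two of which commute, has cyclic
Sylow 2-subgroups. -/
theorem isCyclic_sylow_of_generated
    (huniq : ∀ s t : G, orderOf s = 2 → orderOf t = 2 → Commute s t → s = t)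
    (hgen : Subgroup.closure {g : G | orderOf g = 2} = ⊤) (Q : Sylow 2 G) :
    IsCyclic (Q : Subgroup G) := by
  classical
  letI := Fintype.ofFinite G
  have h1 := unique_involution_of_rank_one huniq Q.2
  rcases CfsgLib.TwoGroups.OneInvolution.isCyclic_or_quaternion Q.2 h1 with h | ⟨m, hm, ⟨e⟩⟩
  · exact h
  exfalso
  have hconj : ∀ s t : G, orderOf s = 2 → orderOf t = 2 → IsConj s t := by
    intro s t hs ht
    obtain ⟨c, hc⟩ := exists_conj_le_sylow (isPGroup_two_zpowers hs) Q
    obtain ⟨d, hd⟩ := exists_conj_le_sylow (isPGroup_two_zpowers ht) Q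
    have := congrArg Subtype.val (h1 ⟨_, hc s (Subgroup.mem_zpowers s)⟩ ⟨_, hd t (Subgroup.mem_zpowers t)⟩
      (by rw [Subgroup.orderOf_mk, orderOf_conj_eq, hs]) (by rw [Subgroup.orderOf_mk, orderOf_conj_eq, ht]))
    have h2 : IsConj (c * s * c⁻¹) t := by
      rw [show c * s * c⁻¹ = d * t * d⁻¹ from this]; exact (isConj_iff.mpr ⟨d, rfl⟩).symm
    exact (isConj_iff.mpr ⟨c, rfl⟩).trans h2
  have htop : ∀ M : Subgroup G, M.Normal → ∀ t ∈ M, orderOf t = 2 → M = ⊤ := by
    intro M hM t htM ht
    rw [eq_top_iff, ← hgen, Subgroup.closure_le]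
    intro g hg
    obtain ⟨c, rfl⟩ := isConj_iff.mp (hconj t g ht hg)
    exact hM.conj_mem t htM c
  obtain ⟨n, rfl⟩ : ∃ n, m = n + 1 := ⟨m - 1, by omega⟩
  obtain ⟨Y, hYS, hYk, -⟩ := LargeQuat.exists_of_equiv Q n e
  have hzQ : Y.a ^ Y.k ∈ Q := hYS ▸ pow_mem Y.a_mem _
  rcases Nat.eq_zero_or_pos n with rfl | hn
  · have hcard : Nat.card (Q : Subgroup G) = 8 := by
      rw [← hYS, Y.card_S, hYk]; norm_num
    have hncyc : ¬ IsCyclic (Q : Subgroup G) := by
      intro hc
      rw [← hYS] at hc
      refine Y.x_not_mem ?_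
      haveI := hc
      have hcomm : Commute (⟨Y.x, Y.x_mem⟩ : (Y.S : Subgroup G)) ⟨Y.a, Y.a_mem⟩ :=
        IsMulCommutative.is_comm.comm _ _
      rcases Y.eq_one_or_of_central Y.x_mem (Commute.refl _) (congrArg Subtype.val hcomm.eq) with h | h
      · rw [h]; exact one_mem _
      · rw [h]; exact Subgroup.npow_mem_zpowers _ _
    have hiso : IsIsolatedInvolution (Y.a ^ Y.k) :=
      ⟨Y.z_order, fun g hg => (huniq _ _ Y.z_order ((orderOf_conj_eq g _).trans Y.z_order) hg).symm⟩
    rcases quat_eight principalConstant hiso Q hcard hncyc hzQ (fun t ht ht2 =>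
      Y.sylow_unique (hYS.symm ▸ ht) ht2) with h | ⟨N, hN, hNtop, hzN⟩
    · obtain ⟨hR⟩ : Nonempty (¬ 2 ∣ Nat.card (pResidual 2 G)) :=
        ⟨CfsgLib.Transfer.hasNormalPComplement_iff.mp h⟩
      haveI : (pResidual 2 G).Normal := CfsgLib.Transfer.pResidual_normal
      have hc := CfsgLib.Transfer.isComplement'_of_coprime (pResidual 2 G) hR
        (CfsgLib.Transfer.isPGroup_quotient_of_pResidual_le _ le_rfl) Q
      set π := QuotientGroup.mk' (pResidual 2 G)
      have hinj : ∀ q ∈ (Q : Subgroup G), π q = 1 → q = 1 := fun q hq h =>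
        Subgroup.disjoint_def.mp hc.disjoint ((QuotientGroup.eq_one_iff q).mp h) hq
      have hsur : ∀ p, ∃ q ∈ (Q : Subgroup G), π q = p := by
        intro p
        obtain ⟨g, rfl⟩ := QuotientGroup.mk'_surjective _ p
        obtain ⟨⟨⟨r, hr⟩, ⟨q, hq⟩⟩, rfl⟩ := hc.2 g
        refine ⟨q, hq, ?_⟩
        rw [map_mul, show π r = 1 from (QuotientGroup.eq_one_iff r).mpr hr, one_mul]
      have hzc : π (Y.a ^ Y.k) ∈ Subgroup.center _ := by
        rw [Subgroup.mem_center_iff]
        intro p
        obtain ⟨q, hq, rfl⟩ := hsur p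
        have hz := Y.sylow_unique (hYS.symm ▸ mul_mem (mul_mem hq hzQ) (inv_mem hq))
          ((orderOf_conj_eq q _).trans Y.z_order)
        rw [← map_mul, ← map_mul, mul_inv_eq_iff_eq_mul.mp hz]
      have hnorm : ((Subgroup.zpowers (π (Y.a ^ Y.k))).comap π).Normal := by
        haveI : (Subgroup.zpowers (π (Y.a ^ Y.k))).Normal :=
          ⟨fun p hp g => by
            rwa [Subgroup.mem_center_iff.mp (Subgroup.zpowers_le.mpr hzc hp) g, mul_inv_cancel_right]⟩
        infer_instance
      have hall := htop _ hnorm _ (Subgroup.mem_zpowers (π (Y.a ^ Y.k))) Y.z_order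
      have hle : Nat.card (Q : Subgroup G) ≤ Nat.card (Subgroup.zpowers (π (Y.a ^ Y.k))) := by
        refine Nat.card_le_card_of_injective (fun q => ⟨π q, (hall ▸ Subgroup.mem_top (q : G) :
          (q : G) ∈ (Subgroup.zpowers (π (Y.a ^ Y.k))).comap π)⟩) fun p q hpq => ?_
        have h := congrArg Subtype.val hpq
        simp only at h
        refine Subtype.ext (mul_inv_eq_one.mp (hinj _ (mul_mem p.2 (inv_mem q.2)) ?_))
        rw [map_mul, map_inv, h, mul_inv_cancel]
      have hdvd : Nat.card (Subgroup.zpowers (π (Y.a ^ Y.k))) ∣ 2 := by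
        rw [Nat.card_zpowers]
        exact orderOf_dvd_of_pow_eq_one (by rw [← map_pow, pow_two, mul_self_eq_one Y.z_order, map_one])
      have := Nat.le_of_dvd two_pos hdvd
      omega
    · exact hNtop (htop N hN _ hzN Y.z_order)
  · obtain ⟨M, hM, hzM, -, hnc⟩ := Y.exists_nonabelian_quotient (by
      rw [hYk]
      exact (show 4 ∣ 2 ^ 2 by norm_num).trans (pow_dvd_pow 2 (by omega)))
    exact hnc (htop M hM _ hzM Y.z_order ▸ le_top)

theorem closure_involutions_generated :
    Subgroup.closure {g : (Subgroup.closure {g : G | orderOf g = 2} : Subgroup G) | orderOf g = 2} = ⊤ := by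
  have h := Subgroup.closure_closure_coe_preimage (k := {g : G | orderOf g = 2})
  convert h using 2
  ext g
  simp [Subgroup.orderOf_coe]

theorem isCyclic_sylow_closure
    (huniq : ∀ s t : G, orderOf s = 2 → orderOf t = 2 → Commute s t → s = t)
    (Q : Sylow 2 (Subgroup.closure {g : G | orderOf g = 2} : Subgroup G)) :
    IsCyclic (Q : Subgroup (Subgroup.closure {g : G | orderOf g = 2} : Subgroup G)) :=
  isCyclic_sylow_of_generated (rank_one_subgroup huniq _) closure_involutions_generated Q

/-- Brauer and Suzuki: in a group of 2-rank one every involution is central modulo the core. -/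
theorem inZStar_of_rank_one
    (huniq : ∀ s t : G, orderOf s = 2 → orderOf t = 2 → Commute s t → s = t) {u : G}
    (hu : orderOf u = 2) : InZStar 2 u := by
  intro g
  haveI : (Subgroup.closure {g : G | orderOf g = 2}).Normal := by
    refine Subgroup.normalizer_eq_top_iff.mp (top_le_iff.mp fun c _ => ?_)
    rw [Subgroup.mem_normalizer_iff]
    have key : ∀ c : G, (Subgroup.closure {g : G | orderOf g = 2}).map (MulAut.conj c).toMonoidHom ≤
        Subgroup.closure {g : G | orderOf g = 2} := by
      intro c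
      rw [MonoidHom.map_closure]
      refine Subgroup.closure_mono ?_
      rintro _ ⟨t, ht, rfl⟩
      exact (orderOf_conj_eq c t).trans ht
    intro h
    refine ⟨fun hh => key c ⟨h, hh, rfl⟩, fun hh => ?_⟩
    have := key c⁻¹ ⟨_, hh, rfl⟩
    simpa [mul_assoc] using this
  set H := Subgroup.closure {g : G | orderOf g = 2}
  obtain ⟨Q⟩ : Nonempty (Sylow 2 H) := inferInstance
  have hQ := isCyclic_sylow_closure huniq Q
  have heven : 2 ∣ Nat.card H := hu ▸ Subgroup.orderOf_dvd_natCard H (Subgroup.subset_closure hu)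
  have hnc : ¬ 2 ∣ Nat.card (pResidual 2 H) := CfsgLib.Transfer.hasNormalPComplement_iff.mp
    (CfsgLib.Transfer.hasNormalPComplement_of_normalizer_le Q
      (IsCyclic.normalizer_le_centralizer ((Nat.minFac_eq_two_iff _).mpr heven) hQ))
  haveI : (pResidual 2 H).Characteristic := CfsgLib.Transfer.pResidual_characteristic
  have hle : (pResidual 2 H).map H.subtype ≤ pPrimeCore 2 G :=
    CfsgLib.PCore.le_pPrimeCore_of_not_dvd inferInstance (by rw [Subgroup.card_subtype]; exact hnc)
  set v : H := ⟨g * u * g⁻¹, Subgroup.subset_closure ((orderOf_conj_eq g u).trans hu)⟩ with hv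
  set w : H := ⟨u, Subgroup.subset_closure hu⟩ with hw
  haveI : (pResidual 2 H).Normal := CfsgLib.Transfer.pResidual_normal
  have hc := CfsgLib.Transfer.isComplement'_of_coprime (pResidual 2 H) hnc
    (CfsgLib.Transfer.isPGroup_quotient_of_pResidual_le _ le_rfl) Q
  set π := QuotientGroup.mk' (pResidual 2 H)
  have hcycq : IsCyclic (H ⧸ pResidual 2 H) := by
    haveI := hQ
    refine isCyclic_of_surjective (π.comp (Q : Subgroup H).subtype) fun p => ?_
    obtain ⟨h, rfl⟩ := QuotientGroup.mk'_surjective _ p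
    obtain ⟨⟨⟨r, hr⟩, q⟩, rfl⟩ := hc.2 h
    refine ⟨q, ?_⟩
    rw [MonoidHom.comp_apply, map_mul, show π r = 1 from (QuotientGroup.eq_one_iff r).mpr hr, one_mul]
    rfl
  have hinv : ∀ t : H, orderOf t = 2 → orderOf (π t) = 2 := by
    intro t ht
    refine orderOf_eq_two_iff_mul.mpr ⟨fun h => hnc ?_, by rw [← map_mul, mul_self_eq_one ht, map_one]⟩
    have h' : t ∈ pResidual 2 H := (QuotientGroup.eq_one_iff t).mp h
    have := Subgroup.orderOf_dvd_natCard _ h'
    rwa [ht] at this 
  have hv2 : orderOf (π v) = 2 := hinv v (by rw [Subgroup.orderOf_mk, orderOf_conj_eq, hu])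
  have hw2 : orderOf (π w) = 2 := hinv w (by rw [Subgroup.orderOf_mk, hu])
  have heq : π v = π w := by
    haveI := hcycq
    obtain ⟨γ, hγ⟩ := IsCyclic.exists_generator (α := H ⧸ pResidual 2 H)
    have hu2 : ∀ p : H ⧸ pResidual 2 H, orderOf p = 2 → Subgroup.zpowers p =
        Subgroup.zpowers (π w) := by
      classical
      intro p hp
      letI : Fintype (H ⧸ pResidual 2 H) := Fintype.ofFinite _
      have hle2 := IsCyclic.card_pow_eq_one_le (α := H ⧸ pResidual 2 H) two_pos
      by_contra hne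
      have hpw : p ≠ π w := fun h => hne (by rw [h])
      have : ({1, p, π w} : Finset (H ⧸ pResidual 2 H)).card ≤ 2 := by
        refine (Finset.card_le_card fun x hx => ?_).trans hle2
        simp only [Finset.mem_insert, Finset.mem_singleton] at hx
        refine Finset.mem_filter.mpr ⟨Finset.mem_univ _, ?_⟩
        rcases hx with rfl | rfl | rfl
        · exact one_pow 2
        · rw [pow_two, mul_self_eq_one hp]
        · rw [pow_two, mul_self_eq_one hw2]
      rw [Finset.card_insert_of_notMem, Finset.card_pair hpw] at this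
      · omega
      · simp [(ne_one_of_involution hp).symm, (ne_one_of_involution hw2).symm]
    obtain ⟨i, hi⟩ : π v ∈ Subgroup.zpowers (π w) := hu2 _ hv2 ▸ Subgroup.mem_zpowers _
    change (π w) ^ i = π v at hi
    rcases Int.even_or_odd i with ⟨j, rfl⟩ | ⟨j, rfl⟩
    · rw [← two_mul, zpow_mul, zpow_two, mul_self_eq_one hw2, one_zpow] at hi
      exact absurd hi.symm (ne_one_of_involution hv2)
    · rw [zpow_add, zpow_mul, zpow_two, mul_self_eq_one hw2, one_zpow, one_mul, zpow_one] at hi
      exact hi.symm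
  have hmem : v * w⁻¹ ∈ pResidual 2 H := by
    rw [← QuotientGroup.eq_one_iff, ← QuotientGroup.mk'_apply, map_mul, map_inv]
    change π v * (π w)⁻¹ = 1
    rw [heq, mul_inv_cancel]
  exact hle ⟨_, hmem, rfl⟩

/-- Glauberman's Z*-theorem. -/
theorem zstar : ∀ (G : Type u) [Group G] [Finite G] (u : G), IsIsolatedInvolution u → InZStar 2 u := by
  suffices h : ∀ (n : ℕ) (G : Type u) [Group G] [Finite G], Nat.card G = n → ∀ u : G,
      IsIsolatedInvolution u → InZStar 2 u from fun G _ _ u hu => h _ G rfl u hu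
  intro n
  induction n using Nat.strong_induction_on with
  | _ n ih =>
    intro G _ _ hn u hu
    have IH : ∀ (H : Type u) [Group H] [Finite H], Nat.card H < Nat.card G →
        ∀ z : H, IsIsolatedInvolution z → InZStar 2 z := fun H _ _ hlt z hz =>
      ih _ (hn ▸ hlt) H rfl z hz
    by_cases hw : ∃ w : G, orderOf w = 2 ∧ Commute u w ∧ w ≠ u
    · obtain ⟨w, hw2, hc, hne⟩ := hw
      exact zstar_step IH principalConstant hu hw2 hc hne
    · push Not at hw
      obtain ⟨P, hP⟩ := (isPGroup_two_zpowers hu.1).exists_le_sylow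
      have huP : u ∈ P := hP (Subgroup.mem_zpowers u)
      refine inZStar_of_rank_one (rank_one_of_sylow P fun a b ha hb => ?_) hu.1
      have hnt : Nontrivial (P : Subgroup G) := ⟨⟨a, 1, fun h => ne_one_of_involution ha h⟩⟩
      have hcnt := P.2.center_nontrivial
      have hd : 2 ∣ Nat.card (Subgroup.center (P : Subgroup G)) := by
        obtain ⟨j, hj⟩ := IsPGroup.iff_card.mp (P.2.to_subgroup (Subgroup.center (P : Subgroup G)))
        rcases j with _ | j
        · rw [pow_zero] at hj
          exact absurd hj (ne_of_gt Finite.one_lt_card)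
        · exact hj ▸ dvd_pow_self 2 (Nat.succ_ne_zero j)
      obtain ⟨z, hz⟩ := exists_prime_orderOf_dvd_card' (G := Subgroup.center (P : Subgroup G)) 2 hd
      rw [← Subgroup.orderOf_coe, ← Subgroup.orderOf_coe] at hz
      have hzc : ∀ c : (P : Subgroup G), Commute ((z : (P : Subgroup G)) : G) c := fun c =>
        (congrArg Subtype.val (Subgroup.mem_center_iff.mp z.2 c)).symm
      have hzu : ((z : (P : Subgroup G)) : G) = u := hw _ hz (hzc ⟨u, huP⟩).symm
      have key : ∀ c : (P : Subgroup G), orderOf c = 2 → (c : G) = u := fun c hc =>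
        hw _ (by rw [Subgroup.orderOf_coe]; exact hc) (hzu ▸ hzc c)
      exact Subtype.ext ((key a ha).trans (key b hb).symm)

/-- Brauer and Suzuki: with trivial core the centre has order two. -/
theorem card_center_of_quaternion (X : LargeQuat G)
    (hO : ∀ N : Subgroup G, N.Normal → Odd (Nat.card N) → N = ⊥) :
    Nat.card (Subgroup.center G) = 2 := by
  have hu := X.z_order
  set z := X.a ^ X.k
  have hcore : pPrimeCore 2 G = ⊥ := hO _ inferInstance (by
    rw [← Nat.not_even_iff_odd, even_iff_two_dvd]; exact CfsgLib.PCore.not_dvd_card_pPrimeCore)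
  have hz : z ∈ Subgroup.center G := mem_center_of_commutators hu fun g =>
    Subgroup.mem_bot.mp (hcore ▸ inZStar_of_rank_one (fun s t => X.eq_of_commute) hu g)
  suffices h : Subgroup.center G = Subgroup.zpowers z by rw [h, Nat.card_zpowers, hu]
  refine le_antisymm (fun c hc => ?_) (Subgroup.zpowers_le.mpr hz)
  obtain ⟨j, m, hm, hjm⟩ := Nat.exists_eq_two_pow_mul_odd (orderOf_pos c).ne'
  have h1 : c ^ (2 ^ j) = 1 := by
    rw [← Subgroup.zpowers_eq_bot]
    refine hO _ ⟨fun p hp g => ?_⟩ ?_
    · rwa [Subgroup.mem_center_iff.mp (Subgroup.zpowers_le.mpr (pow_mem hc _) hp) g,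
        mul_inv_cancel_right]
    · rw [Nat.card_zpowers, orderOf_pow' _ (by positivity), hjm,
        Nat.gcd_eq_right (dvd_mul_right _ _), Nat.mul_div_cancel_left _ (by positivity)]
      exact hm
  obtain ⟨i, -, hi⟩ := (Nat.dvd_prime_pow Nat.prime_two).mp (orderOf_dvd_of_pow_eq_one h1)
  obtain ⟨d, hd⟩ := exists_conj_le_sylow (T := Subgroup.zpowers c)
    (IsPGroup.of_card (n := i) (by rw [Nat.card_zpowers, hi])) X.S
  have hcS := hd c (Subgroup.mem_zpowers c)
  rw [Subgroup.mem_center_iff.mp hc d, mul_inv_cancel_right] at hcS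
  rcases X.eq_one_or_of_central hcS (Subgroup.mem_center_iff.mp hc X.x).symm
    (Subgroup.mem_center_iff.mp hc X.a).symm with h | h
  · rw [h]; exact one_mem _
  · rw [h]; exact Subgroup.mem_zpowers z

end CfsgLib.Involutions
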