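import Cfsg.Agent.Lib.Involutions.BrauerSuzuki
import Cfsg.Agent.Lib.Involutions.Fusion
import Cfsg.Agent.Lib.Transfer.NormalComplement
import Cfsg.Agent.Lib.TwoGroups.FusionTools

/-!
Z*-theorem for 2-elements all of whose powers are the only conjugates of themselves in a Sylow
2-subgroup.
-/

set_option autoImplicit false
set_option linter.unusedSectionVars false

namespace CfsgLib.Involutions.WCC

open Subgroup

universe u

theorem le_of_odd_quotient {G : Type u} [Group G] [Finite G] (N M : Subgroup G) [N.Normal] [M.Normal]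
    (hON : Cfsg.pPrimeCore 2 G ≤ N) (hNM : N ≤ M) (hN : Nat.card N = Nat.card (Cfsg.pPrimeCore 2 G) * 2)
    (hM : Odd (N.relIndex M)) : M ≤ N := by
  have hf : Fact (Nat.Prime 2) := ⟨Nat.prime_two⟩
  have hOodd : Odd (Nat.card (Cfsg.pPrimeCore 2 G)) := Nat.coprime_two_right.mp CfsgLib.PCore.pPrimeCore_coprime
  have hcard : Nat.card M = Nat.card (Cfsg.pPrimeCore 2 G) * N.relIndex M * 2 := by
    rw [← Nat.card_congr (subgroupOfEquivOfLe (le_refl M)).toEquiv,
      Nat.card_congr (subgroupOfEquivOfLe (le_refl M)).toEquiv, ← relIndex_bot_left M,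
      ← relIndex_mul_relIndex ⊥ N M bot_le hNM, relIndex_bot_left, hN]
    ring
  obtain ⟨P⟩ := (inferInstance : Nonempty (Sylow 2 M))
  have hP : Nat.card (P : Subgroup M) = 2 := by
    rw [P.card_eq_multiplicity, hcard, Nat.factorization_mul
      (mul_ne_zero Nat.card_pos.ne' (fun h => by simp [h] at hM)) two_ne_zero, Finsupp.add_apply,
      Nat.factorization_eq_zero_of_not_dvd (fun hd => Nat.not_even_iff_odd.mpr (hOodd.mul hM)
        (even_iff_two_dvd.mpr hd)), Nat.Prime.factorization_self Nat.prime_two]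
    rfl
  have hcyc : IsCyclic (P : Subgroup M) := isCyclic_of_prime_card hP
  have hmin : (Nat.card M).minFac = 2 := (Nat.minFac_eq_two_iff _).mpr ⟨_, hcard.trans (mul_comm _ _)⟩
  obtain ⟨Q, W, hW, hWQ⟩ := CfsgLib.Transfer.hasNormalPComplement_of_normalizer_le P
    (hcyc.normalizer_le_centralizer hmin)
  have hWodd : (Nat.card W).Coprime 2 := by
    refine Nat.coprime_two_right.mpr ?_
    rw [← hWQ.index_eq_card, Nat.odd_iff]
    have := Q.not_dvd_index
    omega
  have hWO : W.map M.subtype ≤ Cfsg.pPrimeCore 2 G := by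
    refine (Subgroup.map_mono (CfsgLib.PCore.le_pPrimeCore hW hWodd)).trans ?_
    rw [CfsgLib.PCore.map_pPrimeCore_subtype_of_normal M]
    exact inf_le_right
  intro g hg
  refine CfsgLib.TwoGroups.FT.mem_of_parts (fun d hd ho => hON ?_) (fun d hd ⟨j, hj⟩ => ?_)
  · have hdM : d ∈ M := (zpowers_le (H := M)).mpr hg hd
    refine hWO ⟨⟨d, hdM⟩, ?_, rfl⟩
    rw [SetLike.mem_coe, ← QuotientGroup.eq_one_iff, ← orderOf_eq_one_iff]
    refine Nat.eq_one_of_dvd_coprimes (a := orderOf d) (b := Nat.card (M ⧸ W)) ?_ ?_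
      (orderOf_dvd_natCard _)
    · have hidx : Nat.card (M ⧸ W) = Nat.card (Q : Subgroup M) := hWQ.symm.index_eq_card
      obtain ⟨k, hk⟩ := Q.isPGroup'.exists_card_eq
      rw [hidx, hk]
      exact Nat.Coprime.pow_right k (Nat.coprime_two_right.mpr ho)
    · rw [← Subgroup.orderOf_mk (H := M) d hdM]
      exact orderOf_map_dvd (QuotientGroup.mk' W) _
  · have hdM : d ∈ M := (zpowers_le (H := M)).mpr hg hd
    have h1 : ((⟨d, hdM⟩ : M) : M ⧸ N.subgroupOf M) = 1 := by
      rw [← orderOf_eq_one_iff]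
      refine Nat.eq_one_of_dvd_coprimes (a := 2 ^ j) (b := N.relIndex M) ?_ ?_
        (orderOf_dvd_natCard _)
      · exact Nat.Coprime.pow_left j (Nat.coprime_two_left.mpr hM)
      · refine orderOf_dvd_of_pow_eq_one ?_
        rw [← QuotientGroup.mk_pow, show (⟨d, hdM⟩ : M) ^ 2 ^ j = 1 from Subtype.ext (by simpa using hj),
          QuotientGroup.mk_one]
    exact (QuotientGroup.eq_one_iff (⟨d, hdM⟩ : M)).mp h1

theorem commutator_mem_core : ∀ (n : ℕ) (G : Type u) [Group G] [Finite G] (S : Sylow 2 G) (u : G),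
    u ∈ (S : Subgroup G) → u ^ 2 ^ n = 1 →
    (∀ (i : ℕ) (g : G), g * u ^ i * g⁻¹ ∈ (S : Subgroup G) → g * u ^ i * g⁻¹ = u ^ i) →
    ∀ g : G, g * u * g⁻¹ * u⁻¹ ∈ Cfsg.pPrimeCore 2 G := by
  have hf : Fact (Nat.Prime 2) := ⟨Nat.prime_two⟩
  intro n
  induction n with
  | zero =>
    intro G _ _ S u _ hu _ g
    simp only [pow_zero, pow_one] at hu
    simp [hu]
  | succ n ih =>
    intro G _ _ S u huS hu hiso g
    set v := u ^ 2 ^ n with hv
    by_cases hv1 : v = 1
    · exact ih G S u huS hv1 hiso g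
    have hvo : orderOf v = 2 := orderOf_eq_prime (by rw [hv, ← pow_mul, ← pow_succ, hu]) hv1
    set O := Cfsg.pPrimeCore 2 G with hOdef
    have hvz : ∀ a : G, a * v * a⁻¹ * v⁻¹ ∈ O :=
      zstar G v (isIsolated_of_sylow S hvo fun a => hiso _ a)
    have hcent : ∀ s ∈ (S : Subgroup G), Commute s u := by
      intro s hs
      have h1 : s * u ^ 1 * s⁻¹ ∈ (S : Subgroup G) := by
        rw [pow_one]; exact mul_mem (mul_mem hs huS) (inv_mem hs)
      have h2 := hiso 1 s h1
      rw [pow_one] at h2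
      exact mul_inv_eq_iff_eq_mul.mp h2
    set N := O ⊔ zpowers v with hN
    have hvS : v ∈ (S : Subgroup G) := pow_mem huS _
    have hNn : N.Normal := by
      refine ⟨fun a ha b => ?_⟩
      have hle : N ≤ N.comap (MulAut.conj b).toMonoidHom := by
        refine sup_le (fun o ho => mem_sup_left ((inferInstance : O.Normal).conj_mem o ho b))
          (zpowers_le.mpr ?_)
        show b * v * b⁻¹ ∈ N
        have := mul_mem (mem_sup_left (hvz b) : _ ∈ N) (mem_sup_right (mem_zpowers v))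
        rwa [inv_mul_cancel_right] at this
      exact hle ha
    set π := QuotientGroup.mk' N with hπ
    have hπs : Function.Surjective π := QuotientGroup.mk'_surjective N
    have hNcard : Nat.card N = Nat.card O * 2 := by
      rw [hN, ← relIndex_bot_left (O ⊔ zpowers v),
        ← relIndex_mul_relIndex ⊥ O (O ⊔ zpowers v) bot_le le_sup_left, relIndex_bot_left,
        relIndex_sup_left]
      congr 1
      have hd : O.relIndex (zpowers v) ∣ 2 := by
        have := relIndex_dvd_card O (zpowers v)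
        rwa [Nat.card_zpowers, hvo] at this
      refine ((Nat.dvd_prime Nat.prime_two).mp hd).resolve_left fun h1 => ?_
      have hvO : v ∈ O := relIndex_eq_one.mp h1 (mem_zpowers v)
      have h2 := orderOf_dvd_natCard O hvO
      rw [hvo] at h2
      exact CfsgLib.PCore.not_dvd_card_pPrimeCore h2
    have hiso' : ∀ (i : ℕ) (b : G ⧸ N), b * π u ^ i * b⁻¹ ∈ ((S.mapSurjective hπs : Sylow 2 (G ⧸ N)) :
        Subgroup (G ⧸ N)) → b * π u ^ i * b⁻¹ = π u ^ i := by
      intro i b hb
      obtain ⟨a, rfl⟩ := hπs b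
      rw [← map_pow, ← map_inv, ← map_mul, ← map_mul, Sylow.coe_mapSurjective] at hb
      rw [← map_pow, ← map_inv, ← map_mul, ← map_mul]
      obtain ⟨s, hs, hse⟩ := hb
      set w := a * u ^ i * a⁻¹ with hw
      set M := O ⊔ (S : Subgroup G) with hM
      have hwM : w ∈ M := by
        have h1 : s⁻¹ * w ∈ N := (QuotientGroup.eq).mp (show (s : G ⧸ N) = w from hse)
        have h2 : N ≤ M := sup_le le_sup_left ((zpowers_le.mpr hvS).trans le_sup_right)
        have := mul_mem (mem_sup_right hs : s ∈ M) (h2 h1)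
        rwa [mul_inv_cancel_left] at this
      have hwp : IsPGroup 2 (zpowers w) := by
        obtain ⟨j, -, hj⟩ := (Nat.dvd_prime_pow Nat.prime_two).mp
          (orderOf_dvd_of_pow_eq_one (x := w) (n := 2 ^ (n + 1)) (by
            rw [hw, conj_pow, ← pow_mul, mul_comm, pow_mul, hu]; simp))
        exact IsPGroup.of_card (n := j) (by rw [Nat.card_zpowers, hj])
      obtain ⟨m, hm, hle⟩ := CfsgLib.TwoGroups.FT.exists_conj_into S.isPGroup'
        (le_sup_right : (S : Subgroup G) ≤ M) (CfsgLib.TwoGroups.FT.sylow_relIndex_odd S le_sup_right)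
        hwp (zpowers_le.mpr hwM)
      have h3 : m * w * m⁻¹ ∈ (S : Subgroup G) :=
        hle (CfsgLib.TwoGroups.FT.conj_mem_cj (mem_zpowers w))
      have h4 := hiso i (m * a) (by
        rw [hw] at h3
        rw [show m * a * u ^ i * (m * a)⁻¹ = m * (a * u ^ i * a⁻¹) * m⁻¹ by group]
        exact h3)
      rw [show m * a * u ^ i * (m * a)⁻¹ = m * (a * u ^ i * a⁻¹) * m⁻¹ by group, ← hw] at h4
      have hcm : Commute (π (u ^ i)) (π m) := by
        obtain ⟨o, ho, t, ht, rfl⟩ := Subgroup.mem_sup_of_normal_left.mp hm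
        rw [map_mul, show π o = 1 from (QuotientGroup.eq_one_iff o).mpr (mem_sup_left ho), one_mul]
        exact (((hcent t ht).pow_right i).symm).map π
      have h5 : π m * π w * (π m)⁻¹ = π (u ^ i) := by rw [← map_inv, ← map_mul, ← map_mul, h4]
      calc π w = (π m)⁻¹ * (π m * π w * (π m)⁻¹) * π m := by group
        _ = π (u ^ i) := by rw [h5, mul_assoc, hcm.eq, inv_mul_cancel_left]
    have hmem := ih (G ⧸ N) (S.mapSurjective hπs) (π u)
      (by rw [Sylow.coe_mapSurjective]; exact ⟨u, huS, rfl⟩)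
      (by rw [← map_pow]; exact (QuotientGroup.eq_one_iff _).mpr (mem_sup_right (mem_zpowers v)))
      hiso' (π g)
    rw [← map_inv, ← map_inv, ← map_mul, ← map_mul, ← map_mul] at hmem
    set M0 := (Cfsg.pPrimeCore 2 (G ⧸ N)).comap π with hM0
    have hNM0 : N ≤ M0 := fun a ha => by
      show π a ∈ Cfsg.pPrimeCore 2 (G ⧸ N)
      rw [show π a = 1 from (QuotientGroup.eq_one_iff a).mpr ha]
      exact one_mem _
    have hrel : Odd (N.relIndex M0) := by
      have e := relIndex_comap (⊥ : Subgroup (G ⧸ N)) π M0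
      rw [MonoidHom.comap_bot, QuotientGroup.ker_mk', hM0, map_comap_eq_self_of_surjective hπs,
        relIndex_bot_left] at e
      rw [hM0, e]
      exact Nat.coprime_two_right.mp CfsgLib.PCore.pPrimeCore_coprime
    have hd : g * u * g⁻¹ * u⁻¹ ∈ N := le_of_odd_quotient N M0 le_sup_left hNM0 hNcard hrel hmem
    set d := g * u * g⁻¹ * u⁻¹ with hddef
    obtain ⟨o, ho, t, ⟨e, rfl⟩, hot⟩ := Subgroup.mem_sup_of_normal_left.mp hd
    rcases Int.even_or_odd e with ⟨l, rfl⟩ | ⟨l, rfl⟩
    · have : v ^ (l + l) = 1 := by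
        rw [← two_mul, zpow_mul, zpow_ofNat, orderOf_dvd_iff_pow_eq_one.mp (dvd_of_eq hvo), one_zpow]
      show d ∈ O
      rw [← hot, show (fun x => v ^ x) (l + l) = v ^ (l + l) from rfl, this, mul_one]
      exact ho
    · exfalso
      have hv2 : v ^ (2 * l + 1) = v := by
        rw [zpow_add_one, zpow_mul, zpow_ofNat, orderOf_dvd_iff_pow_eq_one.mp (dvd_of_eq hvo), one_zpow,
          one_mul]
      have hdv : g * u * g⁻¹ = o * (v * u) := by
        rw [← mul_assoc, ← hv2]
        calc g * u * g⁻¹ = d * u := by rw [hddef]; group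
          _ = o * v ^ (2 * l + 1) * u := by rw [← hot]
      set M := O ⊔ (S : Subgroup G) with hM
      have hwM : g * u * g⁻¹ ∈ M := by
        rw [hdv]; exact mul_mem (mem_sup_left ho) (mem_sup_right (mul_mem hvS huS))
      have hwp : IsPGroup 2 (zpowers (g * u * g⁻¹)) := by
        obtain ⟨j, -, hj⟩ := (Nat.dvd_prime_pow Nat.prime_two).mp
          (orderOf_dvd_of_pow_eq_one (x := g * u * g⁻¹) (n := 2 ^ (n + 1)) (by
            rw [conj_pow, hu]; simp))
        exact IsPGroup.of_card (n := j) (by rw [Nat.card_zpowers, hj])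
      obtain ⟨m, hm, hle⟩ := CfsgLib.TwoGroups.FT.exists_conj_into S.isPGroup'
        (le_sup_right : (S : Subgroup G) ≤ M) (CfsgLib.TwoGroups.FT.sylow_relIndex_odd S le_sup_right)
        hwp (zpowers_le.mpr hwM)
      have h3 : m * (g * u * g⁻¹) * m⁻¹ ∈ (S : Subgroup G) :=
        hle (CfsgLib.TwoGroups.FT.conj_mem_cj (mem_zpowers _))
      have h4 := hiso 1 (m * g) (by
        rw [pow_one, show m * g * u * (m * g)⁻¹ = m * (g * u * g⁻¹) * m⁻¹ by group]; exact h3)
      rw [pow_one, show m * g * u * (m * g)⁻¹ = m * (g * u * g⁻¹) * m⁻¹ by group, hdv] at h4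
      obtain ⟨o', ho', s, hs, rfl⟩ := Subgroup.mem_sup_of_normal_left.mp hm
      have hs1 : Commute s (v * u) := ((hcent s hs).pow_right _).mul_right (hcent s hs)
      have hvO : v ∈ O := by
        set q := QuotientGroup.mk' O
        have h5 := congrArg q h4
        simp only [map_mul, map_inv] at h5
        rw [show q o = 1 from (QuotientGroup.eq_one_iff o).mpr ho,
          show q o' = 1 from (QuotientGroup.eq_one_iff o').mpr ho', one_mul, one_mul,
          ← map_mul q v, ← map_mul, hs1.eq, map_mul, mul_inv_cancel_right, map_mul] at h5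
        exact (QuotientGroup.eq_one_iff v).mp (mul_eq_right.mp h5)
      have h2 := orderOf_dvd_natCard O hvO
      rw [hvo] at h2
      exact CfsgLib.PCore.not_dvd_card_pPrimeCore h2

/-- Weakly closed subgroups of the centre of a Sylow 2-subgroup give isolation of all elements. -/
theorem isolated_of_weaklyClosed {G : Type u} [Group G] [Finite G] (S : Sylow 2 G)
    (hwc : ∀ W : Subgroup G, W ≤ (center (S : Subgroup G)).map (S : Subgroup G).subtype →
      Cfsg.IsWeaklyClosed W (S : Subgroup G))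
    {w : G} (hw : w ∈ (center (S : Subgroup G)).map (S : Subgroup G).subtype) (g : G)
    (hg : g * w * g⁻¹ ∈ (S : Subgroup G)) : g * w * g⁻¹ = w := by
  have hf : Fact (Nat.Prime 2) := ⟨Nat.prime_two⟩
  set W := zpowers w
  have hWZ : W ≤ (center (S : Subgroup G)).map (S : Subgroup G).subtype := zpowers_le.mpr hw
  have hWS : W ≤ (S : Subgroup G) := hWZ.trans (map_subtype_le _)
  have hgN : g ∈ normalizer (W : Set G) := by
    refine CfsgLib.TwoGroups.FT.mem_normalizer_of_cj ((hwc W hWZ).2 g ?_)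
    show CfsgLib.TwoGroups.FT.cj g W ≤ (S : Subgroup G)
    rw [CfsgLib.TwoGroups.FT.cj_zpowers]
    exact zpowers_le.mpr hg
  set ρ := normalizerMonoidHom W with hρ
  have hker : ρ.ker = (centralizer (W : Set G)).subgroupOf (normalizer (W : Set G)) :=
    normalizerMonoidHom_ker W
  have hSC : (S : Subgroup G) ≤ centralizer (W : Set G) := by
    intro s hs
    refine mem_centralizer_iff.mpr fun a ha => ?_
    obtain ⟨a', ha', rfl⟩ := hWZ ha
    exact congrArg Subtype.val (Subgroup.mem_center_iff.mp ha' ⟨s, hs⟩).symm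
  obtain ⟨k, hk⟩ := (S.isPGroup'.to_le hWS).exists_card_eq
  have hrange : Nat.card ρ.range ∣ 2 ^ (k - 1) := by
    refine (card_subgroup_dvd_card ρ.range).trans ?_
    rw [IsCyclic.card_mulAut W, hk]
    rcases Nat.eq_zero_or_pos k with rfl | hkpos
    · simp
    · rw [Nat.totient_prime_pow Nat.prime_two hkpos]; simp
  have hodd : Odd ρ.ker.index := by
    rw [hker, Nat.odd_iff]
    have h1 : ((centralizer (W : Set G)).subgroupOf (normalizer (W : Set G))).index =
        (centralizer (W : Set G)).relIndex (normalizer (W : Set G)) := rfl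
    rw [h1]
    have h2 : (centralizer (W : Set G)).relIndex (normalizer (W : Set G)) ∣ (S : Subgroup G).index :=
      (Dvd.intro _ (relIndex_mul_index (fun k hk => CfsgLib.TwoGroups.FT.mem_normalizer_of_cj
        (CfsgLib.TwoGroups.FT.cj_eq_of_commute fun a ha => by
          rw [← mem_centralizer_iff.mp hk a ha, mul_inv_cancel_right])))).trans (index_dvd_of_le hSC)
    by_contra hne
    exact S.not_dvd_index ((Nat.dvd_of_mod_eq_zero (by omega)).trans h2)
  rw [index_ker] at hodd
  have hone : Nat.card ρ.range = 1 := by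
    obtain ⟨i, -, hi⟩ := (Nat.dvd_prime_pow Nat.prime_two).mp hrange
    rw [hi] at hodd ⊢
    rcases Nat.eq_zero_or_pos i with rfl | hpos
    · rfl
    · exact absurd (Nat.even_pow.mpr ⟨even_two, hpos.ne'⟩) (Nat.not_even_iff_odd.mpr hodd)
  have hρ1 : ρ ⟨g, hgN⟩ = 1 := by
    have : ρ ⟨g, hgN⟩ ∈ ρ.range := ⟨_, rfl⟩
    rwa [card_eq_one.mp hone, mem_bot] at this
  exact congrArg Subtype.val (MulEquiv.congr_fun hρ1 ⟨w, mem_zpowers w⟩)

theorem eq_mul_of_weaklyClosed {G : Type u} [Group G] [Finite G] (S : Sylow 2 G)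
    (hwc : ∀ W : Subgroup G, W ≤ (center (S : Subgroup G)).map (S : Subgroup G).subtype →
      Cfsg.IsWeaklyClosed W (S : Subgroup G)) (h : G) :
    ∃ o ∈ Cfsg.pPrimeCore 2 G,
      ∃ c ∈ centralizer (((center (S : Subgroup G)).map (S : Subgroup G).subtype : Subgroup G) : Set G),
      h = o * c := by
  have hf : Fact (Nat.Prime 2) := ⟨Nat.prime_two⟩
  set O := Cfsg.pPrimeCore 2 G
  set Z := (center (S : Subgroup G)).map (S : Subgroup G).subtype with hZ
  have hZS : Z ≤ (S : Subgroup G) := map_subtype_le _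
  have hcomm : ∀ w ∈ Z, ∀ g : G, g * w * g⁻¹ * w⁻¹ ∈ O := by
    intro w hw g
    obtain ⟨k, hk⟩ := S.isPGroup' ⟨w, hZS hw⟩
    exact commutator_mem_core k G S w (hZS hw) (congrArg Subtype.val hk)
      (fun i b hb => isolated_of_weaklyClosed S hwc (pow_mem hw i) b hb) g
  set M := O ⊔ Z
  have hMconj : CfsgLib.TwoGroups.FT.cj h Z ≤ M := by
    rintro _ ⟨w, hw, rfl⟩
    have := mul_mem (mem_sup_left (hcomm w hw h) : _ ∈ M) (mem_sup_right hw)
    rwa [inv_mul_cancel_right] at this
  have hZp : IsPGroup 2 Z := S.isPGroup'.to_le hZS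
  have hodd : Odd (Z.relIndex M) := by
    show Odd (Z.relIndex (O ⊔ Z))
    rw [sup_comm]
    have hd : Z.relIndex (Z ⊔ O) ∣ Nat.card O := by
      have h1 := relIndex_mul_relIndex ⊥ Z (Z ⊔ O) bot_le le_sup_left
      rw [relIndex_bot_left, relIndex_bot_left] at h1
      have h2 : Nat.card ↥(Z ⊔ O) ∣ Nat.card O * Nat.card Z := by
        rw [sup_comm]; exact CfsgLib.PCore.card_sup_dvd_mul O Z
      rw [← h1, mul_comm] at h2
      exact Nat.dvd_of_mul_dvd_mul_right Nat.card_pos h2
    exact (Nat.coprime_two_right.mp CfsgLib.PCore.pPrimeCore_coprime).of_dvd_nat hd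
  obtain ⟨m, hm, hle⟩ := CfsgLib.TwoGroups.FT.exists_conj_into hZp le_sup_right hodd
    (CfsgLib.TwoGroups.FT.isPGroup_cj hZp) hMconj
  obtain ⟨z1, hz1, o, ho, hzo⟩ : ∃ z1 ∈ Z, ∃ o ∈ O, z1 * o = m :=
    Subgroup.mem_sup_of_normal_right.mp (show m ∈ Z ⊔ O by rwa [sup_comm])
  rw [CfsgLib.TwoGroups.FT.cj_cj] at hle
  have hc : m * h ∈ centralizer (Z : Set G) := by
    refine mem_centralizer_iff.mpr fun w hw => ?_
    have e := isolated_of_weaklyClosed S hwc hw (m * h)
      (hZS (hle (CfsgLib.TwoGroups.FT.conj_mem_cj hw)))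
    exact (mul_inv_eq_iff_eq_mul.mp e).symm
  refine ⟨o⁻¹, inv_mem ho, z1⁻¹ * (m * h), mul_mem (inv_mem ?_) hc, ?_⟩
  · refine mem_centralizer_iff.mpr fun w hw => ?_
    obtain ⟨w', hw', rfl⟩ := hw
    exact (congrArg Subtype.val (Subgroup.mem_center_iff.mp hw' ⟨z1, hZS hz1⟩)).symm
  · rw [← hzo]; group

end CfsgLib.Involutions.WCC
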