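import Mathlib
import Cfsg.Agent.Lib.Involutions.Basic

/-!
Counting with involutions and real elements: the counting behind the Brauer–Fowler bounds.
-/

set_option autoImplicit false

namespace CfsgLib.Involutions

variable {G : Type*} [Group G]

/-- The number of involutions of a group. -/
noncomputable def numInvolutions (G : Type*) [Group G] : ℕ := Nat.card {t : G // orderOf t = 2}

/-- The number of ordered pairs of involutions with a given product. -/
noncomputable def numPairs (x : G) : ℕ :=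
  Nat.card {p : G × G // orderOf p.1 = 2 ∧ orderOf p.2 = 2 ∧ p.1 * p.2 = x}

theorem exists_involution_of_even (G : Type*) [Group G] [Finite G] (h : Even (Nat.card G)) :
    ∃ t : G, orderOf t = 2 := exists_prime_orderOf_dvd_card' 2 h.two_dvd

theorem even_card_of_involution {t : G} (ht : orderOf t = 2) : Even (Nat.card G) :=
  even_iff_two_dvd.mpr (ht ▸ orderOf_dvd_natCard t)

theorem pow_two_ne_one_of_not_involution {x : G} (hx : x ≠ 1) (h : orderOf x ≠ 2) : x ^ 2 ≠ 1 :=
  fun h2 => h (orderOf_eq_two_iff_mul.mpr ⟨hx, by rwa [← pow_two]⟩)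

/-- Pairs of involutions with product `x` correspond to involutions inverting `x`, other than `x`. -/
def pairsEquiv (x : G) :
    {p : G × G // orderOf p.1 = 2 ∧ orderOf p.2 = 2 ∧ p.1 * p.2 = x} ≃
      {u : G // orderOf u = 2 ∧ u * x * u⁻¹ = x⁻¹ ∧ u ≠ x} where
  toFun p := ⟨p.1.1, p.2.1, by
    obtain ⟨⟨u, v⟩, hu, hv, rfl⟩ := p
    exact left_inverts_prod hu hv, by
    obtain ⟨⟨u, v⟩, hu, hv, rfl⟩ := p
    exact fun h => ne_one_of_involution hv (mul_eq_left.mp h.symm)⟩
  invFun u := ⟨(u.1, u.1 * x), u.2.1, by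
    obtain ⟨u, hu, hinv, hne⟩ := u
    rw [orderOf_eq_two_iff_mul]
    refine ⟨fun h => hne ?_, ?_⟩
    · rw [← inv_eq_self_of_involution hu]; exact inv_eq_of_mul_eq_one_right h
    · rw [inv_eq_self_of_involution hu] at hinv
      rw [← mul_assoc, hinv, inv_mul_cancel], by
    simp [← mul_assoc, mul_self_eq_one u.2.1]⟩
  left_inv p := by
    obtain ⟨⟨u, v⟩, hu, hv, rfl⟩ := p
    ext1
    simp [← mul_assoc, mul_self_eq_one hu]
  right_inv u := rfl

theorem numPairs_eq_card_inverting (x : G) :
    numPairs x = Nat.card {u : G // orderOf u = 2 ∧ u * x * u⁻¹ = x⁻¹ ∧ u ≠ x} :=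
  Nat.card_congr (pairsEquiv x)

theorem numPairs_of_sq_ne_one {x : G} (hx : x ^ 2 ≠ 1) :
    numPairs x = Nat.card {u : G // orderOf u = 2 ∧ u * x * u⁻¹ = x⁻¹} := by
  rw [numPairs_eq_card_inverting]
  refine Nat.card_congr (Equiv.subtypeEquivRight fun u => ⟨fun h => ⟨h.1, h.2.1⟩,
    fun h => ⟨h.1, h.2, fun he => hx ?_⟩⟩)
  rw [pow_two, ← he]
  exact mul_self_eq_one h.1

theorem numPairs_one : numPairs (1 : G) = numInvolutions G := by
  rw [numPairs_eq_card_inverting]
  exact Nat.card_congr (Equiv.subtypeEquivRight fun u =>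
    ⟨fun h => h.1, fun h => ⟨h, by simp, ne_one_of_involution h⟩⟩)

theorem numPairs_eq_zero {x : G} (h : ¬ IsConj x x⁻¹) : numPairs x = 0 := by
  have : IsEmpty {u : G // orderOf u = 2 ∧ u * x * u⁻¹ = x⁻¹ ∧ u ≠ x} :=
    ⟨fun u => h (isConj_iff.mpr ⟨u.1, u.2.2.1⟩)⟩
  rw [numPairs_eq_card_inverting, Nat.card_of_isEmpty]

/-- The elements conjugating `x` to its inverse form a coset of the centralizer. -/
theorem card_inverting_eq {x : G} (h : IsConj x x⁻¹) :
    Nat.card {g : G // g * x * g⁻¹ = x⁻¹} = Nat.card (Subgroup.centralizer ({x} : Set G)) := by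
  obtain ⟨a, ha⟩ := isConj_iff.mp h
  refine Nat.card_congr ⟨fun g => ⟨a⁻¹ * g.1, ?_⟩, fun c => ⟨a * c.1, ?_⟩, fun g => ?_, fun c => ?_⟩
  · rw [Subgroup.mem_centralizer_singleton_iff]
    have h1 := mul_inv_eq_iff_eq_mul.mp g.2
    have h2 := mul_inv_eq_iff_eq_mul.mp ha
    apply mul_left_cancel (a := a)
    calc a * (a⁻¹ * g.1 * x) = g.1 * x := by group
      _ = x⁻¹ * g.1 := h1
      _ = x⁻¹ * a * (a⁻¹ * g.1) := by group
      _ = a * x * (a⁻¹ * g.1) := by rw [h2]
      _ = a * (x * (a⁻¹ * g.1)) := mul_assoc _ _ _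
  · have hc := Subgroup.mem_centralizer_singleton_iff.mp c.2
    calc a * c.1 * x * (a * c.1)⁻¹ = a * (c.1 * x) * c.1⁻¹ * a⁻¹ := by group
      _ = a * x * a⁻¹ := by rw [hc]; group
      _ = x⁻¹ := ha
  · simp
  · simp

theorem numPairs_le_centralizer [Finite G] (x : G) :
    numPairs x ≤ Nat.card (Subgroup.centralizer ({x} : Set G)) := by
  by_cases h : IsConj x x⁻¹
  · rw [numPairs_eq_card_inverting, ← card_inverting_eq h]
    exact Nat.card_le_card_of_injective (fun u => ⟨u.1, u.2.2.1⟩)
      fun u v huv => Subtype.ext (congrArg Subtype.val huv :)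
  · rw [numPairs_eq_zero h]; exact Nat.zero_le _

theorem numPairs_add_two_le [Finite G] {x : G} (hx : orderOf x = 2) :
    numPairs x + 2 ≤ Nat.card (Subgroup.centralizer ({x} : Set G)) := by
  classical
  rw [numPairs_eq_card_inverting]
  have hinv := inv_eq_self_of_involution hx
  have hle : (insert 1 (insert x {u : G | orderOf u = 2 ∧ u * x * u⁻¹ = x⁻¹ ∧ u ≠ x})).ncard
      ≤ (Subgroup.centralizer ({x} : Set G) : Set G).ncard := by
    refine Set.ncard_le_ncard ?_ (Set.toFinite _)
    intro u hu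
    rw [SetLike.mem_coe, Subgroup.mem_centralizer_singleton_iff]
    rcases hu with rfl | rfl | ⟨-, h, -⟩
    · simp
    · rfl
    · rw [hinv] at h; exact mul_inv_eq_iff_eq_mul.mp h
  rw [Set.ncard_insert_of_notMem (s := insert x _) (a := 1) ?_ (Set.toFinite _),
    Set.ncard_insert_of_notMem (a := x) ?_ (Set.toFinite _)] at hle
  · exact hle
  · exact fun h => h.2.2 rfl
  · rintro (h | h)
    · exact ne_one_of_involution hx h.symm
    · exact ne_one_of_involution h.1 rfl

theorem sum_numPairs [Fintype G] : ∑ x : G, numPairs x = numInvolutions G ^ 2 := by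
  have e1 : (Σ x : G, {p : G × G // orderOf p.1 = 2 ∧ orderOf p.2 = 2 ∧ p.1 * p.2 = x}) ≃
      {t : G // orderOf t = 2} × {t : G // orderOf t = 2} :=
    { toFun := fun s => (⟨s.2.1.1, s.2.2.1⟩, ⟨s.2.1.2, s.2.2.2.1⟩)
      invFun := fun q => ⟨q.1.1 * q.2.1, (q.1.1, q.2.1), q.1.2, q.2.2, rfl⟩
      left_inv := by rintro ⟨x, ⟨⟨u, v⟩, hu, hv, rfl⟩⟩; rfl
      right_inv := fun q => rfl }
  unfold numPairs
  rw [← Nat.card_sigma, Nat.card_congr e1, Nat.card_prod, ← pow_two]
  rfl

/-- The counting inequality of Brauer and Fowler. -/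
theorem brauer_fowler_count [Finite G] (h : ℕ)
    (hinvol : ∀ t : G, orderOf t = 2 → Nat.card (Subgroup.centralizer ({t} : Set G)) ≤ h)
    (hreal : ∀ x : G, x ≠ 1 → orderOf x ≠ 2 → IsConj x x⁻¹ →
      2 * Nat.card (Subgroup.centralizer ({x} : Set G)) ≤ h) :
    2 * numInvolutions G ^ 2 + 2 * numInvolutions G + h ≤ h * (numInvolutions G + Nat.card G) := by
  classical
  cases nonempty_fintype G
  set n := numInvolutions G with hn
  have hpt : ∀ x : G, 2 * numPairs x + (if orderOf x = 2 then 4 else 0) + (if x = 1 then h else 0)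
      ≤ h + (if orderOf x = 2 then h else 0) + (if x = 1 then 2 * n else 0) := by
    intro x
    by_cases hx1 : x = 1
    · subst hx1
      simp [numPairs_one, ← hn, add_comm]
    · by_cases hx2 : orderOf x = 2
      · simp only [hx1, hx2, if_false, if_true, add_zero]
        have := numPairs_add_two_le hx2
        have := hinvol x hx2
        omega
      · simp only [hx1, hx2, if_false, add_zero]
        by_cases hr : IsConj x x⁻¹
        · have := numPairs_le_centralizer x
          have := hreal x hx1 hx2 hr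
          omega
        · simp [numPairs_eq_zero hr]
  have hsum := Finset.sum_le_sum (s := Finset.univ) fun x _ => hpt x
  have hcard : ∀ c : ℕ, ∑ x : G, (if orderOf x = 2 then c else 0) = n * c := by
    intro c
    rw [← Finset.sum_filter, Finset.sum_const, smul_eq_mul, hn, numInvolutions,
      Nat.card_eq_fintype_card, Fintype.card_subtype]
  simp only [Finset.sum_add_distrib, ← Finset.mul_sum, sum_numPairs, hcard, Finset.sum_ite_eq',
    Finset.mem_univ, if_true, Finset.sum_const, smul_eq_mul, Finset.card_univ, ← hn] at hsum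
  rw [← Nat.card_eq_fintype_card] at hsum
  nlinarith

theorem card_le_involutions_mul_centralizer [Finite G] {t : G} (ht : orderOf t = 2) :
    Nat.card G ≤ numInvolutions G * Nat.card (Subgroup.centralizer ({t} : Set G)) := by
  rw [← Subgroup.card_mul_index (Subgroup.centralizer ({t} : Set G)), mul_comm]
  refine Nat.mul_le_mul_right _ ?_
  let f : G ⧸ Subgroup.centralizer ({t} : Set G) → {s : G // orderOf s = 2} :=
    Quotient.lift (fun g => ⟨g * t * g⁻¹, (orderOf_conj_eq g t).trans ht⟩) (by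
      intro a b hab
      change (QuotientGroup.leftRel _) a b at hab
      rw [QuotientGroup.leftRel_apply, Subgroup.mem_centralizer_singleton_iff] at hab
      ext
      change a * t * a⁻¹ = b * t * b⁻¹
      calc a * t * a⁻¹ = a * (t * (a⁻¹ * b)) * b⁻¹ := by group
        _ = a * (a⁻¹ * b * t) * b⁻¹ := by rw [hab]
        _ = b * t * b⁻¹ := by group)
  apply Nat.card_le_card_of_injective f
  intro a b h
  obtain ⟨a, rfl⟩ := QuotientGroup.mk_surjective a
  obtain ⟨b, rfl⟩ := QuotientGroup.mk_surjective b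
  rw [QuotientGroup.eq, Subgroup.mem_centralizer_singleton_iff]
  have h' : a * t * a⁻¹ = b * t * b⁻¹ := congrArg Subtype.val h
  calc a⁻¹ * b * t = a⁻¹ * (b * t * b⁻¹) * b := by group
    _ = t * (a⁻¹ * b) := by rw [← h']; group

/-- The extended centralizer of a real element `x` with `x ^ 2 ≠ 1`: either `C(x)` has index 2
or there is a proper subgroup of twice its order. -/
theorem exists_double_centralizer [Finite G] {x : G} (hx : x ^ 2 ≠ 1) (hr : IsConj x x⁻¹) :
    ∃ H : Subgroup G, Nat.card H = 2 * Nat.card (Subgroup.centralizer ({x} : Set G)) := by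
  classical
  let H : Subgroup G :=
    { carrier := {g : G | g * x * g⁻¹ = x ∨ g * x * g⁻¹ = x⁻¹}
      mul_mem' := by
        rintro a b ha hb
        have key : a * b * x * (a * b)⁻¹ = a * (b * x * b⁻¹) * a⁻¹ := by group
        simp only [Set.mem_ofPred_eq, key]
        rcases hb with hb | hb <;> rw [hb] <;> rcases ha with ha | ha
        · exact Or.inl ha
        · exact Or.inr ha
        · right; rw [← conj_inv, ha]
        · left; rw [← conj_inv, ha, inv_inv]
      one_mem' := Or.inl (by simp)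
      inv_mem' := by
        rintro a (ha | ha)
        · left
          calc a⁻¹ * x * a⁻¹⁻¹ = a⁻¹ * (a * x * a⁻¹) * a := by rw [ha, inv_inv]
            _ = x := by group
        · right
          calc a⁻¹ * x * a⁻¹⁻¹ = (a⁻¹ * x⁻¹ * a)⁻¹ := by group
            _ = (a⁻¹ * (a * x * a⁻¹) * a)⁻¹ := by rw [ha]
            _ = x⁻¹ := by group }
  refine ⟨H, ?_⟩
  rw [two_mul]
  conv_rhs => arg 2; rw [← card_inverting_eq hr]
  rw [← Nat.card_sum]
  have hiff : ∀ g : G, g * x * g⁻¹ = x ↔ g ∈ Subgroup.centralizer ({x} : Set G) := fun g => by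
    rw [Subgroup.mem_centralizer_singleton_iff, mul_inv_eq_iff_eq_mul]
  refine Nat.card_congr ((subtypeOrEquiv _ _ ?_).trans (Equiv.sumCongr (Equiv.subtypeEquivRight hiff) (Equiv.refl _)))
  rw [Pi.disjoint_iff]
  intro g
  rw [Prop.disjoint_iff]
  rintro ⟨h1, h2⟩
  apply hx
  rw [pow_two, ← inv_eq_iff_mul_eq_one, ← h1, ← h2] at *
  simp_all

theorem centralizer_ne_top_of_real [Finite G] {x : G} (hx : x ^ 2 ≠ 1) (hr : IsConj x x⁻¹) :
    Subgroup.centralizer ({x} : Set G) ≠ ⊤ := by
  obtain ⟨H, hH⟩ := exists_double_centralizer hx hr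
  intro h
  have := Nat.le_of_dvd Nat.card_pos (Subgroup.card_subgroup_dvd_card H)
  rw [hH, h, Subgroup.card_top] at this
  have : 0 < Nat.card G := Nat.card_pos
  omega

theorem odd_numInvolutions [Finite G] (heven : Even (Nat.card G)) : Odd (numInvolutions G) := by
  classical
  cases nonempty_fintype G
  have hsplit : Finset.univ.filter (fun x : G => x * x = 1)
      = insert 1 (Finset.univ.filter fun x : G => orderOf x = 2) := by
    ext x
    simp only [Finset.mem_filter, Finset.mem_univ, true_and, Finset.mem_insert, orderOf_eq_two_iff_mul]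
    by_cases h : x = 1 <;> simp [h]
  have h0 : ∑ x ∈ Finset.univ.filter (fun x : G => ¬ x * x = 1), (1 : ZMod 2) = 0 := by
    refine Finset.sum_involution (fun x _ => x⁻¹) (fun x _ => by decide) (fun x hx _ he => ?_)
      (fun x hx => ?_) (fun x _ => inv_inv x)
    · simp only [Finset.mem_filter] at hx
      exact hx.2 (inv_eq_iff_mul_eq_one.mp he)
    · simp only [Finset.mem_filter, Finset.mem_univ, true_and] at hx ⊢
      rwa [← mul_inv_rev, inv_eq_one]
  have htot : (Finset.univ.filter fun x : G => x * x = 1).card +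
      (Finset.univ.filter fun x : G => ¬ x * x = 1).card = Nat.card G := by
    rw [Finset.card_filter_add_card_filter_not, Finset.card_univ, Nat.card_eq_fintype_card]
  rw [hsplit, Finset.card_insert_of_notMem (by simp)] at htot
  simp only [Finset.sum_const, nsmul_eq_mul, mul_one, ZMod.natCast_eq_zero_iff_even] at h0
  rw [numInvolutions, Nat.card_eq_fintype_card, Fintype.card_subtype]
  obtain ⟨a, ha⟩ := h0
  obtain ⟨b, hb⟩ := heven
  exact ⟨b - a - 1, by omega⟩

theorem even_card_of_real [Finite G] {x : G} (hx : x ≠ 1) (hr : IsConj x x⁻¹) : Even (Nat.card G) := by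
  by_contra hodd
  obtain ⟨g, hg⟩ := isConj_iff.mp hr
  have hgodd : Odd (orderOf g) := (Nat.not_even_iff_odd.mp hodd).of_dvd_nat (orderOf_dvd_natCard g)
  obtain ⟨m, hm⟩ := hgodd
  have h2 : Commute (g ^ 2) x := by
    apply mul_inv_eq_iff_eq_mul.mp
    rw [pow_two]
    calc g * g * x * (g * g)⁻¹ = g * (g * x * g⁻¹) * g⁻¹ := by group
      _ = (g * x * g⁻¹)⁻¹ := by rw [hg, ← conj_inv, hg]
      _ = x := by rw [hg, inv_inv]
  have hgx : Commute g x := by
    have h3 := h2.pow_left (m + 1)
    have h4 : g ^ (2 * (m + 1)) = g := by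
      have := pow_orderOf_eq_one g
      rw [hm] at this
      rw [show 2 * (m + 1) = 2 * m + 1 + 1 by ring, pow_succ, this, one_mul]
    rwa [← pow_mul, h4] at h3
  rw [hgx.eq, mul_inv_cancel_right] at hg
  exact hodd (even_card_of_involution (orderOf_eq_two_iff_inv.mpr ⟨hx, hg.symm⟩))

end CfsgLib.Involutions
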