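import Mathlib

/-!
The graph on a class of involutions joining two members whose product has odd order: a criterion for
diameter two.
-/

set_option autoImplicit false

namespace CfsgLib.Involutions.OddGraph

variable {G : Type*} [Group G]

theorem inv_eq_self {x : G} (hx : x * x = 1) : x⁻¹ = x := inv_eq_of_mul_eq_one_right hx

theorem orderOf_mul_comm_invol {x z : G} (hx : x * x = 1) (hz : z * z = 1) :
    orderOf (z * x) = orderOf (x * z) := by
  rw [← orderOf_inv, mul_inv_rev, inv_eq_self hx, inv_eq_self hz]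

/-- Involutions with a product of odd order are conjugate. -/
theorem isConj_of_odd {x z : G} (hx : x * x = 1) (hz : z * z = 1) (h : Odd (orderOf (x * z))) :
    IsConj x z := by
  obtain ⟨k, hk⟩ := h
  set r := x * z with hr
  have hpow : r ^ (2 * k + 1) = 1 := by rw [← hk]; exact pow_orderOf_eq_one r
  have hflip : ∀ n : ℕ, r ^ n * z * r ^ n = z := by
    intro n
    induction n with
    | zero => simp
    | succ n ih =>
      have h1 : r * z * r = z := by
        rw [hr, mul_assoc x z z, hz, mul_one, ← mul_assoc, hx, one_mul]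
      calc r ^ (n + 1) * z * r ^ (n + 1) = r ^ n * r * z * (r * r ^ n) := by rw [← pow_succ, ← pow_succ']
        _ = r ^ n * (r * z * r) * r ^ n := by simp only [mul_assoc]
        _ = z := by rw [h1, ih]
  have h2 : (r ^ k)⁻¹ = r ^ (k + 1) :=
    inv_eq_of_mul_eq_one_right (by rw [← pow_add, ← hpow]; congr 1; omega)
  refine isConj_iff.mpr ⟨r ^ k, ?_⟩
  rw [h2]
  calc r ^ k * x * r ^ (k + 1) = r ^ k * (r * z) * (r ^ k * r) := by
        rw [hr, mul_assoc x z z, hz, mul_one, pow_succ]
    _ = r * (r ^ k * z * r ^ k) * r := by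
        simp only [← mul_assoc, (Commute.self_pow r k).eq]
    _ = z := by
        rw [hflip, hr, mul_assoc x z z, hz, mul_one, ← mul_assoc, hx, one_mul]

/-- The diameter is two once any two members have a common neighbour (or are adjacent) and two distinct
members commute. -/
theorem connected_diam_two {t : G} (ht : t * t = 1)
    (h : ∀ x y : G, IsConj t x → IsConj t y →
      ∃ z, z * z = 1 ∧ Odd (orderOf (x * z)) ∧ Odd (orderOf (y * z)))
    (hc : ∃ y, IsConj t y ∧ y ≠ t ∧ Commute t y) :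
    (SimpleGraph.fromRel fun x y : {x : G // IsConj t x} => Odd (orderOf (x.1 * y.1))).Connected ∧
      (SimpleGraph.fromRel fun x y : {x : G // IsConj t x} => Odd (orderOf (x.1 * y.1))).diam = 2 := by
  set Γ := SimpleGraph.fromRel fun x y : {x : G // IsConj t x} => Odd (orderOf (x.1 * y.1))
  have hinv : ∀ x : {x : G // IsConj t x}, x.1 * x.1 = 1 := by
    rintro ⟨x, hx⟩
    obtain ⟨c, rfl⟩ := isConj_iff.mp hx
    rw [conj_mul, ht, mul_one, mul_inv_cancel]
  have hle : ∀ u v, Γ.edist u v ≤ 2 := by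
    intro u v
    obtain ⟨z, hz, hzu, hzv⟩ := h u.1 v.1 u.2 v.2
    let w : {x : G // IsConj t x} := ⟨z, u.2.trans (isConj_of_odd (hinv u) hz hzu)⟩
    have h1 : Γ.edist u w ≤ 1 := by
      by_cases huw : u = w
      · rw [huw, SimpleGraph.edist_self]; exact zero_le
      · exact le_of_eq (SimpleGraph.edist_eq_one_iff_adj.mpr
          ((SimpleGraph.fromRel_adj _ _ _).mpr ⟨huw, Or.inl hzu⟩))
    have h2 : Γ.edist w v ≤ 1 := by
      by_cases hwv : w = v
      · rw [hwv, SimpleGraph.edist_self]; exact zero_le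
      · exact le_of_eq (SimpleGraph.edist_eq_one_iff_adj.mpr
          ((SimpleGraph.fromRel_adj _ _ _).mpr ⟨hwv, Or.inr hzv⟩))
    exact (SimpleGraph.edist_triangle).trans ((add_le_add h1 h2).trans (le_of_eq one_add_one_eq_two))
  have hed : Γ.ediam ≤ 2 := SimpleGraph.ediam_le_iff.mpr hle
  have hne : Γ.ediam ≠ ⊤ := ne_top_of_le_ne_top (ENat.natCast_ne_top 2) hed
  have : Nonempty {x : G // IsConj t x} := ⟨⟨t, IsConj.refl t⟩⟩
  obtain ⟨y, hty, hyt, hcom⟩ := hc
  have hcon : Γ.Connected := ⟨fun u v => SimpleGraph.reachable_of_edist_ne_top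
    (ne_top_of_le_ne_top (ENat.natCast_ne_top 2) (hle u v))⟩
  refine ⟨hcon, le_antisymm ?_ ?_⟩
  · exact ENat.toNat_le_of_le_natCast hed
  · have h0 : (⟨t, IsConj.refl t⟩ : {x : G // IsConj t x}) ≠ ⟨y, hty⟩ := fun e =>
      hyt (congrArg Subtype.val e).symm
    have hord : orderOf (t * y) = 2 := by
      refine orderOf_eq_prime ?_ fun e => hyt ?_
      · rw [pow_two, mul_assoc, ← mul_assoc y, ← hcom.eq, mul_assoc t y y, hinv ⟨y, hty⟩, mul_one, ht]
      · rw [mul_eq_one_iff_eq_inv, inv_eq_self (hinv ⟨y, hty⟩)] at e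
        exact e.symm
    have hadj : ¬ Γ.Adj ⟨t, IsConj.refl t⟩ ⟨y, hty⟩ := by
      intro hh
      rcases ((SimpleGraph.fromRel_adj _ _ _).mp hh).2 with hh | hh
      · rw [hord] at hh; exact absurd hh (by decide)
      · rw [orderOf_mul_comm_invol (hinv ⟨t, IsConj.refl t⟩) (hinv ⟨y, hty⟩), hord] at hh
        exact absurd hh (by decide)
    have h2 : 2 ≤ Γ.dist ⟨t, IsConj.refl t⟩ ⟨y, hty⟩ := by
      have h3 := hcon.pos_dist_of_ne h0
      have h4 : Γ.dist (⟨t, IsConj.refl t⟩ : {x : G // IsConj t x}) ⟨y, hty⟩ ≠ 1 :=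
        fun e => hadj (SimpleGraph.dist_eq_one_iff_adj.mp e)
      omega
    exact h2.trans (SimpleGraph.dist_le_diam hne)

end CfsgLib.Involutions.OddGraph
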