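import Cfsg.Agent.Lib.Involutions.OddGraph

/-!
Two involutions of a symmetric group with supports of the same size have a common "odd neighbour": an
involution whose products with both have odd order (four points excepted).
-/

set_option autoImplicit false
set_option linter.unusedSectionVars false

namespace CfsgLib.Involutions.OddProductPerm

open Equiv

variable {α : Type*} [Fintype α] [DecidableEq α]

/-! ### Inserting two fixed points into a cycle -/

/-- the three-cycle `v ↦ a ↦ b ↦ v` -/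
def tri (v a b : α) : Perm α := swap v a * swap a b

theorem tri_apply {v a b : α} (hva : v ≠ a) (hvb : v ≠ b) (hab : a ≠ b) :
    tri v a b v = a ∧ tri v a b a = b ∧ tri v a b b = v ∧
      ∀ w, w ≠ v → w ≠ a → w ≠ b → tri v a b w = w := by
  refine ⟨?_, ?_, ?_, fun w h1 h2 h3 => ?_⟩ <;>
    simp [tri, swap_apply_of_ne_of_ne, hab.symm, hvb.symm, *]

theorem odd_insert {q : Perm α} {v a b : α} (hq : Odd (orderOf q)) (ha : q a = a) (hb : q b = b)
    (hab : a ≠ b) (hva : v ≠ a) (hvb : v ≠ b) : Odd (orderOf (tri v a b * q)) := by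
  obtain ⟨t1, t2, t3, t4⟩ := tri_apply hva hvb hab
  set q' := tri v a b * q with hq'
  set L := Function.minimalPeriod q v with hL
  have hLd : L ∣ orderOf q := by
    refine Function.IsPeriodicPt.minimalPeriod_dvd (show (⇑q)^[orderOf q] v = v from ?_)
    rw [← Perm.coe_pow, pow_orderOf_eq_one]; rfl
  have hLo : Odd L := hq.of_dvd_nat hLd
  have hiter : ∀ i w, (q ^ i : Perm α) w = (⇑q)^[i] w := fun i w => by rw [Perm.coe_pow]
  have hper : (q ^ L) v = v := by rw [hiter, hL]; exact Function.iterate_minimalPeriod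
  have hfix : ∀ c, q c = c → ∀ i w, (q ^ i) w = c → w = c := fun c hc i w h =>
    (q ^ i).injective (h.trans ((Perm.pow_apply_eq_self_of_apply_eq_self hc i).symm))
  have hgen : ∀ w, q w ≠ v → q w ≠ a → q w ≠ b → q' w = q w := fun w h1 h2 h3 => by
    rw [hq', Perm.mul_apply, t4 _ h1 h2 h3]
  have hv : ∀ i, i < L → (q' ^ i) v = (q ^ i) v := by
    intro i
    induction i with
    | zero => simp
    | succ i ih =>
      intro hi
      rw [pow_succ', Perm.mul_apply, ih (by omega), pow_succ', Perm.mul_apply]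
      refine hgen _ (fun h => ?_) (fun h => ?_) (fun h => ?_)
      · rw [← Perm.mul_apply, ← pow_succ', hiter] at h
        exact absurd (Function.IsPeriodicPt.minimalPeriod_le (Nat.succ_pos i) h) (by omega)
      · exact hva (hfix a ha (i + 1) v (by rw [pow_succ', Perm.mul_apply, h]))
      · exact hvb (hfix b hb (i + 1) v (by rw [pow_succ', Perm.mul_apply, h]))
  obtain ⟨m, hm⟩ : ∃ m, L = m + 1 := ⟨L - 1, by have := hLo.pos; omega⟩
  have e1 : (q' ^ L) v = a := by
    rw [hm, pow_succ', Perm.mul_apply, hv m (by omega), hq', Perm.mul_apply, ← Perm.mul_apply q,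
      ← pow_succ', ← hm, hper, t1]
  have e2 : (q' ^ (L + 1)) v = b := by rw [pow_succ', Perm.mul_apply, e1, hq', Perm.mul_apply, ha, t2]
  have e3 : (q' ^ (L + 2)) v = v := by rw [pow_succ', Perm.mul_apply, e2, hq', Perm.mul_apply, hb, t3]
  have key : ∀ w, (q' ^ (orderOf q * (L + 2))) w = w := by
    intro w
    by_cases hw : ∃ i, (q' ^ i) v = w
    · obtain ⟨i, rfl⟩ := hw
      rw [← Perm.mul_apply, ← pow_add, add_comm, pow_add, Perm.mul_apply, mul_comm, pow_mul,
        Perm.pow_apply_eq_self_of_apply_eq_self e3]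
    · push Not at hw
      have hnot : ∀ i, (q ^ i) w ≠ v ∧ (q ^ i) w ≠ a ∧ (q ^ i) w ≠ b := by
        refine fun i => ⟨fun h => ?_, fun h => ?_, fun h => ?_⟩
        · obtain ⟨j, hj⟩ : ∃ j, (q ^ j) v = w := by
            refine ⟨orderOf q * i - i, (q ^ i).injective ?_⟩
            rw [h, ← Perm.mul_apply, ← pow_add, Nat.add_sub_cancel'
              (Nat.le_mul_of_pos_left i (orderOf_pos q)), pow_mul, pow_orderOf_eq_one, one_pow,
              Perm.one_apply]
          refine hw (j % L) ?_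
          rw [hv _ (Nat.mod_lt _ hLo.pos), ← hj]
          conv_rhs => rw [← Nat.mod_add_div j L, pow_add, Perm.mul_apply, pow_mul,
            Perm.pow_apply_eq_self_of_apply_eq_self hper]
        · exact hw L (e1.trans (hfix a ha i w h).symm)
        · exact hw (L + 1) (e2.trans (hfix b hb i w h).symm)
      have hwq : ∀ i, (q' ^ i) w = (q ^ i) w := by
        intro i
        induction i with
        | zero => simp
        | succ i ih =>
          rw [pow_succ', Perm.mul_apply, ih, pow_succ', Perm.mul_apply]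
          obtain ⟨h1, h2, h3⟩ := hnot (i + 1)
          rw [pow_succ', Perm.mul_apply] at h1 h2 h3
          exact hgen _ h1 h2 h3
      rw [hwq, pow_mul, pow_orderOf_eq_one, one_pow, Perm.one_apply]
  refine (hq.mul ?_).of_dvd_nat (orderOf_dvd_of_pow_eq_one (Equiv.ext key))
  obtain ⟨k, hk⟩ := hLo
  exact ⟨k + 1, by omega⟩

/-! ### Removing a transposition from an involution -/

theorem app_app {x : Perm α} (hx : x * x = 1) (p : α) : x (x p) = p := by
  rw [← Perm.mul_apply, hx, Perm.one_apply]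

theorem eq_swap_side {x : Perm α} (hx : x * x = 1) {p q : α} (h : x p = q) : x q = p := by
  rw [← h, app_app hx]

theorem swap_comm_of_fix {q : Perm α} {a b : α} (ha : q a = a) (hb : q b = b) :
    q * swap a b = swap a b * q := by rw [mul_swap_eq_swap_mul, ha, hb]

/-- remove the transposition through `a` -/
def rm (a : α) (x : Perm α) : Perm α := swap a (x a) * x

theorem eq_swap_mul_rm (a : α) (x : Perm α) : x = swap a (x a) * rm a x := by
  rw [rm, ← mul_assoc, swap_mul_self, one_mul]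

theorem rm_apply {x : Perm α} (hx : x * x = 1) (a : α) :
    rm a x a = a ∧ rm a x (x a) = x a ∧ ∀ w, w ≠ a → w ≠ x a → rm a x w = x w := by
  refine ⟨by simp [rm], by simp [rm, app_app hx], fun w h1 h2 => ?_⟩
  rw [rm, Perm.mul_apply, swap_apply_of_ne_of_ne (fun e => h2 (eq_swap_side hx e).symm)
    (fun e => h1 (x.injective e))]

theorem rm_invol {x : Perm α} (hx : x * x = 1) (a : α) : rm a x * rm a x = 1 := by
  have h : x * swap a (x a) = swap a (x a) * x := by
    rw [mul_swap_eq_swap_mul, app_app hx, swap_comm]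
  rw [rm, mul_assoc, ← mul_assoc x, h, mul_assoc, hx, mul_one, swap_mul_self]

theorem rm_fix {x : Perm α} (hx : x * x = 1) {a p : α} (hp : x p = p) : rm a x p = p := by
  obtain ⟨h1, h2, h3⟩ := rm_apply hx a
  by_cases e : p = a
  · rw [e, h1]
  · by_cases e' : p = x a
    · rw [e', h2]
    · rw [h3 p e e', hp]

theorem card_rm {x : Perm α} (hx : x * x = 1) {a : α} (ha : x a ≠ a) :
    (rm a x).support.card + 2 = x.support.card := by
  obtain ⟨h1, h2, h3⟩ := rm_apply hx a
  have : (rm a x).support = x.support \ {a, x a} := by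
    ext w
    simp only [Perm.mem_support, Finset.mem_sdiff, Finset.mem_insert, Finset.mem_singleton, not_or]
    constructor
    · intro h
      have e1 : w ≠ a := fun e => h (e ▸ h1)
      have e2 : w ≠ x a := fun e => h (e ▸ h2)
      exact ⟨by rwa [h3 w e1 e2] at h, e1, e2⟩
    · rintro ⟨h, e1, e2⟩
      rwa [h3 w e1 e2]
  have hsub : ({a, x a} : Finset α) ⊆ x.support := by
    simp [Finset.insert_subset_iff, app_app hx, ha, Ne.symm ha]
  rw [this, Finset.card_sdiff_of_subset hsub, Finset.card_pair ha.symm]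
  have := Finset.card_le_card hsub
  rw [Finset.card_pair ha.symm] at this
  omega

/-! ### The statement -/

/-- an involution (or one) moving only points of `S` -/
def On (S : Finset α) (x : Perm α) : Prop := x * x = 1 ∧ ∀ p, p ∉ S → x p = p

/-- a common odd neighbour inside `S` -/
def Sol (S : Finset α) (x y : Perm α) : Prop :=
  ∃ z, On S z ∧ Odd (orderOf (x * z)) ∧ Odd (orderOf (y * z))

/-- the exception: two different fixed-point-free involutions of four points -/
def Bad (S : Finset α) (x y : Perm α) : Prop := S.card = 4 ∧ (∀ p ∈ S, x p ≠ p ∧ y p ≠ p) ∧ x ≠ y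

/-- the induction hypothesis -/
def Below (S : Finset α) : Prop :=
  ∀ (S' : Finset α) (x y : Perm α), S'.card < S.card → On S' x → On S' y →
    x.support.card = y.support.card → ¬ Bad S' x y → Sol S' x y

theorem On.mem {S : Finset α} {x : Perm α} (hx : On S x) {p : α} (hp : x p ≠ p) : p ∈ S := by
  by_contra h; exact hp (hx.2 p h)

theorem On.app_mem {S : Finset α} {x : Perm α} (hx : On S x) {p : α} (hp : x p ≠ p) : x p ∈ S :=
  hx.mem fun h => hp (x.injective h)

theorem Sol.symm {S : Finset α} {x y : Perm α} : Sol S x y → Sol S y x :=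
  fun ⟨z, h1, h2, h3⟩ => ⟨z, h1, h3, h2⟩

theorem card_lt_of {S : Finset α} {a : α} (ha : a ∈ S) {T : Finset α} (hT : a ∈ T) :
    (S \ T).card < S.card :=
  Finset.card_lt_card ⟨Finset.sdiff_subset, fun h => (Finset.mem_sdiff.mp (h ha)).2 hT⟩

theorem mul_invol {s z : Perm α} (hs : s * s = 1) (hz : z * z = 1) (h : z * s = s * z) :
    s * z * (s * z) = 1 := by
  rw [mul_assoc, ← mul_assoc z, h, mul_assoc, hz, mul_one, hs]

/-- a pendant edge is shortened -/
theorem step_end {S : Finset α} {x y : Perm α} (IH : Below S) (hx : On S x) (hy : On S y)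
    (hc : x.support.card = y.support.card) {a : α} (ha : x a ≠ a) (hya : y a = a)
    (hyb : y (x a) ≠ x a) : Sol S x y := by
  obtain ⟨x1, x2, x3⟩ := rm_apply hx.1 a
  obtain ⟨y1, y2, y3⟩ := rm_apply hy.1 (x a)
  set b := x a with hb
  set c := y b with hcdef
  have hab : a ≠ b := fun h => ha h.symm
  have hac : a ≠ c := fun h => by
    have := eq_swap_side hy.1 (p := b) (q := a) h.symm
    rw [hya] at this; exact hab this
  set T : Finset α := {a, b} with hT
  have hout : ∀ p, p ∉ S \ T → p ∉ S ∨ p = a ∨ p = b := fun p hp => by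
    simp only [hT, Finset.mem_sdiff, Finset.mem_insert, Finset.mem_singleton] at hp; tauto
  have hx' : On (S \ T) (rm a x) := ⟨rm_invol hx.1 a, fun p hp => by
    rcases hout p hp with h | rfl | rfl
    exacts [rm_fix hx.1 (hx.2 p h), x1, x2]⟩
  have hy' : On (S \ T) (rm b y) := ⟨rm_invol hy.1 b, fun p hp => by
    rcases hout p hp with h | rfl | rfl
    exacts [rm_fix hy.1 (hy.2 p h), rm_fix hy.1 hya, y1]⟩
  have hbad : ¬ Bad (S \ T) (rm a x) (rm b y) := fun h => (h.2.1 c (by
    simp only [hT, Finset.mem_sdiff, Finset.mem_insert, Finset.mem_singleton, not_or]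
    exact ⟨hy.app_mem hyb, hac.symm, hyb⟩)).2 y2
  have hcard : (rm a x).support.card = (rm b y).support.card := by
    have e1 := card_rm hx.1 ha
    have e2 := card_rm hy.1 hyb
    omega
  obtain ⟨z, hz, hzx, hzy⟩ := IH (S \ T) _ _ (card_lt_of (hx.mem ha) (by simp [hT])) hx' hy' hcard hbad
  have za : z a = a := hz.2 a (by simp [hT])
  have zb : z b = b := hz.2 b (by simp [hT])
  refine ⟨swap a b * z, ⟨mul_invol (swap_mul_self _ _) hz.1 (swap_comm_of_fix za zb), fun p hp => ?_⟩, ?_, ?_⟩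
  · rw [Perm.mul_apply, hz.2 p (fun h => hp (Finset.mem_sdiff.mp h).1), swap_apply_of_ne_of_ne]
    exacts [fun e => hp (e ▸ hx.mem ha), fun e => hp (e ▸ hx.app_mem ha)]
  · have : x * (swap a b * z) = rm a x * z := by
      conv_lhs => rw [eq_swap_mul_rm a x]
      rw [mul_assoc, ← mul_assoc (rm a x), swap_comm_of_fix x1 x2, mul_assoc, ← mul_assoc, swap_mul_self,
        one_mul]
    rwa [this]
  · have : y * (swap a b * z) = tri c b a * (rm b y * z) := by
      conv_lhs => rw [eq_swap_mul_rm b y]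
      rw [mul_assoc, ← mul_assoc (rm b y), swap_comm_of_fix (rm_fix hy.1 hya) y1, tri, swap_comm c b,
        swap_comm b a]
      simp only [mul_assoc]
      rfl
    rw [this]
    refine odd_insert hzy ?_ ?_ hab.symm hyb hac.symm
    · rw [Perm.mul_apply, zb, y1]
    · rw [Perm.mul_apply, za, rm_fix hy.1 hya]

/-- four points with two fixed-point-free involutions -/
theorem bad_shape {S : Finset α} {x y : Perm α} (hx : On S x) (hy : On S y) (h : Bad S x y) {e : α}
    (he : e ∈ S) : x e ≠ y e ∧ x (y e) = y (x e) ∧ y (x e) ∈ S ∧ y (x e) ≠ e ∧ y (x e) ≠ x e := by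
  obtain ⟨h4, hmov, hne⟩ := h
  have hfe : x e ∈ S := hx.app_mem (hmov e he).1
  have hne' : x e ≠ y e := by
    intro heq
    apply hne
    ext w
    by_cases hw : w ∈ S
    · by_cases h1 : w = e
      · rw [h1, heq]
      by_cases h2 : w = x e
      · rw [h2, app_app hx.1]; rw [heq, app_app hy.1]
      -- the other two points
      have hT : ((S.erase e).erase (x e)).card = 2 := by
        rw [Finset.card_erase_of_mem (Finset.mem_erase.mpr ⟨(hmov e he).1, hfe⟩),
          Finset.card_erase_of_mem he, h4]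
      obtain ⟨g, g', hgg, hTe⟩ := Finset.card_eq_two.mp hT
      have hin : ∀ u : Perm α, On S u → u w ≠ w → u w ≠ e → u w ≠ x e → u w ∈ ({g, g'} : Finset α) ∧
          w ∈ ({g, g'} : Finset α) := fun u hu a1 a2 a3 => by
        rw [← hTe]
        simp [Finset.mem_erase, hw, h1, h2, a2, a3, hu.app_mem a1]
      obtain ⟨u1, u2⟩ := hin x hx (hmov w hw).1 (fun k => h2 (eq_swap_side hx.1 k).symm)
        (fun k => h1 (x.injective k))
      obtain ⟨u3, -⟩ := hin y hy (hmov w hw).2 (fun k => h2 (by rw [heq]; exact (eq_swap_side hy.1 k).symm))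
        (fun k => h1 (y.injective (heq ▸ k)))
      have h5 := (hmov w hw).1
      have h6 := (hmov w hw).2
      simp only [Finset.mem_insert, Finset.mem_singleton] at u1 u2 u3
      rcases u2 with rfl | rfl <;> rcases u1 with k1 | k1 <;> rcases u3 with k2 | k2 <;>
        simp_all
    · rw [hx.2 w hw, hy.2 w hw]
  have hye : y e ∈ S := hy.app_mem (hmov e he).2
  have key : ∀ {u v : Perm α}, On S u → On S v → (∀ p ∈ S, u p ≠ p ∧ v p ≠ p) → u e ≠ v e →
      v (u e) ∈ S ∧ v (u e) ≠ e ∧ v (u e) ≠ u e ∧ v (u e) ≠ v e := by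
    intro u v hu hv hm hne2
    have hf := hu.app_mem (hm e he).1
    exact ⟨hv.app_mem (hm _ hf).2, fun k => hne2 (eq_swap_side hv.1 k).symm, (hm _ hf).2,
      fun k => (hm e he).1 (v.injective k)⟩
  obtain ⟨k1, k2, k3, k4⟩ := key hx hy hmov hne'
  obtain ⟨l1, l2, l3, l4⟩ := key hy hx (fun p hp => ⟨(hmov p hp).2, (hmov p hp).1⟩) (Ne.symm hne')
  refine ⟨hne', ?_, k1, k2, k3⟩
  have hT : (((S.erase e).erase (x e)).erase (y e)).card = 1 := by
    rw [Finset.card_erase_of_mem, Finset.card_erase_of_mem (Finset.mem_erase.mpr ⟨(hmov e he).1, hfe⟩),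
      Finset.card_erase_of_mem he, h4]
    simp [Finset.mem_erase, Ne.symm hne', (hmov e he).2, hye]
  obtain ⟨g, hg⟩ := Finset.card_eq_one.mp hT
  have m1 : y (x e) ∈ ({g} : Finset α) := by rw [← hg]; simp [Finset.mem_erase, k1, k2, k3, k4]
  have m2 : x (y e) ∈ ({g} : Finset α) := by rw [← hg]; simp [Finset.mem_erase, l1, l2, l3, l4]
  rw [Finset.mem_singleton.mp m1, Finset.mem_singleton.mp m2]

theorem eq_via (f : Fin 8 ↪ α) (x₀ : Perm (Fin 8)) {x : Perm α} (h : ∀ i, x (f i) = f (x₀ i))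
    (h' : ∀ p, p ∉ Set.range f → x p = p) : x = Perm.viaEmbeddingHom f x₀ := by
  ext p
  rw [Perm.viaEmbeddingHom_apply]
  by_cases hp : p ∈ Set.range f
  · obtain ⟨i, rfl⟩ := hp
    rw [h, Perm.viaEmbedding_apply]
  · rw [h' p hp, Perm.viaEmbedding_apply_of_notMem _ _ _ hp]

theorem mem_of_nodup {L : List α} (h : L.Nodup) {i j : ℕ} (hi : i < L.length) (hj : j < L.length)
    (hij : i ≠ j) : L[i] ≠ L[j] := fun e => hij ((h.getElem_inj_iff).mp e)

/-- eight points carrying two four-cycles or one eight-cycle -/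
theorem eight {S : Finset α} {x y : Perm α} (hS : S.card = 8) (hx : On S x) (hy : On S y) (L : List α)
    (hL : L.Nodup) (hlen : L.length = 8) (hLS : ∀ p ∈ L, p ∈ S)
    (x₀ y₀ : Perm (Fin 8))
    (hxv : ∀ i : Fin 8, x (L[i.val]'(hlen.symm ▸ i.isLt)) = L[(x₀ i).val]'(hlen.symm ▸ (x₀ i).isLt))
    (hyv : ∀ i : Fin 8, y (L[i.val]'(hlen.symm ▸ i.isLt)) = L[(y₀ i).val]'(hlen.symm ▸ (y₀ i).isLt))
    (z₀ : Perm (Fin 8)) (hz : z₀ * z₀ = 1) (h15x : (x₀ * z₀) ^ 15 = 1) (h15y : (y₀ * z₀) ^ 15 = 1) :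
    Sol S x y := by
  let f : Fin 8 ↪ α := ⟨fun i => L[i.val]'(hlen.symm ▸ i.isLt), fun i j h => Fin.ext ((hL.getElem_inj_iff).mp h)⟩
  have hrange : ∀ p, p ∉ Set.range f → p ∉ S := by
    intro p hp hpS
    have : Finset.univ.map f = S := Finset.eq_of_subset_of_card_le (fun q hq => by
      obtain ⟨i, -, rfl⟩ := Finset.mem_map.mp hq
      exact hLS _ (List.getElem_mem _)) (by rw [hS, Finset.card_map, Finset.card_univ, Fintype.card_fin])
    rw [← this] at hpS
    obtain ⟨i, -, rfl⟩ := Finset.mem_map.mp hpS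
    exact hp ⟨i, rfl⟩
  rw [eq_via f x₀ hxv (fun p hp => hx.2 p (hrange p hp)), eq_via f y₀ hyv (fun p hp => hy.2 p (hrange p hp))]
  refine ⟨Perm.viaEmbeddingHom f z₀, ⟨by rw [← map_mul, hz, map_one], fun p hp => ?_⟩, ?_, ?_⟩
  · rw [Perm.viaEmbeddingHom_apply, Perm.viaEmbedding_apply_of_notMem]
    rintro ⟨i, rfl⟩
    exact hp (hLS _ (List.getElem_mem _))
  all_goals
    rw [← map_mul, orderOf_injective _ (Perm.viaEmbeddingHom_injective f)]
    refine Odd.of_dvd_nat (show Odd 15 by decide) (orderOf_dvd_of_pow_eq_one ?_)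
    first | exact h15x | exact h15y

/-- the involution of eight points used in both exceptional cases -/
def zEight : Perm (Fin 8) := swap 0 1 * swap 2 4 * swap 3 7 * swap 5 6

/-- the first table -/
def xEight : Perm (Fin 8) := swap 0 1 * swap 2 3 * swap 4 5 * swap 6 7

/-- two four-cycles -/
def yEightA : Perm (Fin 8) := swap 1 2 * swap 3 0 * swap 5 6 * swap 7 4

/-- one eight-cycle -/
def yEightB : Perm (Fin 8) := swap 1 2 * swap 3 4 * swap 5 6 * swap 7 0

theorem c4_edge_x {a b c d e f : α} (h : [a, b, c, d, e, f].Nodup) :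
    swap a c * swap b e * swap d f * swap e f * (swap a b * swap c d) = tri e d a * tri f b c := by
  simp only [List.nodup_cons, List.mem_cons, List.not_mem_nil, or_false, not_or] at h
  ext w
  simp only [tri, Perm.mul_apply, swap_apply_def]
  grind

theorem c4_edge_y {a b c d e f : α} (h : [a, b, c, d, e, f].Nodup) :
    swap a c * swap b e * swap d f * swap e f * (swap b c * swap a d) = tri e d c * tri f b a := by
  simp only [List.nodup_cons, List.mem_cons, List.not_mem_nil, or_false, not_or] at h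
  ext w
  simp only [tri, Perm.mul_apply, swap_apply_def]
  grind

theorem c4_point_x {a b c d f : α} (h : [a, b, c, d, f].Nodup) :
    swap a b * swap c f * (swap a b * swap c d) = tri f c d := by
  simp only [List.nodup_cons, List.mem_cons, List.not_mem_nil, or_false, not_or] at h
  ext w
  simp only [tri, Perm.mul_apply, swap_apply_def]
  grind

theorem c4_point_y {a b c d f : α} (h : [a, b, c, d, f].Nodup) :
    swap a b * swap c f * (swap b c * swap a d) = tri d c a * tri f d b := by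
  simp only [List.nodup_cons, List.mem_cons, List.not_mem_nil, or_false, not_or] at h
  ext w
  simp only [tri, Perm.mul_apply, swap_apply_def]
  grind

theorem hexagon {p q r s u v : α} (h : [p, q, r, s, u, v].Nodup) :
    swap p q * swap r s * swap u v * (swap q r * swap s u) * swap p v = tri v q s * tri p u r := by
  simp only [List.nodup_cons, List.mem_cons, List.not_mem_nil, or_false, not_or] at h
  ext w
  simp only [tri, Perm.mul_apply, swap_apply_def]
  grind

/-- two insertions at once -/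
theorem odd_insert_two {q : Perm α} {v a b v' a' b' : α} (hq : Odd (orderOf q)) (ha : q a = a) (hb : q b = b)
    (ha' : q a' = a') (hb' : q b' = b') (h1 : [v, a, b].Nodup) (h2 : [v', a', b'].Nodup)
    (h3 : a ∉ [v', a', b']) (h4 : b ∉ [v', a', b']) : Odd (orderOf (tri v a b * (tri v' a' b' * q))) := by
  simp only [List.nodup_cons, List.mem_cons, List.not_mem_nil, or_false, not_or] at h1 h2 h3 h4
  obtain ⟨⟨k1, k2⟩, k3, -⟩ := h1
  obtain ⟨⟨l1, l2⟩, l3, -⟩ := h2
  obtain ⟨-, -, -, t⟩ := tri_apply l1 l2 l3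
  refine odd_insert (odd_insert hq ha' hb' l3 l1 l2) ?_ ?_ k3 k1 k2
  · rw [Perm.mul_apply, ha, t a h3.1 h3.2.1 h3.2.2]
  · rw [Perm.mul_apply, hb, t b h4.1 h4.2.1 h4.2.2]

/-- a four-cycle component is inserted -/
theorem step_c4 {S : Finset α} {x y : Perm α} (IH : Below S) (hx : On S x) (hy : On S y)
    (hc : x.support.card = y.support.card) (hnb : ¬ Bad S x y) {a : α} (ha : x a ≠ a) (hya : y a ≠ a)
    (hne : x a ≠ y a) (hcomm : x (y a) = y (x a)) : Sol S x y := by
  obtain ⟨b, hb⟩ : ∃ b, b = x a := ⟨_, rfl⟩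
  obtain ⟨d, hd⟩ : ∃ d, d = y a := ⟨_, rfl⟩
  obtain ⟨c, hcdef⟩ : ∃ c, c = y b := ⟨_, rfl⟩
  have hxd : x d = c := by rw [hd, hcdef, hb, hcomm]
  have hxb : x b = a := by rw [hb, app_app hx.1]
  have hyd : y d = a := by rw [hd, app_app hy.1]
  have hxc : x c = d := eq_swap_side hx.1 hxd
  have hyc : y c = b := eq_swap_side hy.1 hcdef.symm
  have hab : a ≠ b := hb ▸ ha.symm
  have had : a ≠ d := hd ▸ hya.symm
  have hbd : b ≠ d := hb ▸ hd ▸ hne
  have hca : c ≠ a := fun h => hbd (by rw [← hyc, h, ← hd])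
  have hcd : c ≠ d := fun h => hab (by rw [← hyd, ← h, hyc])
  have hcb : c ≠ b := fun h => had (by rw [← hxb, ← h, hxc])
  have haS : a ∈ S := hx.mem ha
  have hbS : b ∈ S := hb ▸ hx.app_mem ha
  have hdS : d ∈ S := hd ▸ hy.app_mem hya
  have hcS : c ∈ S := hx.mem (by rw [hxc]; exact hcd.symm)
  -- the rests
  obtain ⟨x'', hx''⟩ : ∃ w, w = rm a x := ⟨_, rfl⟩
  obtain ⟨y'', hy''⟩ : ∃ w, w = rm a y := ⟨_, rfl⟩
  obtain ⟨x', hx'⟩ : ∃ w, w = rm c x'' := ⟨_, rfl⟩
  obtain ⟨y', hy'⟩ : ∃ w, w = rm b y'' := ⟨_, rfl⟩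
  have ix'' : x'' * x'' = 1 := hx'' ▸ rm_invol hx.1 a
  have iy'' : y'' * y'' = 1 := hy'' ▸ rm_invol hy.1 a
  obtain ⟨u1, u2, u3⟩ := rm_apply hx.1 a
  obtain ⟨w1, w2, w3⟩ := rm_apply hy.1 a
  rw [← hb, ← hx''] at u2 u3
  rw [← hx''] at u1
  rw [← hd, ← hy''] at w2 w3
  rw [← hy''] at w1
  have hxc'' : x'' c = d := by rw [u3 c hca hcb, hxc]
  have hyb'' : y'' b = c := by rw [w3 b hab.symm hbd, hcdef]
  obtain ⟨v1, v2, v3⟩ := rm_apply ix'' c
  obtain ⟨z1, z2, z3⟩ := rm_apply iy'' b
  rw [hxc'', ← hx'] at v2 v3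
  rw [← hx'] at v1
  rw [hyb'', ← hy'] at z2 z3
  rw [← hy'] at z1
  set T : Finset α := {a, b, c, d} with hT
  have hTmem : ∀ {p}, p ∈ T ↔ p = a ∨ p = b ∨ p = c ∨ p = d := by simp [hT]
  have hTS : T ⊆ S := fun p hp => by rcases hTmem.mp hp with rfl | rfl | rfl | rfl <;> assumption
  have hTc : T.card = 4 := by
    rw [hT, Finset.card_insert_of_notMem (by simp [hab, had, hca.symm]),
      Finset.card_insert_of_notMem (by simp [hbd, hcb.symm]), Finset.card_pair hcd]
  have hxout : ∀ p, p ≠ a → p ≠ b → p ≠ c → p ≠ d → x' p = x p := fun p h1 h2 h3 h4 => by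
    rw [v3 p h3 h4, u3 p h1 h2]
  have hyout : ∀ p, p ≠ a → p ≠ b → p ≠ c → p ≠ d → y' p = y p := fun p h1 h2 h3 h4 => by
    rw [z3 p h2 h3, w3 p h1 h4]
  have fixT : ∀ p ∈ T, x' p = p ∧ y' p = p := by
    intro p hp
    rcases hTmem.mp hp with h | h | h | h <;> rw [h]
    · exact ⟨by rw [v3 a hca.symm had, u1], by rw [z3 a hab hca.symm, w1]⟩
    · exact ⟨by rw [v3 b hcb.symm hbd, u2], z1⟩
    · exact ⟨v1, z2⟩
    · exact ⟨v2, by rw [z3 d hbd.symm hcd.symm, w2]⟩
  have hS'x : On (S \ T) x' := ⟨hx' ▸ rm_invol ix'' c, fun p hp => by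
    by_cases hpT : p ∈ T
    · exact (fixT p hpT).1
    · rw [hTmem] at hpT; push Not at hpT
      rw [hxout p hpT.1 hpT.2.1 hpT.2.2.1 hpT.2.2.2, hx.2 p fun h => hp (Finset.mem_sdiff.mpr ⟨h, by
        rw [hTmem]; push Not; exact hpT⟩)]⟩
  have hS'y : On (S \ T) y' := ⟨hy' ▸ rm_invol iy'' b, fun p hp => by
    by_cases hpT : p ∈ T
    · exact (fixT p hpT).2
    · rw [hTmem] at hpT; push Not at hpT
      rw [hyout p hpT.1 hpT.2.1 hpT.2.2.1 hpT.2.2.2, hy.2 p fun h => hp (Finset.mem_sdiff.mpr ⟨h, by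
        rw [hTmem]; push Not; exact hpT⟩)]⟩
  have xdec : x = swap a b * swap c d * x' := by
    have e1 := eq_swap_mul_rm a x
    have e2 := eq_swap_mul_rm c x''
    rw [← hb, ← hx''] at e1
    rw [hxc'', ← hx'] at e2
    rw [e1, e2]; simp only [mul_assoc]
  have ydec : y = swap b c * swap a d * y' := by
    have e1 := eq_swap_mul_rm a y
    have e2 := eq_swap_mul_rm b y''
    rw [← hd, ← hy''] at e1
    rw [hyb'', ← hy'] at e2
    rw [e1, e2, ← mul_assoc, swap_comm_of_fix (q := swap a d)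
      (swap_apply_of_ne_of_ne hab.symm hbd) (swap_apply_of_ne_of_ne hca hcd)]
  have hcard : x'.support.card = y'.support.card := by
    have e1 := card_rm hx.1 ha
    have e2 := card_rm hy.1 hya
    have e3 := card_rm ix'' (a := c) (by rw [hxc'']; exact hcd.symm)
    have e4 := card_rm iy'' (a := b) (by rw [hyb'']; exact hcb)
    rw [← hx''] at e1; rw [← hy''] at e2; rw [← hx'] at e3; rw [← hy'] at e4
    omega
  have hlt : (S \ T).card < S.card := card_lt_of haS (by simp [hT])
  by_cases hbad : Bad (S \ T) x' y'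
  · -- eight points
    obtain ⟨e, he⟩ : (S \ T).Nonempty := Finset.card_pos.mp (by rw [hbad.1]; norm_num)
    obtain ⟨m1, m2, m3, m4, m5⟩ := bad_shape hS'x hS'y hbad he
    have hout : ∀ p ∈ S \ T, p ≠ a ∧ p ≠ b ∧ p ≠ c ∧ p ≠ d := fun p hp => by
      have := (Finset.mem_sdiff.mp hp).2
      rw [hTmem] at this; push Not at this; exact this
    have hf := hS'x.app_mem (hbad.2.1 e he).1
    have hh := hS'y.app_mem (hbad.2.1 e he).2
    have eX : ∀ p ∈ S \ T, x p = x' p := fun p hp => by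
      obtain ⟨k1, k2, k3, k4⟩ := hout p hp; rw [hxout p k1 k2 k3 k4]
    have eY : ∀ p ∈ S \ T, y p = y' p := fun p hp => by
      obtain ⟨k1, k2, k3, k4⟩ := hout p hp; rw [hyout p k1 k2 k3 k4]
    have ge : y' (x' e) ≠ y' e := fun k => (hbad.2.1 e he).1 (y'.injective k)
    refine eight (x₀ := xEight) (y₀ := yEightA) (z₀ := zEight) (L := [a, b, c, d, e, x' e, y' (x' e), y' e])
      (by rw [← Finset.card_sdiff_add_card_eq_card hTS, hTc, hbad.1]) hx hy ?_ rfl ?_ ?_ ?_
      (by decide +kernel) (by decide +kernel) (by decide +kernel)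
    · obtain ⟨ea, eb, ec, ed⟩ := hout e he
      obtain ⟨fa, fb, fc, fd⟩ := hout _ hf
      obtain ⟨ga, gb, gc, gd⟩ := hout _ m3
      obtain ⟨ha', hb', hc', hd'⟩ := hout _ hh
      simp only [List.nodup_cons, List.mem_cons, List.not_mem_nil, or_false, not_or, List.nodup_nil,
        and_true, not_false_iff]
      have := (hbad.2.1 e he).1.symm
      have := (hbad.2.1 e he).2.symm
      grind
    · intro p hp
      simp only [List.mem_cons, List.not_mem_nil, or_false] at hp
      rcases hp with rfl | rfl | rfl | rfl | rfl | rfl | rfl | rfl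
      exacts [haS, hbS, hcS, hdS, (Finset.mem_sdiff.mp he).1, (Finset.mem_sdiff.mp hf).1,
        (Finset.mem_sdiff.mp m3).1, (Finset.mem_sdiff.mp hh).1]
    · intro i; fin_cases i
      · exact hb.symm
      · exact hxb
      · exact hxc
      · exact hxd
      · exact eX e he
      · exact (eX _ hf).trans (app_app hS'x.1 e)
      · exact (eX _ m3).trans (by rw [← m2, app_app hS'x.1]; rfl)
      · exact (eX _ hh).trans m2
    · intro i; fin_cases i
      · exact hd.symm
      · exact hcdef.symm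
      · exact hyc
      · exact hyd
      · exact eY e he
      · exact eY _ hf
      · exact (eY _ m3).trans (app_app hS'y.1 _)
      · exact (eY _ hh).trans (app_app hS'y.1 e)
  obtain ⟨z, hz, hzx, hzy⟩ := IH (S \ T) x' y' hlt hS'x hS'y hcard hbad
  rw [← OddGraph.orderOf_mul_comm_invol hS'x.1 hz.1] at hzx
  rw [← OddGraph.orderOf_mul_comm_invol hS'y.1 hz.1] at hzy
  have zT : ∀ p ∈ T, z p = p := fun p hp => hz.2 p fun h => (Finset.mem_sdiff.mp h).2 hp
  have za := zT a (by simp [hT]); have zb := zT b (by simp [hT])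
  have zc := zT c (by simp [hT]); have zd := zT d (by simp [hT])
  have zfix : ∀ p, p ∉ S → z p = p := fun p hp => hz.2 p fun h => hp (Finset.mem_sdiff.mp h).1
  have hfixq : ∀ w, w ∈ T → (z * x') w = w ∧ (z * y') w = w := fun w hw => by
    rw [Perm.mul_apply, Perm.mul_apply, (fixT w hw).1, (fixT w hw).2]
    exact ⟨zT w hw, zT w hw⟩
  have qa := hfixq a (by simp [hT]); have qb := hfixq b (by simp [hT])
  have qc := hfixq c (by simp [hT]); have qd := hfixq d (by simp [hT])
  by_cases hmv : ∃ e, z e ≠ e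
  · -- insertion at a transposition of `z`
    obtain ⟨e, hze⟩ := hmv
    obtain ⟨f, hf⟩ : ∃ f, f = z e := ⟨_, rfl⟩
    have heT : e ∉ T := fun h => hze (zT e h)
    have hfT : f ∉ T := fun h => hze (hf.symm.trans (z.injective ((zT f h).trans hf)))
    have heS : e ∈ S := by by_contra h; exact hze (zfix e h)
    have hfS : f ∈ S := by
      by_contra h
      exact hze (hf.symm.trans (z.injective ((zfix f h).trans hf)))
    rw [hTmem] at heT hfT; push Not at heT hfT
    obtain ⟨ea, eb, ec, ed⟩ := heT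
    obtain ⟨fa, fb, fc, fd⟩ := hfT
    have hef : e ≠ f := hf ▸ hze.symm
    have hnd : [a, b, c, d, e, f].Nodup := by
      simp [hab, had, hbd, hca.symm, hcd, hcb.symm, ea.symm, eb.symm, ec.symm, ed.symm, fa.symm, fb.symm,
        fc.symm, fd.symm, hef]
    obtain ⟨r1, r2, r3⟩ := rm_apply hz.1 e
    rw [← hf] at r2 r3
    have hzz : swap e f * z = rm e z := by rw [rm, hf]
    have hW : swap a c * swap b e * swap d f * (swap a c * swap b e * swap d f) = 1 := by
      ext w
      simp only [Perm.mul_apply, Perm.one_apply, swap_apply_def]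
      grind
    have hZ : swap a c * swap b e * swap d f * swap e f * z * (swap a c * swap b e * swap d f * swap e f * z) = 1 := by
      rw [mul_assoc _ (swap e f) z, hzz]
      refine mul_invol hW (rm_invol hz.1 e) ?_
      exact (Commute.mul_right (Commute.mul_right (swap_comm_of_fix (rm_fix hz.1 za) (rm_fix hz.1 zc))
        (swap_comm_of_fix (rm_fix hz.1 zb) r1)) (swap_comm_of_fix (rm_fix hz.1 zd) r2))
    refine ⟨swap a c * swap b e * swap d f * swap e f * z, ⟨hZ, fun p hp => ?_⟩, ?_, ?_⟩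
    · have hne : ∀ {w}, w ∈ S → p ≠ w := fun hw e => hp (e ▸ hw)
      simp only [Perm.mul_apply, zfix p hp, swap_apply_of_ne_of_ne (hne heS) (hne hfS),
        swap_apply_of_ne_of_ne (hne hdS) (hne hfS), swap_apply_of_ne_of_ne (hne hbS) (hne heS),
        swap_apply_of_ne_of_ne (hne haS) (hne hcS)]
    · rw [← OddGraph.orderOf_mul_comm_invol hx.1 hZ]
      have : swap a c * swap b e * swap d f * swap e f * z * x = tri e d a * (tri f b c * (z * x')) := by
        rw [← mul_assoc (tri e d a), ← c4_edge_x hnd, xdec]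
        have hcm : z * (swap a b * swap c d) = swap a b * swap c d * z :=
          (Commute.mul_right (swap_comm_of_fix za zb) (swap_comm_of_fix zc zd) :)
        rw [mul_assoc _ z, ← mul_assoc z, hcm]
        simp only [mul_assoc]
      rw [this]
      refine odd_insert_two hzx qd.1 qa.1 qb.1 qc.1 ?_ ?_ ?_ ?_ <;>
        (simp only [List.nodup_cons, List.mem_cons, List.not_mem_nil, or_false, not_or]; grind)
    · rw [← OddGraph.orderOf_mul_comm_invol hy.1 hZ]
      have : swap a c * swap b e * swap d f * swap e f * z * y = tri e d c * (tri f b a * (z * y')) := by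
        rw [← mul_assoc (tri e d c), ← c4_edge_y hnd, ydec]
        have hcm : z * (swap b c * swap a d) = swap b c * swap a d * z :=
          (Commute.mul_right (swap_comm_of_fix zb zc) (swap_comm_of_fix za zd) :)
        rw [mul_assoc _ z, ← mul_assoc z, hcm]
        simp only [mul_assoc]
      rw [this]
      refine odd_insert_two hzy qd.2 qc.2 qb.2 qa.2 ?_ ?_ ?_ ?_ <;>
        (simp only [List.nodup_cons, List.mem_cons, List.not_mem_nil, or_false, not_or]; grind)
  · -- insertion at a fixed point of `z`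
    push Not at hmv
    have hz1 : z = 1 := Equiv.ext hmv
    subst hz1
    obtain ⟨f, hf⟩ : (S \ T).Nonempty := by
      rw [Finset.nonempty_iff_ne_empty, Ne, Finset.sdiff_eq_empty_iff_subset]
      intro hST
      refine hnb ⟨?_, fun p hp => ?_, fun h => hne (by rw [h])⟩
      · rw [Finset.Subset.antisymm hST hTS, hTc]
      · rcases hTmem.mp (hST hp) with rfl | rfl | rfl | rfl
        · exact ⟨ha, hya⟩
        · exact ⟨by rw [hxb]; exact hab, by rw [← hcdef]; exact hcb⟩
        · exact ⟨by rw [hxc]; exact hcd.symm, by rw [hyc]; exact hcb.symm⟩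
        · exact ⟨by rw [hxd]; exact hcd, by rw [hyd]; exact had⟩
    obtain ⟨hfS, hfT⟩ := Finset.mem_sdiff.mp hf
    rw [hTmem] at hfT; push Not at hfT
    obtain ⟨fa, fb, fc, fd⟩ := hfT
    have hnd : [a, b, c, d, f].Nodup := by
      simp [hab, had, hbd, hca.symm, hcd, hcb.symm, fa.symm, fb.symm, fc.symm, fd.symm]
    have hZ : swap a b * swap c f * (swap a b * swap c f) = 1 :=
      mul_invol (swap_mul_self _ _) (swap_mul_self _ _)
        (swap_comm_of_fix (swap_apply_of_ne_of_ne hca.symm fa.symm) (swap_apply_of_ne_of_ne hcb.symm fb.symm))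
    refine ⟨swap a b * swap c f, ⟨hZ, fun p hp => ?_⟩, ?_, ?_⟩
    · have hne : ∀ {w}, w ∈ S → p ≠ w := fun hw e => hp (e ▸ hw)
      simp only [Perm.mul_apply, swap_apply_of_ne_of_ne (hne hcS) (hne hfS),
        swap_apply_of_ne_of_ne (hne haS) (hne hbS)]
    · rw [← OddGraph.orderOf_mul_comm_invol hx.1 hZ]
      have : swap a b * swap c f * x = tri f c d * (1 * x') := by
        rw [← c4_point_x hnd, xdec, one_mul]
        simp only [mul_assoc]
      rw [this]
      exact odd_insert hzx qc.1 qd.1 hcd fc fd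
    · rw [← OddGraph.orderOf_mul_comm_invol hy.1 hZ]
      have : swap a b * swap c f * y = tri d c a * (tri f d b * (1 * y')) := by
        rw [← mul_assoc (tri d c a), ← c4_point_y hnd, ydec, one_mul]
        simp only [mul_assoc]
      rw [this]
      refine odd_insert_two hzy qc.2 qa.2 qd.2 qb.2 ?_ ?_ ?_ ?_ <;>
        (simp only [List.nodup_cons, List.mem_cons, List.not_mem_nil, or_false, not_or]; grind)

/-- two isolated transpositions, one of each involution, are joined -/
theorem step_pair {S : Finset α} {x y : Perm α} (IH : Below S) (hx : On S x) (hy : On S y)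
    (hc : x.support.card = y.support.card) {u p : α} (hu : x u ≠ u) (hyu : y u = u)
    (hyv : y (x u) = x u) (hp : y p ≠ p) (hxp : x p = p) (hxq : x (y p) = y p)
    (hnc : ¬ ∃ a, x a ≠ a ∧ y a ≠ a ∧ x a ≠ y a ∧ x (y a) = y (x a)) : Sol S x y := by
  obtain ⟨x1, x2, x3⟩ := rm_apply hx.1 u
  obtain ⟨y1, y2, y3⟩ := rm_apply hy.1 p
  set v := x u with hv
  set q := y p with hq
  have hup : u ≠ p := fun h => hp (by rw [hq, ← h]; exact hyu)
  have hvp : v ≠ p := fun h => hp (by rw [hq, ← h]; exact hyv)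
  have huq : u ≠ q := fun h => hu (by rw [hv, h]; exact hxq)
  have hvu : v ≠ u := hu
  set T : Finset α := {u, v, p, q} with hT
  have hout : ∀ w, w ∉ S \ T → w ∉ S ∨ w = u ∨ w = v ∨ w = p ∨ w = q := fun w hw => by
    simp only [hT, Finset.mem_sdiff, Finset.mem_insert, Finset.mem_singleton] at hw; tauto
  have hx' : On (S \ T) (rm u x) := ⟨rm_invol hx.1 u, fun w hw => by
    rcases hout w hw with h | rfl | rfl | rfl | rfl
    exacts [rm_fix hx.1 (hx.2 w h), x1, x2, rm_fix hx.1 hxp, rm_fix hx.1 hxq]⟩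
  have hy' : On (S \ T) (rm p y) := ⟨rm_invol hy.1 p, fun w hw => by
    rcases hout w hw with h | rfl | rfl | rfl | rfl
    exacts [rm_fix hy.1 (hy.2 w h), rm_fix hy.1 hyu, rm_fix hy.1 hyv, y1, y2]⟩
  have hbad : ¬ Bad (S \ T) (rm u x) (rm p y) := fun h => by
    obtain ⟨e, he⟩ : (S \ T).Nonempty := Finset.card_pos.mp (by rw [h.1]; norm_num)
    obtain ⟨m1, m2, -, -, -⟩ := bad_shape hx' hy' h he
    have hm : ∀ w ∈ S \ T, rm u x w = x w ∧ rm p y w = y w := fun w hw => by
      simp only [hT, Finset.mem_sdiff, Finset.mem_insert, Finset.mem_singleton, not_or] at hw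
      exact ⟨x3 w hw.2.1 hw.2.2.1, y3 w hw.2.2.2.1 hw.2.2.2.2⟩
    obtain ⟨e1, e2⟩ := hm e he
    have e3 := (hm _ (hy'.app_mem (h.2.1 e he).2)).1
    have e4 := (hm _ (hx'.app_mem (h.2.1 e he).1)).2
    have h1 := h.2.1 e he
    rw [e1, e2] at m1 h1
    rw [e2] at e3; rw [e1] at e4
    rw [e2, e3, e1, e4] at m2
    exact hnc ⟨e, h1.1, h1.2, m1, m2⟩
  have hcard : (rm u x).support.card = (rm p y).support.card := by
    have e1 := card_rm hx.1 hu
    have e2 := card_rm hy.1 hp
    omega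
  obtain ⟨z, hz, hzx, hzy⟩ := IH (S \ T) _ _ (card_lt_of (hx.mem hu) (by simp [hT])) hx' hy' hcard hbad
  have zv : z v = v := hz.2 v (by simp [hT])
  have zp : z p = p := hz.2 p (by simp [hT])
  have hvS : v ∈ S := hx.app_mem hu
  have hpS : p ∈ S := hy.mem hp
  refine ⟨swap v p * z, ⟨mul_invol (swap_mul_self _ _) hz.1 (swap_comm_of_fix zv zp), fun w hw => ?_⟩, ?_, ?_⟩
  · rw [Perm.mul_apply, hz.2 w (fun h => hw (Finset.mem_sdiff.mp h).1), swap_apply_of_ne_of_ne]
    exacts [fun e => hw (e ▸ hvS), fun e => hw (e ▸ hpS)]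
  · have : x * (swap v p * z) = tri u v p * (rm u x * z) := by
      conv_lhs => rw [eq_swap_mul_rm u x]
      rw [mul_assoc, ← mul_assoc (rm u x), swap_comm_of_fix x2 (rm_fix hx.1 hxp), tri]
      simp only [mul_assoc]
      rfl
    rw [this]
    refine odd_insert hzx ?_ ?_ hvp hvu.symm hup
    · rw [Perm.mul_apply, zv, x2]
    · rw [Perm.mul_apply, zp, rm_fix hx.1 hxp]
  · have : y * (swap v p * z) = tri q p v * (rm p y * z) := by
      conv_lhs => rw [eq_swap_mul_rm p y]
      rw [mul_assoc, ← mul_assoc (rm p y), swap_comm_of_fix (rm_fix hy.1 hyv) y1, tri, swap_comm q p,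
        swap_comm p v]
      simp only [mul_assoc]
      rfl
    rw [this]
    refine odd_insert hzy ?_ ?_ hvp.symm hp ?_
    · rw [Perm.mul_apply, zp, y1]
    · rw [Perm.mul_apply, zv, rm_fix hy.1 hyv]
    · exact fun h => hu (by
        have := hxq; rw [h, hv, app_app hx.1] at this; exact this.symm)

/-- a common transposition is removed -/
theorem step_common {S : Finset α} {x y : Perm α} (IH : Below S) (hx : On S x) (hy : On S y)
    (hc : x.support.card = y.support.card) {a : α} (ha : x a ≠ a) (hxy : x a = y a)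
    (hnc : ¬ ∃ a, x a ≠ a ∧ y a ≠ a ∧ x a ≠ y a ∧ x (y a) = y (x a)) : Sol S x y := by
  obtain ⟨x1, x2, x3⟩ := rm_apply hx.1 a
  obtain ⟨y1, y2, y3⟩ := rm_apply hy.1 a
  rw [← hxy] at y2 y3
  set b := x a with hb
  set T : Finset α := {a, b} with hT
  have hout : ∀ p, p ∉ S \ T → p ∉ S ∨ p = a ∨ p = b := fun p hp => by
    simp only [hT, Finset.mem_sdiff, Finset.mem_insert, Finset.mem_singleton] at hp; tauto
  have hx' : On (S \ T) (rm a x) := ⟨rm_invol hx.1 a, fun p hp => by
    rcases hout p hp with h | rfl | rfl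
    exacts [rm_fix hx.1 (hx.2 p h), x1, x2]⟩
  have hy' : On (S \ T) (rm a y) := ⟨rm_invol hy.1 a, fun p hp => by
    rcases hout p hp with h | rfl | rfl
    exacts [rm_fix hy.1 (hy.2 p h), y1, y2]⟩
  have hbad : ¬ Bad (S \ T) (rm a x) (rm a y) := fun h => by
    obtain ⟨e, he⟩ : (S \ T).Nonempty := Finset.card_pos.mp (by rw [h.1]; norm_num)
    obtain ⟨m1, m2, -, -, -⟩ := bad_shape hx' hy' h he
    have hm : ∀ w ∈ S \ T, rm a x w = x w ∧ rm a y w = y w := fun w hw => by
      simp only [hT, Finset.mem_sdiff, Finset.mem_insert, Finset.mem_singleton, not_or] at hw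
      exact ⟨x3 w hw.2.1 hw.2.2, y3 w hw.2.1 hw.2.2⟩
    obtain ⟨e1, e2⟩ := hm e he
    have e3 := (hm _ (hy'.app_mem (h.2.1 e he).2)).1
    have e4 := (hm _ (hx'.app_mem (h.2.1 e he).1)).2
    have h1 := h.2.1 e he
    rw [e1, e2] at m1 h1
    rw [e2] at e3; rw [e1] at e4
    rw [e2, e3, e1, e4] at m2
    exact hnc ⟨e, h1.1, h1.2, m1, m2⟩
  have hya : y a ≠ a := hxy ▸ ha
  have hcard : (rm a x).support.card = (rm a y).support.card := by
    have e1 := card_rm hx.1 ha
    have e2 := card_rm hy.1 hya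
    omega
  obtain ⟨z, hz, hzx, hzy⟩ := IH (S \ T) _ _ (card_lt_of (hx.mem ha) (by simp [hT])) hx' hy' hcard hbad
  have za : z a = a := hz.2 a (by simp [hT])
  have zb : z b = b := hz.2 b (by simp [hT])
  have key : ∀ {w : Perm α}, w a = b → rm a w a = a → rm a w b = b →
      w * (swap a b * z) = rm a w * z := fun {w} hw w1 w2 => by
    conv_lhs => rw [eq_swap_mul_rm a w, hw]
    rw [mul_assoc, ← mul_assoc (rm a w), swap_comm_of_fix w1 w2, mul_assoc, ← mul_assoc, swap_mul_self,
      one_mul]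
  refine ⟨swap a b * z, ⟨mul_invol (swap_mul_self _ _) hz.1 (swap_comm_of_fix za zb), fun p hp => ?_⟩, ?_, ?_⟩
  · rw [Perm.mul_apply, hz.2 p (fun h => hp (Finset.mem_sdiff.mp h).1), swap_apply_of_ne_of_ne]
    exacts [fun e => hp (e ▸ hx.mem ha), fun e => hp (e ▸ hx.app_mem ha)]
  · rwa [key hb.symm x1 x2]
  · rwa [key hxy.symm y1 y2]

/-- six consecutive points of a long cycle are contracted to two -/
theorem step_long {S : Finset α} {x y : Perm α} (IH : Below S) (hx : On S x) (hy : On S y)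
    (hc : x.support.card = y.support.card) (hsup : ∀ a, x a = a ↔ y a = a) (hne : ∀ a, x a ≠ a → x a ≠ y a)
    {p : α} (hp : x p ≠ p)
    (hnc : ¬ ∃ a, x a ≠ a ∧ y a ≠ a ∧ x a ≠ y a ∧ x (y a) = y (x a)) : Sol S x y := by
  obtain ⟨q, hq⟩ : ∃ w, w = x p := ⟨_, rfl⟩
  obtain ⟨r, hr⟩ : ∃ w, w = y q := ⟨_, rfl⟩
  obtain ⟨s, hs⟩ : ∃ w, w = x r := ⟨_, rfl⟩
  obtain ⟨u, hu⟩ : ∃ w, w = y s := ⟨_, rfl⟩
  obtain ⟨v, hv⟩ : ∃ w, w = x u := ⟨_, rfl⟩
  have mx : ∀ {a}, x a ≠ a → y a ≠ a := fun h e => h ((hsup _).mpr e)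
  have my : ∀ {a}, y a ≠ a → x a ≠ a := fun h e => h ((hsup _).mp e)
  have hxq : x q = p := by rw [hq, app_app hx.1]
  have hpq : p ≠ q := fun h => hp (by rw [← hq, h])
  have mq : x q ≠ q := by rw [hxq]; exact hpq
  have hyr : y r = q := by rw [hr, app_app hy.1]
  have hqr : q ≠ r := fun h => mx mq (by rw [← hr]; exact h.symm)
  have hrp : r ≠ p := fun h => hne q mq (by rw [hxq, ← hr, h])
  have mr : x r ≠ r := my (by rw [hyr]; exact hqr)
  have hxs : x s = r := by rw [hs, app_app hx.1]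
  have hrs : r ≠ s := fun h => mr (by rw [← hs]; exact h.symm)
  have hsp : s ≠ p := fun h => hqr (by rw [hq, ← h, hxs])
  have hsq : s ≠ q := fun h => hrp (by rw [← hxq, ← h, hxs])
  have ms : x s ≠ s := by rw [hxs]; exact hrs
  have hyu : y u = s := by rw [hu, app_app hy.1]
  have hus : u ≠ s := fun h => mx ms (hu ▸ h)
  have hur : u ≠ r := fun h => hne s ms (by rw [hxs, ← hu, h])
  have huq : u ≠ q := fun h => hrs (by rw [hr, ← h, hyu])
  have hup : u ≠ p := fun h => by
    have e1 : y p = s := h ▸ hyu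
    exact hnc ⟨p, hp, mx hp, fun e => hsq (by rw [← e1, ← e, hq]), by rw [e1, hxs, ← hq, hr]⟩
  have mu : x u ≠ u := my (by rw [hyu]; exact hus.symm)
  have hxv : x v = u := by rw [hv, app_app hx.1]
  have hvu : v ≠ u := hv ▸ mu
  have hvs : v ≠ s := fun h => hur (x.injective (by rw [← hv, ← hs, h]))
  have hvr : v ≠ r := fun h => hus (x.injective (by rw [← hv, hxs, h]))
  have hvq : v ≠ q := fun h => hup (x.injective (by rw [← hv, ← hq, h]))
  have hvp : v ≠ p := fun h => huq (x.injective (by rw [← hv, hxq, h]))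
  have hpS : p ∈ S := hx.mem hp
  have hqS : q ∈ S := hq ▸ hx.app_mem hp
  have hrS : r ∈ S := hx.mem mr
  have hsS : s ∈ S := hx.mem ms
  have huS : u ∈ S := hx.mem mu
  have hvS : v ∈ S := hv ▸ hx.app_mem mu
  set T : Finset α := {q, r, s, u} with hT
  have hTmem : ∀ {w}, w ∈ T ↔ w = q ∨ w = r ∨ w = s ∨ w = u := by simp [hT]
  have hTS : T ⊆ S := fun w hw => by rcases hTmem.mp hw with rfl | rfl | rfl | rfl <;> assumption
  have hTc : T.card = 4 := by
    rw [hT, Finset.card_insert_of_notMem (by simp [hqr, hsq.symm, huq.symm]),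
      Finset.card_insert_of_notMem (by simp [hrs, hur.symm]), Finset.card_pair hus.symm]
  -- the contracted pair
  obtain ⟨x₁, hx₁⟩ : ∃ w, w = rm p x := ⟨_, rfl⟩
  have ix₁ : x₁ * x₁ = 1 := hx₁ ▸ rm_invol hx.1 p
  obtain ⟨a1, a2, a3⟩ := rm_apply hx.1 p
  rw [← hq, ← hx₁] at a2 a3; rw [← hx₁] at a1
  obtain ⟨x₂, hx₂⟩ : ∃ w, w = rm r x₁ := ⟨_, rfl⟩
  have ix₂ : x₂ * x₂ = 1 := hx₂ ▸ rm_invol ix₁ r
  obtain ⟨b1, b2, b3⟩ := rm_apply ix₁ r
  rw [a3 r hrp hqr.symm, ← hs, ← hx₂] at b2 b3; rw [← hx₂] at b1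
  obtain ⟨x₃, hx₃⟩ : ∃ w, w = rm u x₂ := ⟨_, rfl⟩
  have ix₃ : x₃ * x₃ = 1 := hx₃ ▸ rm_invol ix₂ u
  have hx₂u : x₂ u = v := by rw [b3 u hur hus, a3 u hup huq, hv]
  obtain ⟨c1, c2, c3⟩ := rm_apply ix₂ u
  rw [hx₂u, ← hx₃] at c2 c3; rw [← hx₃] at c1
  have f3 : ∀ {w}, x₂ w = w → x₃ w = w := fun h => hx₃ ▸ rm_fix ix₂ h
  have f2 : ∀ {w}, x₁ w = w → x₂ w = w := fun h => hx₂ ▸ rm_fix ix₁ h
  have gp : x₃ p = p := f3 (f2 a1)
  have gq : x₃ q = q := f3 (f2 a2)
  have gr : x₃ r = r := f3 b1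
  have gs : x₃ s = s := f3 b2
  have xdec : x = swap p q * swap r s * swap u v * x₃ := by
    have e1 := eq_swap_mul_rm p x
    have e2 := eq_swap_mul_rm r x₁
    have e3 := eq_swap_mul_rm u x₂
    rw [← hq, ← hx₁] at e1
    rw [a3 r hrp hqr.symm, ← hs, ← hx₂] at e2
    rw [hx₂u, ← hx₃] at e3
    rw [e1, e2, e3]; simp only [mul_assoc]
  obtain ⟨y₁, hy₁⟩ : ∃ w, w = rm q y := ⟨_, rfl⟩
  have iy₁ : y₁ * y₁ = 1 := hy₁ ▸ rm_invol hy.1 q
  obtain ⟨d1, d2, d3⟩ := rm_apply hy.1 q
  rw [← hr, ← hy₁] at d2 d3; rw [← hy₁] at d1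
  obtain ⟨y', hy'⟩ : ∃ w, w = rm s y₁ := ⟨_, rfl⟩
  obtain ⟨e1, e2, e3⟩ := rm_apply iy₁ s
  rw [d3 s hsq hrs.symm, ← hu, ← hy'] at e2 e3; rw [← hy'] at e1
  have ydec : y = swap q r * swap s u * y' := by
    have k1 := eq_swap_mul_rm q y
    have k2 := eq_swap_mul_rm s y₁
    rw [← hr, ← hy₁] at k1
    rw [d3 s hsq hrs.symm, ← hu, ← hy'] at k2
    rw [k1, k2]; simp only [mul_assoc]
  obtain ⟨x', hx'⟩ : ∃ w, w = swap p v * x₃ := ⟨_, rfl⟩
  have xin : ∀ w, w ∈ T → x' w = w ∧ y' w = w := by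
    intro w hw
    rcases hTmem.mp hw with h | h | h | h <;> rw [h]
    · exact ⟨by rw [hx', Perm.mul_apply, gq, swap_apply_of_ne_of_ne hpq.symm hvq.symm], hy' ▸ rm_fix iy₁ d1⟩
    · exact ⟨by rw [hx', Perm.mul_apply, gr, swap_apply_of_ne_of_ne hrp hvr.symm], hy' ▸ rm_fix iy₁ d2⟩
    · exact ⟨by rw [hx', Perm.mul_apply, gs, swap_apply_of_ne_of_ne hsp hvs.symm], e1⟩
    · exact ⟨by rw [hx', Perm.mul_apply, c1, swap_apply_of_ne_of_ne hup hvu.symm], e2⟩
  have xout : ∀ w, w ∉ T → w ≠ p → w ≠ v → x' w = x w ∧ y' w = y w := by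
    intro w hw hwp hwv
    rw [hTmem] at hw; push Not at hw
    obtain ⟨k1, k2, k3, k4⟩ := hw
    have : x₃ w = x w := by rw [c3 w k4 hwv, b3 w k2 k3, a3 w hwp k1]
    refine ⟨?_, by rw [e3 w k3 k4, d3 w k1 k2]⟩
    rw [hx', Perm.mul_apply, this, swap_apply_of_ne_of_ne]
    · exact fun h => k1 (by rw [hq, ← h, app_app hx.1])
    · exact fun h => k4 (by rw [← hxv, ← h, app_app hx.1])
  have yout : ∀ w, w ∉ T → y' w = y w := by
    intro w hw
    rw [hTmem] at hw; push Not at hw
    rw [e3 w hw.2.2.1 hw.2.2.2, d3 w hw.1 hw.2.1]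
  have ixp : x' * x' = 1 := by
    rw [hx']; exact mul_invol (swap_mul_self _ _) ix₃ (swap_comm_of_fix gp c2)
  have hS'x : On (S \ T) x' := ⟨ixp, fun w hw => by
    by_cases hwT : w ∈ T
    · exact (xin w hwT).1
    · have hwS : w ∉ S := fun h => hw (Finset.mem_sdiff.mpr ⟨h, hwT⟩)
      rw [(xout w hwT (fun e => hwS (e ▸ hpS)) (fun e => hwS (e ▸ hvS))).1, hx.2 w hwS]⟩
  have hS'y : On (S \ T) y' := ⟨hy' ▸ rm_invol iy₁ s, fun w hw => by
    by_cases hwT : w ∈ T
    · exact (xin w hwT).2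
    · rw [yout w hwT, hy.2 w fun h => hw (Finset.mem_sdiff.mpr ⟨h, hwT⟩)]⟩
  have hcard : x'.support.card = y'.support.card := by
    have k1 := card_rm hx.1 hp
    have k2 := card_rm ix₁ (a := r) (by rw [a3 r hrp hqr.symm]; exact mr)
    have k3 := card_rm ix₂ (a := u) (by rw [hx₂u]; exact hvu)
    have k4 := card_rm hy.1 (mx mq)
    have k5 := card_rm iy₁ (a := s) (by rw [d3 s hsq hrs.symm, ← hu]; exact hus)
    rw [← hx₁] at k1; rw [← hx₂] at k2; rw [← hx₃] at k3; rw [← hy₁] at k4; rw [← hy'] at k5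
    have k6 : x'.support.card = x₃.support.card + 2 := by
      rw [hx', Perm.Disjoint.card_support_mul (fun w => ?_), Perm.card_support_swap hvp.symm, add_comm]
      rcases eq_or_ne w p with rfl | h1
      · exact Or.inr gp
      rcases eq_or_ne w v with rfl | h2
      · exact Or.inr c2
      · exact Or.inl (swap_apply_of_ne_of_ne h1 h2)
    omega
  have pT : p ∈ S \ T := Finset.mem_sdiff.mpr ⟨hpS, by rw [hTmem]; push Not; exact ⟨hpq, hrp.symm, hsp.symm, hup.symm⟩⟩
  have vT : v ∈ S \ T := Finset.mem_sdiff.mpr ⟨hvS, by rw [hTmem]; push Not; exact ⟨hvq, hvr, hvs, hvu⟩⟩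
  have hx'p : x' p = v := by rw [hx', Perm.mul_apply, gp, swap_apply_left]
  by_cases hbad : Bad (S \ T) x' y'
  · obtain ⟨m1, m2, m3, m4, m5⟩ := bad_shape hS'x hS'y hbad pT
    rw [hx'p] at m1 m2 m3 m4 m5
    have hh := hS'y.app_mem (hbad.2.1 p pT).2
    obtain ⟨g, hg⟩ : ∃ w, w = y' v := ⟨_, rfl⟩
    obtain ⟨h, hh'⟩ : ∃ w, w = y' p := ⟨_, rfl⟩
    rw [← hg] at m2 m3 m4 m5
    rw [← hh'] at m1 m2 hh
    have hhp : h ≠ p := hh' ▸ (hbad.2.1 p pT).2
    have hgh : g ≠ h := fun k => hvp ((hS'y.1 |> fun _ => y'.injective) (by rw [← hg, ← hh', k]))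
    have hTh := (Finset.mem_sdiff.mp hh).2
    have hTg := (Finset.mem_sdiff.mp m3).2
    have hxh : x h = g := by rw [← (xout h hTh hhp m1.symm).1, m2]
    have hxg : x g = h := eq_swap_side hx.1 hxh
    have hyp : y p = h := by rw [← yout p (Finset.mem_sdiff.mp pT).2, hh']
    have hyv : y v = g := by rw [← yout v (Finset.mem_sdiff.mp vT).2, hg]
    refine eight (x₀ := xEight) (y₀ := yEightB) (z₀ := zEight) (L := [p, q, r, s, u, v, g, h])
      (by rw [← Finset.card_sdiff_add_card_eq_card hTS, hTc, hbad.1]) hx hy ?_ rfl ?_ ?_ ?_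
      (by decide +kernel) (by decide +kernel) (by decide +kernel)
    · rw [hTmem] at hTh hTg; push Not at hTh hTg
      obtain ⟨i1, i2, i3, i4⟩ := hTh
      obtain ⟨j1, j2, j3, j4⟩ := hTg
      simp only [List.nodup_cons, List.mem_cons, List.not_mem_nil, or_false, not_or, List.nodup_nil,
        and_true, not_false_iff]
      grind
    · intro w hw
      simp only [List.mem_cons, List.not_mem_nil, or_false] at hw
      rcases hw with rfl | rfl | rfl | rfl | rfl | rfl | rfl | rfl
      exacts [hpS, hqS, hrS, hsS, huS, hvS, (Finset.mem_sdiff.mp m3).1, (Finset.mem_sdiff.mp hh).1]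
    · intro i; fin_cases i
      · exact hq.symm
      · exact hxq
      · exact hs.symm
      · exact hxs
      · exact hv.symm
      · exact hxv
      · exact hxg
      · exact hxh
    · intro i; fin_cases i
      · exact hyp
      · exact hr.symm
      · exact hyr
      · exact hu.symm
      · exact hyu
      · exact hyv
      · exact eq_swap_side hy.1 hyv
      · exact eq_swap_side hy.1 hyp
  obtain ⟨z, hz, hzx, hzy⟩ := IH (S \ T) x' y' (card_lt_of hqS (by simp [hT])) hS'x hS'y hcard hbad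
  have zT : ∀ w ∈ T, z w = w := fun w hw => hz.2 w fun h => (Finset.mem_sdiff.mp h).2 hw
  have zq := zT q (by simp [hT]); have zr := zT r (by simp [hT])
  have zs := zT s (by simp [hT]); have zu := zT u (by simp [hT])
  have hfixq : ∀ w ∈ T, (x' * z) w = w ∧ (y' * z) w = w := fun w hw => by
    rw [Perm.mul_apply, Perm.mul_apply, zT w hw]; exact xin w hw
  have hW : swap q r * swap s u * (swap q r * swap s u) = 1 :=
    mul_invol (swap_mul_self _ _) (swap_mul_self _ _)
      (swap_comm_of_fix (swap_apply_of_ne_of_ne hsq.symm huq.symm) (swap_apply_of_ne_of_ne hrs hur.symm))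
  have hcm : z * (swap q r * swap s u) = swap q r * swap s u * z :=
    (Commute.mul_right (swap_comm_of_fix zq zr) (swap_comm_of_fix zs zu) :)
  refine ⟨swap q r * swap s u * z, ⟨mul_invol hW hz.1 hcm, fun w hw => ?_⟩, ?_, ?_⟩
  · have hne' : ∀ {a}, a ∈ S → w ≠ a := fun ha e => hw (e ▸ ha)
    simp only [Perm.mul_apply, hz.2 w (fun h => hw (Finset.mem_sdiff.mp h).1),
      swap_apply_of_ne_of_ne (hne' hsS) (hne' huS), swap_apply_of_ne_of_ne (hne' hqS) (hne' hrS)]
  · have : x * (swap q r * swap s u * z) = tri v q s * (tri p u r * (x' * z)) := by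
      have hnd : [p, q, r, s, u, v].Nodup := by
        simp [hpq, hrp.symm, hsp.symm, hup.symm, hvp.symm, hqr, hsq.symm, huq.symm, hvq.symm, hrs, hur.symm,
          hvr.symm, hus.symm, hvs.symm, hvu.symm]
      have hc3 : x₃ * (swap q r * swap s u) = swap q r * swap s u * x₃ :=
        (Commute.mul_right (swap_comm_of_fix gq gr) (swap_comm_of_fix gs c1) :)
      rw [← mul_assoc (tri v q s), ← hexagon hnd, xdec, hx', mul_assoc _ x₃, ← mul_assoc x₃, hc3]
      simp only [mul_assoc]
      rw [← mul_assoc (swap p v) (swap p v), swap_mul_self, one_mul]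
    rw [this]
    refine odd_insert_two hzx (hfixq q (by simp [hT])).1 (hfixq s (by simp [hT])).1 (hfixq u (by simp [hT])).1
      (hfixq r (by simp [hT])).1 ?_ ?_ ?_ ?_ <;>
      (simp only [List.nodup_cons, List.mem_cons, List.not_mem_nil, or_false, not_or]; grind)
  · have hcy : y' * (swap q r * swap s u) = swap q r * swap s u * y' :=
      (Commute.mul_right (swap_comm_of_fix (xin q (by simp [hT])).2 (xin r (by simp [hT])).2)
        (swap_comm_of_fix e1 e2) :)
    have : y * (swap q r * swap s u * z) = y' * z := by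
      rw [ydec, mul_assoc _ y', ← mul_assoc y', hcy, ← mul_assoc, ← mul_assoc, hW, one_mul]
    rwa [this]

/-- Two involutions with supports of the same size have a common odd neighbour, unless four points. -/
theorem exists_sol : ∀ (n : ℕ) (S : Finset α) (x y : Perm α), S.card = n → On S x → On S y →
    x.support.card = y.support.card → ¬ Bad S x y → Sol S x y := by
  intro n
  induction n using Nat.strong_induction_on with
  | _ n ih =>
  intro S x y hn hx hy hc hnb
  have IH : Below S := fun S' x' y' h a b c d => ih _ (hn ▸ h) S' x' y' rfl a b c d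
  by_cases hnc : ∃ a, x a ≠ a ∧ y a ≠ a ∧ x a ≠ y a ∧ x (y a) = y (x a)
  · obtain ⟨a, h1, h2, h3, h4⟩ := hnc
    exact step_c4 IH hx hy hc hnb h1 h2 h3 h4
  by_cases hA : ∃ a, x a ≠ a ∧ y a = a ∧ y (x a) ≠ x a
  · obtain ⟨a, h1, h2, h3⟩ := hA
    exact step_end IH hx hy hc h1 h2 h3
  by_cases hB : ∃ a, y a ≠ a ∧ x a = a ∧ x (y a) ≠ y a
  · obtain ⟨a, h1, h2, h3⟩ := hB
    exact (step_end IH hy hx hc.symm h1 h2 h3).symm
  push Not at hA hB
  by_cases hP : ∃ u, x u ≠ u ∧ y u = u
  · obtain ⟨u, hu, hyu⟩ := hP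
    obtain ⟨p, hp, hxp⟩ : ∃ p, y p ≠ p ∧ x p = p := by
      by_contra hcon
      push Not at hcon
      have hsub : y.support ⊆ x.support := fun w hw => Perm.mem_support.mpr (hcon w (Perm.mem_support.mp hw))
      have := Finset.eq_of_subset_of_card_le hsub hc.le
      exact Perm.mem_support.mp (this.ge (Perm.mem_support.mpr hu)) hyu
    exact step_pair IH hx hy hc hu hyu (hA u hu hyu) hp hxp (hB p hp hxp) hnc
  push Not at hP
  by_cases hE : ∃ a, x a ≠ a ∧ x a = y a
  · obtain ⟨a, h1, h2⟩ := hE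
    exact step_common IH hx hy hc h1 h2 hnc
  push Not at hE
  have hsup : ∀ a, x a = a ↔ y a = a := by
    have hsub : x.support ⊆ y.support := fun w hw => Perm.mem_support.mpr (hP w (Perm.mem_support.mp hw))
    have he := Finset.eq_of_subset_of_card_le hsub hc.ge
    intro a
    have := Finset.ext_iff.mp he a
    simp only [Perm.mem_support] at this
    exact not_iff_not.mp this
  by_cases hm : ∃ p, x p ≠ p
  · obtain ⟨p, hp⟩ := hm
    exact step_long IH hx hy hc hsup hE hp hnc
  · push Not at hm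
    have x1 : x = 1 := Equiv.ext hm
    have y1 : y = 1 := Equiv.ext fun a => (hsup a).mp (hm a)
    subst x1 y1
    exact ⟨1, ⟨one_mul _, fun _ _ => rfl⟩, by rw [one_mul, orderOf_one]; exact odd_one,
      by rw [one_mul, orderOf_one]; exact odd_one⟩

end CfsgLib.Involutions.OddProductPerm
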